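import Cfsg.Agent.Lib.Block.AbelianFree
import Cfsg.Agent.Lib.Invol.ZStar
import Mathlib.GroupTheory.Transfer

/-!
# Elements of an abelian Sylow 2-subgroup fixed by its normalizer

With trivial odd core they are central, and the group retracts onto their subgroup (transfer).
-/

set_option autoImplicit false
set_option linter.unusedSectionVars false

namespace CfsgLib.Block.FreeElementary

open Cfsg CfsgLib.Block.AbelianFree
open scoped IsMulCommutative

universe u

variable {G : Type u} [Group G] [Finite G] {P : Sylow 2 G}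

/-- The elements of `P` fixed by its normalizer. -/
def fixedPart (P : Sylow 2 G) : Subgroup G :=
  (P : Subgroup G) ⊓ Subgroup.centralizer (nor P : Set G)

theorem odd_index : Odd (P : Subgroup G).index := by
  haveI := Fact.mk Nat.prime_two
  rw [← Nat.not_even_iff_odd, even_iff_two_dvd]
  exact P.not_dvd_index

section transfer

variable [IsMulCommutative (P : Subgroup G)]

/-- The transfer into `P`. -/
noncomputable def verl (P : Sylow 2 G) [IsMulCommutative (P : Subgroup G)] : G →* (P : Subgroup G) :=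
  MonoidHom.transfer (MonoidHom.id (P : Subgroup G))

theorem verl_central {c : G} (hc : c ∈ (P : Subgroup G)) (hcz : c ∈ Subgroup.center G) :
    verl P c = (⟨c, hc⟩ : (P : Subgroup G)) ^ (P : Subgroup G).index := by
  rw [verl, MonoidHom.transfer_eq_pow _ c fun k g₀ _ => by
    rw [mul_assoc, ← Subgroup.mem_center_iff.mp (pow_mem hcz k) g₀, inv_mul_cancel_left]]
  exact Subtype.ext rfl

theorem eq_one_of_verl {c : G} (hc : c ∈ (P : Subgroup G)) (hcz : c ∈ Subgroup.center G)
    (h : verl P c = 1) : c = 1 := by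
  haveI := Fact.mk Nat.prime_two
  rw [verl_central hc hcz] at h
  obtain ⟨k, hk⟩ := IsPGroup.iff_orderOf.mp P.2 (⟨c, hc⟩ : (P : Subgroup G))
  have h1 : orderOf (⟨c, hc⟩ : (P : Subgroup G)) = 1 :=
    Nat.eq_one_of_dvd_coprimes (Nat.Coprime.pow_left k (Nat.coprime_two_left.mpr (odd_index (P := P))))
      (dvd_of_eq hk) (orderOf_dvd_of_pow_eq_one h)
  exact congrArg Subtype.val (orderOf_eq_one_iff.mp h1)

theorem verl_commutator (a b : G) : verl P (a * b * a⁻¹ * b⁻¹) = 1 := by
  simp only [map_mul, map_inv]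
  rw [mul_comm (verl P a) (verl P b), mul_inv_cancel_right, mul_inv_cancel]

theorem quotient_core (hO : ∀ N : Subgroup G, N.Normal → Odd (Nat.card N) → N = ⊥) {C : Subgroup G}
    [C.Normal] (hCP : C ≤ (P : Subgroup G)) (hCz : C ≤ Subgroup.center G) (N : Subgroup (G ⧸ C))
    (hN : N.Normal) (hodd : Odd (Nat.card N)) : N = ⊥ := by
  haveI := Fact.mk Nat.prime_two
  set N' := N.comap (QuotientGroup.mk' C) with hN'
  haveI : N'.Normal := hN.comap _
  have hK : N' ⊓ (verl P).ker = ⊥ := by
    refine hO _ inferInstance (hodd.of_dvd_nat ?_)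
    let f : ↥(N' ⊓ (verl P).ker) →* N :=
      ((QuotientGroup.mk' C).comp (N' ⊓ (verl P).ker).subtype).codRestrict N fun x => x.2.1
    refine Subgroup.card_dvd_of_injective f ((injective_iff_map_eq_one f).mpr fun x hx => ?_)
    have hxC : (x : G) ∈ C := (QuotientGroup.eq_one_iff (x : G)).mp (congrArg Subtype.val hx)
    exact Subtype.ext (eq_one_of_verl (hCP hxC) (hCz hxC) x.2.2)
  have hp : IsPGroup 2 N' := P.2.of_injective ((verl P).comp N'.subtype) ((injective_iff_map_eq_one _).mpr
    fun x hx => Subtype.ext (Subgroup.mem_bot.mp (hK ▸ (⟨x.2, hx⟩ : (x : G) ∈ N' ⊓ (verl P).ker))))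
  have hpN : IsPGroup 2 N := by
    have := hp.map (QuotientGroup.mk' C)
    rwa [hN', Subgroup.map_comap_eq_self_of_surjective (QuotientGroup.mk'_surjective C)] at this
  obtain ⟨k, hk⟩ := hpN.exists_card_eq
  refine Subgroup.eq_bot_of_card_eq N ?_
  rw [hk] at hodd ⊢
  cases k with
  | zero => rfl
  | succ k =>
    exact (Nat.not_even_iff_odd.mpr hodd (even_iff_two_dvd.mpr (dvd_pow_self 2 (Nat.succ_ne_zero k)))).elim

omit [IsMulCommutative (P : Subgroup G)] in
theorem pPrimeCore_eq_bot {X : Type u} [Group X] (hO : ∀ N : Subgroup X, N.Normal → Odd (Nat.card N) → N = ⊥) :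
    Cfsg.pPrimeCore 2 X = ⊥ :=
  le_bot_iff.mp (sSup_le fun N hN => (hO N hN.1 (Nat.coprime_two_right.mp hN.2)).le)

/-- **Fixed elements are central.** -/
theorem fixedPart_le_center (hO : ∀ N : Subgroup G, N.Normal → Odd (Nat.card N) → N = ⊥) :
    fixedPart P ≤ Subgroup.center G := by
  haveI := Fact.mk Nat.prime_two
  suffices h : ∀ k : ℕ, ∀ y ∈ fixedPart P, y ^ 2 ^ k = 1 → y ∈ Subgroup.center G by
    intro y hy
    obtain ⟨k, hk⟩ := P.2 ⟨y, hy.1⟩
    exact h k y hy (congrArg Subtype.val hk)
  intro k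
  induction k with
  | zero =>
    intro y _ h1
    rw [pow_zero, pow_one] at h1
    rw [h1]; exact one_mem _
  | succ k ih =>
    intro y hy h1
    have hc : y ^ 2 ∈ Subgroup.center G :=
      ih (y ^ 2) (pow_mem hy 2) (by rw [← pow_mul, ← pow_succ']; exact h1)
    set C := Subgroup.zpowers (y ^ 2) with hC
    have hCz : C ≤ Subgroup.center G := Subgroup.zpowers_le.mpr hc
    have hCP : C ≤ (P : Subgroup G) := Subgroup.zpowers_le.mpr (pow_mem hy.1 2)
    haveI : C.Normal := ⟨fun a ha g => by
      rw [Subgroup.mem_center_iff.mp (hCz ha) g, mul_inv_cancel_right]; exact ha⟩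
    by_cases hyC : y ∈ C
    · exact hCz hyC
    have hy2 : orderOf (y : G ⧸ C) = 2 := by
      refine orderOf_eq_prime ?_ fun e => hyC ((QuotientGroup.eq_one_iff y).mp e)
      rw [← QuotientGroup.mk_pow, QuotientGroup.eq_one_iff]
      exact Subgroup.mem_zpowers _
    have hz : CfsgLib.Invol.IsZCentral (y : G ⧸ C) := by
      refine CfsgLib.Invol.zstar_of_weakly_closed
        (P.mapSurjective (QuotientGroup.mk'_surjective C)) hy2 fun g hg => ?_
      obtain ⟨g, rfl⟩ := QuotientGroup.mk'_surjective C g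
      have hg' : ((g * y * g⁻¹ : G) : G ⧸ C) ∈ (P : Subgroup G).map (QuotientGroup.mk' C) := by
        rw [← Sylow.coe_mapSurjective]; exact hg
      obtain ⟨u, hu, e⟩ := hg'
      have h2 : g * y * g⁻¹ ∈ (P : Subgroup G) := by
        have h3 : u⁻¹ * (g * y * g⁻¹) ∈ C := QuotientGroup.eq.mp e
        have := mul_mem hu (hCP h3)
        rwa [mul_inv_cancel_left] at this
      obtain ⟨n, hn, e2⟩ := Sylow.conj_eq_normalizer_conj_of_mem P y g⁻¹ hy.1 (by rw [inv_inv]; exact h2)
      rw [inv_inv] at e2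
      have h4 : n⁻¹ * y * n = y := by
        rw [mul_assoc, ← Subgroup.mem_centralizer_iff.mp hy.2 n hn, inv_mul_cancel_left]
      exact congrArg (QuotientGroup.mk' C) (e2.trans h4)
    rw [Subgroup.mem_center_iff]
    intro g
    have h5 := hz (g : G ⧸ C)
    rw [pPrimeCore_eq_bot (quotient_core hO hCP hCz), Subgroup.mem_bot] at h5
    have h6 : y * g * y⁻¹ * g⁻¹ ∈ C := (QuotientGroup.eq_one_iff _).mp h5
    have h7 := eq_one_of_verl (hCP h6) (hCz h6) (verl_commutator y g)
    rw [mul_inv_eq_one, mul_inv_eq_iff_eq_mul] at h7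
    exact h7.symm

/-- **The retraction onto the fixed elements.** -/
theorem exists_retraction (hO : ∀ N : Subgroup G, N.Normal → Odd (Nat.card N) → N = ⊥) :
    ∃ π : G →* fixedPart P, ∀ z : fixedPart P, π z = z := by
  classical
  haveI := Fact.mk Nat.prime_two
  set f := (P : Subgroup G).normalizerMonoidHom with hf
  haveI := Fintype.ofFinite f.range
  let ν : (P : Subgroup G) →* (P : Subgroup G) :=
    { toFun := fun u => ∏ a : f.range, (a : MulAut (P : Subgroup G)) u
      map_one' := by simp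
      map_mul' := fun u v => by simp [Finset.prod_mul_distrib] }
  have hfix : ∀ u, ((ν u : (P : Subgroup G)) : G) ∈ fixedPart P := fun u =>
    ⟨(ν u).2, Subgroup.mem_centralizer_iff.mpr fun n hn => by
      set b : f.range := ⟨f ⟨n, hn⟩, ⟨⟨n, hn⟩, rfl⟩⟩
      have e : f ⟨n, hn⟩ (ν u) = ν u := by
        show f ⟨n, hn⟩ (∏ a : f.range, (a : MulAut (P : Subgroup G)) u) = _
        rw [map_prod]
        exact Fintype.prod_equiv (Equiv.mulLeft b) _ _ fun a => rfl
      have e' : n * (ν u : G) * n⁻¹ = (ν u : G) := congrArg Subtype.val e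
      exact mul_inv_eq_iff_eq_mul.mp e'⟩
  let ρ : G →* fixedPart P := ((P : Subgroup G).subtype.comp (ν.comp (verl P))).codRestrict _ fun g => hfix _
  have hk : ∀ z : fixedPart P, ρ z = z ^ ((P : Subgroup G).index * Nat.card f.range) := by
    intro z
    refine Subtype.ext ?_
    show ((ν (verl P (z : G)) : (P : Subgroup G)) : G) = _
    rw [verl_central z.2.1 (fixedPart_le_center hO z.2), map_pow]
    have hν : ν ⟨z, z.2.1⟩ = (⟨z, z.2.1⟩ : (P : Subgroup G)) ^ Nat.card f.range := by
      show ∏ a : f.range, _ = _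
      rw [Finset.prod_congr rfl (g := fun _ => (⟨z, z.2.1⟩ : (P : Subgroup G))) fun a _ => ?_,
        Finset.prod_const, Finset.card_univ, ← Nat.card_eq_fintype_card]
      obtain ⟨⟨n, hn⟩, hna⟩ := a.2
      rw [← hna]
      refine Subtype.ext ?_
      show n * (z : G) * n⁻¹ = z
      rw [Subgroup.mem_centralizer_iff.mp z.2.2 n hn, mul_inv_cancel_right]
    rw [hν, ← pow_mul, mul_comm]
    rfl
  have hodd : Odd (Nat.card f.range) := by
    rw [← Nat.not_even_iff_odd, even_iff_two_dvd]
    intro h2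
    refine P.not_dvd_index (h2.trans ?_)
    have hker : Nat.card f.range ∣ (P : Subgroup G).relIndex (nor P) := by
      rw [← Subgroup.index_ker, hf, Subgroup.normalizerMonoidHom_ker]
      refine Subgroup.relIndex_dvd_of_le_left (nor P) fun a ha => ?_
      exact Subgroup.mem_centralizer_iff.mpr fun b hb =>
        congrArg Subtype.val (mul_comm (⟨b, hb⟩ : (P : Subgroup G)) ⟨a, ha⟩)
    exact hker.trans (Subgroup.relIndex_mul_index (Subgroup.le_normalizer (H := (P : Subgroup G))) ▸ dvd_mul_right _ _)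
  have hcop : (Nat.card (fixedPart P)).Coprime ((P : Subgroup G).index * Nat.card f.range) := by
    obtain ⟨j, hj⟩ := (P.2.of_injective (Subgroup.inclusion (inf_le_left : fixedPart P ≤ (P : Subgroup G)))
      (Subgroup.inclusion_injective _)).exists_card_eq
    have hj' : Nat.card (fixedPart P) = 2 ^ j := hj
    rw [hj']
    exact Nat.Coprime.pow_left j (Nat.coprime_two_left.mpr ((odd_index (P := P)).mul hodd))
  haveI : IsMulCommutative (fixedPart P) := ⟨⟨fun a b =>
    Subtype.ext (Subgroup.mem_center_iff.mp (fixedPart_le_center hO b.2) a)⟩⟩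
  let j : fixedPart P ≃* fixedPart P :=
    MulEquiv.ofBijective (powMonoidHom ((P : Subgroup G).index * Nat.card f.range)) (powCoprime hcop).bijective
  exact ⟨j.symm.toMonoidHom.comp ρ, fun z => by
    show j.symm (ρ z) = z
    rw [hk]; exact j.symm_apply_apply z⟩

end transfer

end CfsgLib.Block.FreeElementary
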