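import Cfsg.Agent.Lib.Block.AbelianFree
import Cfsg.Agent.Lib.Block.FreeElementary.FixedPart

/-!
# The automizer of an abelian Sylow 2-subgroup with an involution with a 2-nilpotent centralizer
-/

set_option autoImplicit false
set_option linter.unusedSectionVars false

namespace CfsgLib.Block.FreeElementary

open Cfsg CfsgLib.Block.AbelianFree
open scoped IsMulCommutative

universe u

variable {G : Type u} [Group G] [Fintype G] {P : Sylow 2 G}

/-- The automizer. -/
abbrev auto (P : Sylow 2 G) : Subgroup (MulAut (P : Subgroup G)) :=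
  ((P : Subgroup G).normalizerMonoidHom).range

theorem relIndex_eq_card : (cen P).relIndex (nor P) = Nat.card (auto P) := by
  rw [← Subgroup.index_ker, Subgroup.normalizerMonoidHom_ker]
  rfl

variable [IsMulCommutative (P : Subgroup G)]

theorem le_cen_of_comm : (P : Subgroup G) ≤ cen P := fun a ha =>
  Subgroup.mem_centralizer_iff.mpr fun b hb =>
    congrArg Subtype.val (mul_comm (⟨b, hb⟩ : (P : Subgroup G)) ⟨a, ha⟩)

theorem odd_auto : Odd (Nat.card (auto P)) := by
  haveI := Fact.mk Nat.prime_two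
  rw [← relIndex_eq_card, ← Nat.not_even_iff_odd, even_iff_two_dvd]
  intro h2
  exact P.not_dvd_index ((h2.trans (Subgroup.relIndex_dvd_of_le_left (nor P) le_cen_of_comm)).trans
    (Subgroup.relIndex_mul_index (Subgroup.le_normalizer (H := (P : Subgroup G))) ▸ dvd_mul_right _ _))

theorem auto_fix_iff {n : G} (hn : n ∈ nor P) (u : (P : Subgroup G)) :
    (P : Subgroup G).normalizerMonoidHom ⟨n, hn⟩ u = u ↔ n * u = u * n := by
  rw [Subtype.ext_iff, coe_norHom, mul_inv_eq_iff_eq_mul]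

/-- An involution with a 2-nilpotent centralizer has trivial stabilizer in the automizer. -/
theorem mem_cen_of_commute {x n : G} (hx : x ∈ (P : Subgroup G))
    (hC : Cfsg.HasNormalPComplement 2 ↥(Subgroup.centralizer ({x} : Set G))) (hn : n ∈ nor P)
    (hnx : n * x = x * n) : n ∈ cen P := by
  haveI := Fact.mk Nat.prime_two
  set C := Subgroup.centralizer ({x} : Set G) with hCdef
  have hPC : (P : Subgroup G) ≤ C := fun a ha => Subgroup.mem_centralizer_singleton_iff.mpr
    (Subgroup.mem_centralizer_iff.mp (le_cen_of_comm ha) x hx).symm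
  have hc := CfsgLib.Fusion.hasNormalPComplement_iff_forall_sylow.mp hC (P.subtype hPC)
  haveI := CfsgLib.Fusion.pResidual_normal (G := C) (p := 2)
  set nC : C := ⟨n, Subgroup.mem_centralizer_singleton_iff.mpr hnx⟩
  obtain ⟨⟨⟨a, ha⟩, ⟨w, hw⟩⟩, e⟩ := hc.2 nC
  refine Subgroup.mem_centralizer_iff.mpr fun u hu => ?_
  set uC : C := ⟨u, hPC hu⟩
  have hwu : w * uC = uC * w := Subtype.ext (by
    rw [SetLike.mem_coe, Sylow.coe_subtype, Subgroup.mem_subgroupOf] at hw
    show (w : G) * u = u * (w : G)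
    exact congrArg Subtype.val (mul_comm (⟨(w : G), hw⟩ : (P : Subgroup G)) ⟨u, hu⟩))
  have h1 : nC * uC * nC⁻¹ * uC⁻¹ ∈ Cfsg.pResidual 2 C := by
    have e' : a * w = nC := e
    rw [show nC * uC * nC⁻¹ * uC⁻¹ = a * (uC * a⁻¹ * uC⁻¹) by
      rw [← e']
      calc a * w * uC * (a * w)⁻¹ * uC⁻¹ = a * (w * uC) * w⁻¹ * a⁻¹ * uC⁻¹ := by group
        _ = _ := by rw [hwu]; group]
    exact mul_mem ha ((inferInstance : (Cfsg.pResidual 2 C).Normal).conj_mem _ (inv_mem ha) _)
  have h2 : nC * uC * nC⁻¹ * uC⁻¹ ∈ (P.subtype hPC : Subgroup C) := by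
    rw [Sylow.coe_subtype, Subgroup.mem_subgroupOf]
    exact mul_mem ((Subgroup.mem_normalizer_iff.mp hn u).mp hu) (inv_mem hu)
  have h3 : nC * uC * nC⁻¹ * uC⁻¹ = 1 := Subgroup.mem_bot.mp
    ((disjoint_iff.mp hc.disjoint) ▸ (⟨h1, h2⟩ : _ ∈ Cfsg.pResidual 2 C ⊓ (P.subtype hPC : Subgroup C)))
  have h4 : n * u * n⁻¹ * u⁻¹ = 1 := congrArg Subtype.val h3
  rw [mul_inv_eq_one, mul_inv_eq_iff_eq_mul] at h4
  exact h4.symm

theorem eq_one_of_mem_cen {n : G} (hn : n ∈ nor P) (hc : n ∈ cen P) :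
    (P : Subgroup G).normalizerMonoidHom ⟨n, hn⟩ = 1 :=
  MulEquiv.ext fun u => (auto_fix_iff hn u).mpr (Subgroup.mem_centralizer_iff.mp hc u u.2).symm

theorem stabilizer_invol {x : G} (hx : x ∈ (P : Subgroup G))
    (hC : Cfsg.HasNormalPComplement 2 ↥(Subgroup.centralizer ({x} : Set G))) :
    MulAction.stabilizer (auto P) (⟨x, hx⟩ : (P : Subgroup G)) = ⊥ := by
  refine (Subgroup.eq_bot_iff_forall _).mpr ?_
  rintro ⟨_, ⟨n, hn⟩, rfl⟩ h
  exact Subtype.ext (eq_one_of_mem_cen hn (mem_cen_of_commute hx hC hn ((auto_fix_iff hn _).mp h)))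

/-- The orbit of the involution. -/
theorem card_orbit {x : G} (hx : x ∈ (P : Subgroup G))
    (hC : Cfsg.HasNormalPComplement 2 ↥(Subgroup.centralizer ({x} : Set G))) :
    Nat.card (MulAction.orbit (auto P) (⟨x, hx⟩ : (P : Subgroup G))) = Nat.card (auto P) := by
  rw [MulAction.orbit, ← MulAction.orbit,
    Nat.card_congr (MulAction.orbitEquivQuotientStabilizer (auto P) (⟨x, hx⟩ : (P : Subgroup G))),
    stabilizer_invol hx hC, ← Subgroup.index, Subgroup.index_bot]

/-- A set of points with trivial stabilizers. -/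
theorem card_dvd {Q : ↥(P : Subgroup G) → Prop} (hQ : ∀ (a : auto P) u, Q u → Q (a • u))
    (hfree : ∀ u, Q u → MulAction.stabilizer (auto P) u = ⊥) :
    Nat.card (auto P) ∣ Nat.card {u // Q u} := by
  letI : MulAction (auto P) {u // Q u} :=
    { smul := fun a u => ⟨a • (u : (P : Subgroup G)), hQ a u.1 u.2⟩
      one_smul := fun u => Subtype.ext (one_smul (auto P) (u : (P : Subgroup G)))
      mul_smul := fun a b u => Subtype.ext (mul_smul a b (u : (P : Subgroup G))) }
  have h : ∀ u : {u // Q u}, MulAction.stabilizer (auto P) u = ⊥ := fun u =>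
    (Subgroup.eq_bot_iff_forall _).mpr fun a ha => by
      have h1 : a ∈ MulAction.stabilizer (auto P) (u : (P : Subgroup G)) := congrArg Subtype.val ha
      rwa [hfree u.1 u.2, Subgroup.mem_bot] at h1
  rw [Nat.card_congr (MulAction.selfEquivOrbitsQuotientProd h), Nat.card_prod]
  exact dvd_mul_left _ _

/-- Trivial stabilizers give a free automizer. -/
theorem free_of_stabilizer
    (h : ∀ u : (P : Subgroup G), u ≠ 1 → MulAction.stabilizer (auto P) u = ⊥) : Free P := by
  refine ⟨inferInstance, fun y hy hy1 => le_antisymm (fun n hn => ?_) fun n hn => ⟨?_, cen_le_nor hn⟩⟩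
  · have h1 : (⟨_, ⟨⟨n, hn.2⟩, rfl⟩⟩ : auto P) ∈ MulAction.stabilizer (auto P) (⟨y, hy⟩ : (P : Subgroup G)) :=
      (auto_fix_iff hn.2 _).mpr (Subgroup.mem_centralizer_singleton_iff.mp hn.1)
    rw [h _ (fun e => hy1 (congrArg Subtype.val e)), Subgroup.mem_bot] at h1
    have h2 : (P : Subgroup G).normalizerMonoidHom ⟨n, hn.2⟩ = 1 := congrArg Subtype.val h1
    refine Subgroup.mem_centralizer_iff.mpr fun u hu => ((auto_fix_iff hn.2 ⟨u, hu⟩).mp ?_).symm
    rw [h2]; rfl
  · exact Subgroup.mem_centralizer_singleton_iff.mpr (Subgroup.mem_centralizer_iff.mp hn y hy).symm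

/-- Without fixed elements an automizer of prime order is free. -/
theorem stabilizer_of_prime (hF : fixedPart P = ⊥) (hp : (Nat.card (auto P)).Prime)
    (u : (P : Subgroup G)) (hu : u ≠ 1) : MulAction.stabilizer (auto P) u = ⊥ := by
  rcases (Nat.dvd_prime hp).mp (Subgroup.card_subgroup_dvd_card (MulAction.stabilizer (auto P) u)) with h | h
  · exact Subgroup.eq_bot_of_card_eq _ h
  · exfalso
    refine hu (Subtype.ext (Subgroup.mem_bot.mp (hF ▸ (⟨u.2, ?_⟩ : (u : G) ∈ fixedPart P))))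
    refine Subgroup.mem_centralizer_iff.mpr fun n hn => ?_
    have h1 : (⟨_, ⟨⟨n, hn⟩, rfl⟩⟩ : auto P) ∈ MulAction.stabilizer (auto P) u := by
      rw [Subgroup.eq_top_of_card_eq _ h]; trivial
    exact (auto_fix_iff hn u).mp h1

/-- A regular orbit filling `P - {1}` makes the automizer free. -/
theorem stabilizer_of_transitive {x : G} (hx : x ∈ (P : Subgroup G)) (hx1 : x ≠ 1)
    (hC : Cfsg.HasNormalPComplement 2 ↥(Subgroup.centralizer ({x} : Set G)))
    (he : Nat.card (auto P) + 1 = Nat.card P) (u : (P : Subgroup G)) (hu : u ≠ 1) :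
    MulAction.stabilizer (auto P) u = ⊥ ∧ u ∈ MulAction.orbit (auto P) (⟨x, hx⟩ : (P : Subgroup G)) := by
  set X : (P : Subgroup G) := ⟨x, hx⟩
  have hmem : u ∈ MulAction.orbit (auto P) X := by
    by_contra hne
    have hc := card_orbit hx hC
    have h1 : (1 : (P : Subgroup G)) ∉ MulAction.orbit (auto P) X := by
      rintro ⟨a, ha⟩
      have h2 : (a : MulAut (P : Subgroup G)) X = 1 := ha
      exact hx1 (congrArg Subtype.val ((map_eq_one_iff _ (MulEquiv.injective _)).mp h2))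
    have h3 : (MulAction.orbit (auto P) X).ncard + 2 ≤ Nat.card P := by
      rw [← Set.ncard_univ,
        show (MulAction.orbit (auto P) X).ncard + 2 = (insert (1 : (P : Subgroup G))
          (insert u (MulAction.orbit (auto P) X))).ncard by
          rw [Set.ncard_insert_of_notMem (by simp [h1, hu.symm]), Set.ncard_insert_of_notMem hne]]
      exact Set.ncard_le_ncard (Set.subset_univ _)
    rw [← Nat.card_coe_set_eq, hc] at h3
    omega
  refine ⟨?_, hmem⟩
  obtain ⟨a, rfl⟩ := hmem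
  rw [MulAction.stabilizer_smul_eq_stabilizer_map_conj, stabilizer_invol hx hC, Subgroup.map_bot]

theorem card_auto_le {x : G} (hx : x ∈ (P : Subgroup G)) (hx2 : orderOf x = 2)
    (hC : Cfsg.HasNormalPComplement 2 ↥(Subgroup.centralizer ({x} : Set G))) :
    Nat.card (auto P) ≤ Nat.card {u : (P : Subgroup G) // u ≠ 1 ∧ u ^ 2 = 1} := by
  rw [← card_orbit hx hC]
  have hX : (⟨x, hx⟩ : (P : Subgroup G)) ^ 2 = 1 := Subtype.ext (by
    show x ^ 2 = 1
    rw [← hx2]; exact pow_orderOf_eq_one x)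
  refine Nat.card_le_card_of_injective (fun o => ⟨o.1, ?_⟩) fun a b e =>
    Subtype.ext (congrArg (fun z : {u : (P : Subgroup G) // u ≠ 1 ∧ u ^ 2 = 1} => z.1) e)
  obtain ⟨a, ha⟩ := o.2
  have ha' : (a : MulAut (P : Subgroup G)) ⟨x, hx⟩ = o.1 := ha
  refine ⟨fun e => ?_, ?_⟩
  · rw [e, map_eq_one_iff _ (MulEquiv.injective _)] at ha'
    rw [show x = 1 from congrArg Subtype.val ha', orderOf_one] at hx2
    omega
  · rw [← ha', ← map_pow, hX, map_one]

/-- Without fixed elements the automizer is nontrivial. -/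
theorem auto_ne_one (hF : fixedPart P = ⊥) {x : G} (hx : x ∈ (P : Subgroup G)) (hx1 : x ≠ 1) :
    Nat.card (auto P) ≠ 1 := by
  intro h
  refine hx1 (Subgroup.mem_bot.mp (hF ▸ (⟨hx, Subgroup.mem_centralizer_iff.mpr fun n hn => ?_⟩ :
    x ∈ fixedPart P)))
  refine (auto_fix_iff hn ⟨x, hx⟩).mp ?_
  have : (P : Subgroup G).normalizerMonoidHom ⟨n, hn⟩ ∈ auto P := ⟨_, rfl⟩
  rw [Subgroup.card_eq_one.mp h, Subgroup.mem_bot] at this
  rw [this]; rfl

theorem card_invol_cases :
    ∃ r : ℕ, Nat.card {u : (P : Subgroup G) // u ≠ 1 ∧ u ^ 2 = 1} + 1 = 2 ^ r ∧ 2 ^ r ∣ Nat.card P ∧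
      Nat.card {u : (P : Subgroup G) // u ^ 2 = 1} = 2 ^ r ∧
      (2 ^ r = Nat.card P → ∀ v ∈ (P : Subgroup G), v * v = 1) := by
  haveI := Fact.mk Nat.prime_two
  set J := (powMonoidHom 2 : (P : Subgroup G) →* (P : Subgroup G)).ker
  obtain ⟨r, hr⟩ := (P.2.to_subgroup J).exists_card_eq
  have hJ : Nat.card {u : (P : Subgroup G) // u ^ 2 = 1} = 2 ^ r := hr
  refine ⟨r, ?_, hr ▸ Subgroup.card_subgroup_dvd_card J, hJ, fun h v hv => ?_⟩
  · rw [← hJ, ← Finite.card_option]
    refine Nat.card_eq_of_bijective (fun o : Option {u : (P : Subgroup G) // u ≠ 1 ∧ u ^ 2 = 1} =>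
      (o.elim ⟨1, one_pow 2⟩ fun u => ⟨u.1, u.2.2⟩ : {u : (P : Subgroup G) // u ^ 2 = 1})) ⟨?_, ?_⟩
    · intro a b e
      cases a with
      | none =>
        cases b with
        | none => rfl
        | some y => exact absurd (congrArg Subtype.val e).symm y.2.1
      | some x =>
        cases b with
        | none => exact absurd (congrArg Subtype.val e) x.2.1
        | some y => exact congrArg some (Subtype.ext
            (congrArg (fun z : {u : (P : Subgroup G) // u ^ 2 = 1} => z.1) e))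
    · rintro ⟨u, hu⟩
      by_cases h1 : u = 1
      · exact ⟨none, Subtype.ext h1.symm⟩
      · exact ⟨some ⟨u, h1, hu⟩, rfl⟩
  · have hmem : (⟨v, hv⟩ : (P : Subgroup G)) ∈ J := by
      rw [Subgroup.eq_top_of_card_eq J (hr.trans h)]; trivial
    have h2 : (⟨v, hv⟩ : (P : Subgroup G)) ^ 2 = 1 := hmem
    rw [← pow_two]
    exact congrArg Subtype.val h2

theorem card_dvd_sub_one (h : ∀ u : (P : Subgroup G), u ≠ 1 → MulAction.stabilizer (auto P) u = ⊥) :
    Nat.card (auto P) ∣ Nat.card P - 1 := by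
  have h1 := card_dvd (Q := fun u : (P : Subgroup G) => u ≠ 1) (fun a u hu e => hu
    ((smul_eq_iff_eq_inv_smul a).mp e |>.trans (by simp))) h
  convert h1 using 1
  classical
  haveI := Fintype.ofFinite (P : Subgroup G)
  rw [Nat.card_eq_fintype_card, Nat.card_eq_fintype_card, Fintype.card_subtype_compl,
    Fintype.card_subtype_eq]

theorem card_dvd_invol (h : ∀ u : (P : Subgroup G), u ≠ 1 → MulAction.stabilizer (auto P) u = ⊥) :
    Nat.card (auto P) ∣ Nat.card {u : (P : Subgroup G) // u ≠ 1 ∧ u ^ 2 = 1} :=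
  card_dvd (Q := fun u : (P : Subgroup G) => u ≠ 1 ∧ u ^ 2 = 1)
    (fun a u hu => ⟨fun e => hu.1 ((smul_eq_iff_eq_inv_smul a).mp e |>.trans (by simp)), by
      rw [← smul_pow', hu.2, smul_one]⟩) fun u hu => h u hu.1

end CfsgLib.Block.FreeElementary
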