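import Cfsg.Agent.Lib.Block.Cyclic.RegularLift
import Cfsg.Agent.Lib.Block.CentralQuot
import Cfsg.Agent.Lib.Block.LinearTwist
import Cfsg.Agent.Lib.Block.CentralDefect
import Cfsg.Agent.Lib.Char.Scalar

/-!
# A central `p`-subgroup with a retraction multiplies the number of characters of the principal block
-/

set_option autoImplicit false
set_option linter.unusedSectionVars false

namespace CfsgLib.Block.FreeElementary

open scoped IsMulCommutative
open Cfsg CfsgLib.Char CfsgLib.Block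

universe u

variable {p : ℕ} [Fact p.Prime] {M : Ideal AlgInt} {G : Type u} [Group G] [Fintype G]

theorem central_scalar (χ : IrrCharacter G) {z : G} (hz : z ∈ Subgroup.center G) :
    ∀ g, (χ : G → ℂ) (g * z) * (χ : G → ℂ) 1 = (χ : G → ℂ) g * (χ : G → ℂ) z := by
  obtain ⟨n, ρ, hρ, hχ⟩ := χ.2
  obtain ⟨c, hc⟩ := schur_scalar ρ (ρ z) fun x => by
    rw [← map_mul, ← map_mul, Subgroup.mem_center_iff.mp hz x]
  intro g
  rw [← hχ, Representation.char_one]
  simp only [Representation.character, map_mul, hc, Module.End.mul_eq_comp, LinearMap.comp_smul,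
    LinearMap.comp_id, map_smul, smul_eq_mul, LinearMap.trace_id]
  ring

/-- Twisting by a linear character with values one on the regular elements keeps the block. -/
theorem sameBlock_twist [DecidableEq G] (hM : IsPModular p M) {χ ψ : IrrCharacter G} {lam : G →* ℂˣ}
    (hψ : ∀ g, (ψ : G → ℂ) g = (lam g : ℂ) * (χ : G → ℂ) g)
    (hreg : ∀ g, ¬ p ∣ orderOf g → lam g = 1) : SameBlock M (χ : G → ℂ) (ψ : G → ℂ) := by
  haveI := hM.2.1
  refine sameBlock_of_regular hM fun g hg => congrArg (res M) (Subtype.ext ?_)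
  show centralChar (χ : G → ℂ) g = centralChar (ψ : G → ℂ) g
  simp [centralChar, hψ, hreg g hg]

/-- `k(B₀(G)) = |Z| k(B₀(G / Z))`. -/
theorem card_block_of_retraction (hM : IsPModular p M) {Z : Subgroup G} [Z.Normal] (hZp : IsPGroup p Z)
    (hZc : Z ≤ Subgroup.center G) (π : G →* Z) (hπ : ∀ z : Z, π z = z) :
    Nat.card (principalBlock M G) = Nat.card Z * Nat.card (principalBlock M (G ⧸ Z)) := by
  classical
  haveI := hM.2.1
  haveI := Fintype.ofFinite (G ⧸ Z)
  haveI hcz : IsMulCommutative Z := ⟨⟨fun a b => Subtype.ext (Subgroup.mem_center_iff.mp (hZc b.2) a)⟩⟩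
  haveI : NeZero ((Monoid.exponent Z : ℕ) : ℂ) := ⟨Nat.cast_ne_zero.mpr Monoid.exponent_ne_zero_of_finite⟩
  have hcard : Nat.card (Z →* ℂˣ) = Nat.card Z := CommGroup.card_monoidHom_of_hasEnoughRootsOfUnity Z ℂ
  have hreg : ∀ (lam : Z →* ℂˣ) (g : G), ¬ p ∣ orderOf g → lam.comp π g = 1 := by
    intro lam g hg
    have h1 : π g = 1 := by
      obtain ⟨k, hk⟩ := IsPGroup.iff_orderOf.mp hZp (π g)
      refine orderOf_eq_one_iff.mp (Nat.eq_one_of_dvd_coprimes
        (Nat.Coprime.pow_left k ((Fact.out : p.Prime).coprime_iff_not_dvd.mpr hg)) (dvd_of_eq hk)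
        (orderOf_map_dvd π g))
    simp [h1]
  choose tw htw using fun (lam : Z →* ℂˣ) (θ : IrrCharacter (G ⧸ Z)) =>
    exists_linear_twist (Cyclic.inflQ θ) (lam.comp π)
  have hmem : ∀ lam θ, θ ∈ principalBlock M (G ⧸ Z) → tw lam θ ∈ principalBlock M G := fun lam θ hθ =>
    sameBlock_trans ((Cyclic.inflQ_mem_principalBlock_iff hM hZp hZc θ).mpr hθ)
      (sameBlock_twist hM (htw lam θ) (hreg lam))
  rw [← hcard, ← Nat.card_prod]
  refine (Nat.card_eq_of_bijective (fun r : (Z →* ℂˣ) × principalBlock M (G ⧸ Z) =>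
    (⟨tw r.1 r.2, hmem r.1 r.2 r.2.2⟩ : principalBlock M G)) ⟨?_, ?_⟩).symm
  · rintro ⟨lam, θ⟩ ⟨lam', θ'⟩ e
    have e1 : ∀ g : G, (lam (π g) : ℂ) * (θ.1 : G ⧸ Z → ℂ) g = (lam' (π g) : ℂ) * (θ'.1 : G ⧸ Z → ℂ) g :=
      fun g => ((htw lam θ g).symm.trans (congrArg (fun χ : principalBlock M G =>
        ((χ : IrrCharacter G) : G → ℂ) g) e)).trans (htw lam' θ' g)
    have hd : (θ.1 : G ⧸ Z → ℂ) 1 = (θ'.1 : G ⧸ Z → ℂ) 1 := by
      have := e1 1
      simpa using this
    have hl : lam = lam' := MonoidHom.ext fun z => by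
      have h := e1 z
      rw [hπ, (QuotientGroup.eq_one_iff (z : G)).mpr z.2, hd] at h
      exact Units.ext (mul_right_cancel₀ (irr_one_ne_zero θ'.1) h)
    subst hl
    refine Prod.ext rfl (Subtype.ext (Subtype.ext (funext fun x => ?_)))
    obtain ⟨g, rfl⟩ := QuotientGroup.mk_surjective x
    exact mul_left_cancel₀ (Units.ne_zero _) (e1 g)
  · rintro ⟨χ, hχ⟩
    set c : Z → ℂ := fun z => (χ : G → ℂ) z / (χ : G → ℂ) 1
    have h0 := irr_one_ne_zero χ
    have hc1 : c 1 = 1 := div_self h0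
    have hcm : ∀ a b, c (a * b) = c a * c b := fun a b => by
      simp only [c, Subgroup.coe_mul]
      field_simp
      exact central_scalar χ (hZc b.2) a
    let lam : Z →* ℂˣ := MonoidHom.toHomUnits { toFun := c, map_one' := hc1, map_mul' := hcm }
    obtain ⟨ψ, hψ⟩ := exists_linear_twist χ (lam⁻¹.comp π)
    have hker : ∀ z ∈ Z, (ψ : G → ℂ) z = (ψ : G → ℂ) 1 := by
      intro z hz
      have hz' : (lam ⟨z, hz⟩ : ℂ) = (χ : G → ℂ) z / (χ : G → ℂ) 1 := rfl
      rw [hψ, hψ, map_one, Units.val_one, one_mul, MonoidHom.comp_apply, hπ ⟨z, hz⟩, MonoidHom.inv_apply,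
        Units.val_inv_eq_inv_val, inv_mul_eq_iff_eq_mul₀ (Units.ne_zero _), hz', div_mul_cancel₀ _ h0]
    obtain ⟨θ, hθ⟩ := exists_deflate (N := Z) ψ hker
    have hinf : Cyclic.inflQ θ = ψ := Subtype.ext (funext hθ)
    have hθmem : θ ∈ principalBlock M (G ⧸ Z) := by
      rw [← Cyclic.inflQ_mem_principalBlock_iff hM hZp hZc, hinf]
      exact sameBlock_trans hχ (sameBlock_twist hM hψ (hreg lam⁻¹))
    refine ⟨(lam, ⟨θ, hθmem⟩), Subtype.ext (Subtype.ext (funext fun g => ?_))⟩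
    rw [htw, show (Cyclic.inflQ θ : G → ℂ) g = (ψ : G → ℂ) g from congrFun (congrArg Subtype.val hinf) g,
      hψ, ← mul_assoc, MonoidHom.comp_apply, MonoidHom.comp_apply, MonoidHom.inv_apply,
      Units.val_inv_eq_inv_val, mul_inv_cancel₀ (Units.ne_zero _), one_mul]

end CfsgLib.Block.FreeElementary
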