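import Cfsg.Agent.Lib.Block.FreeElementary.Regular
import Cfsg.Agent.Lib.Char.SquareRoots

/-!
# The number of characters of the principal block for a transitive automizer

When `C(v) = P`, the Frobenius–Schur count of involutions forces `χ(1) = q + χ(v)` for every nontrivial
character, the third moment then forces `|χ(v)| ≤ 1`, and the principal block has `q` members.
-/

set_option autoImplicit false
set_option linter.unusedSectionVars false

namespace CfsgLib.Block.FreeElementary

open scoped ComplexConjugate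
open Cfsg CfsgLib.Char CfsgLib.Block CfsgLib.Block.AbelianFree

universe u

open scoped Classical

variable {G : Type u} [Group G] [Fintype G] {P : Sylow 2 G} (hP : Hyp P) {M : Ideal AlgInt}
  (hM : IsPModular 2 M) (htr : (cen P).relIndex (nor P) = (nz P).card) (hW : W P = ⊥)
include hP hM htr hW

omit hM in
theorem card_G : Nat.card G = (H P).index * Nat.card P * (nz P).card := by
  rw [← Subgroup.index_mul_card (H P), card_H hP, htr, hW, Subgroup.card_bot]; ring

omit hM htr in
theorem card_K_one {v : G} (hv : v ∈ nz P) : K v = ⊥ :=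
  le_bot_iff.mp (hW ▸ K_le_W (mem_nz.mp hv).1 (mem_nz.mp hv).2)

omit hM in
theorem card_invol {v : G} (hv : v ∈ nz P) :
    Nat.card {s : G // s * s = 1} = 1 + (H P).index * (nz P).card := by
  haveI := Fact.mk Nat.prime_two
  obtain ⟨hvP, hv1⟩ := mem_nz.mp hv
  have hcl : Nat.card {x : G // IsConj v x} = (H P).index * (nz P).card := by
    have h := card_class_mul hP hvP hv1
    rw [card_K_one hP hW hv, Subgroup.card_bot, mul_one, card_G hP htr hW] at h
    exact Nat.eq_of_mul_eq_mul_right (Nat.card_pos (α := P)) (h.trans (by ring))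
  rw [← hcl, add_comm, ← Finite.card_option]
  have hsq : ∀ x, IsConj v x → x * x = 1 ∧ x ≠ 1 := by
    intro x hx
    obtain ⟨k, rfl⟩ := isConj_iff.mp hx
    exact ⟨by rw [show k * v * k⁻¹ * (k * v * k⁻¹) = k * (v * v) * k⁻¹ by group, hP.elem v hvP]; group,
      fun e => hv1 (conj_eq_one_iff.mp e)⟩
  refine (Nat.card_eq_of_bijective (fun o : Option {x : G // IsConj v x} =>
    (o.elim ⟨1, mul_one 1⟩ fun x => ⟨x.1, (hsq x.1 x.2).1⟩ : {s : G // s * s = 1})) ⟨?_, ?_⟩).symm
  · intro a b e
    cases a with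
    | none =>
      cases b with
      | none => rfl
      | some y => exact absurd (congrArg Subtype.val e).symm (hsq y.1 y.2).2
    | some x =>
      cases b with
      | none => exact absurd (congrArg Subtype.val e) (hsq x.1 x.2).2
      | some y =>
        exact congrArg some (Subtype.ext
          (congrArg (fun z : {s : G // s * s = 1} => (z : G)) e))
  · rintro ⟨s, hs⟩
    by_cases h1 : s = 1
    · exact ⟨none, Subtype.ext h1.symm⟩
    obtain ⟨S, hS⟩ := (IsPGroup.of_card (n := 1) (by
      rw [Nat.card_zpowers, orderOf_eq_prime (by rw [pow_two, hs]) h1, pow_one]) :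
      IsPGroup 2 (Subgroup.zpowers s)).exists_le_sylow
    obtain ⟨k, rfl⟩ := MulAction.exists_smul_eq G P S
    obtain ⟨u, hu, e⟩ := hS (Subgroup.mem_zpowers s)
    have e' : k * u * k⁻¹ = s := e
    have hu1 : u ≠ 1 := fun hu1 => h1 (by rw [← e', hu1]; group)
    exact ⟨some ⟨s, (isConj_of_trans htr hP hv (mem_nz.mpr ⟨hu, hu1⟩)).trans
      (isConj_iff.mpr ⟨k, e'⟩)⟩, Subtype.ext rfl⟩

theorem value_zero [Fintype (IrrCharacter G)] {v : G} (hv : v ∈ nz P) {χ : IrrCharacter G}
    (hχ : χ ∉ principalBlock M G) : val χ v = 0 := by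
  obtain ⟨hvP, hv1⟩ := mem_nz.mp hv
  have h := secSum_eq_zero hP.free hM hvP hv1 hχ
  have e : Finset.univ.filter (· ∈ K v) = {(1 : G)} := by
    ext x; simp [card_K_one hP hW hv]
  rw [e, Finset.sum_singleton, mul_one,
    val_spec χ (hP.elem v hvP)] at h
  exact_mod_cast h

/-- Odd class size: no member of the principal block vanishes at `v`. -/
theorem value_ne_zero {v : G} (hv : v ∈ nz P) {χ : IrrCharacter G} (hχ : χ ∈ principalBlock M G) :
    val χ v ≠ 0 := by
  intro h0
  obtain ⟨hvP, hv1⟩ := mem_nz.mp hv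
  haveI := hM.2.1
  have h : MemLocalIdeal M (centralChar (fun _ : G => (1 : ℂ)) v - centralChar (χ : G → ℂ) v) := hχ v
  rw [centralChar, centralChar, val_spec χ (hP.elem v hvP), h0, Int.cast_zero, mul_zero, zero_div,
    sub_zero, div_one, mul_one, memLocalIdeal_natCast hM] at h
  have hi : (Subgroup.centralizer ({v} : Set G)).index = (H P).index * (nz P).card := by
    have := Subgroup.index_mul_card (Subgroup.centralizer ({v} : Set G))
    rw [card_centralizer hP.free hvP hv1, card_K_one hP hW hv, Subgroup.card_bot, one_mul,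
      card_G hP htr hW] at this
    exact Nat.eq_of_mul_eq_mul_right (Nat.card_pos (α := P)) (this.trans (by ring))
  rw [hi] at h
  obtain ⟨m, hm⟩ := index_mod hP
  obtain ⟨a, ha⟩ := odd_card_nz hP
  have hq : Even (Nat.card P) := ⟨a + 1, by have := card_nz (P := P); omega⟩
  have : Odd ((H P).index * (nz P).card) := by
    refine Nat.odd_mul.mpr ⟨?_, ⟨a, ha⟩⟩
    rw [hm, add_comm]
    exact (hq.mul_left m).add_one
  exact Nat.not_even_iff_odd.mpr this (even_iff_two_dvd.mpr h)

/-- The degrees. -/
theorem degree_eq [Fintype (IrrCharacter G)] (hO : ∀ N : Subgroup G, N.Normal → Odd (Nat.card N) → N = ⊥)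
    (hn : (H P).index ≠ 1) {v : G} (hv : v ∈ nz P) {χ : IrrCharacter G} (hne : χ ≠ oneChar G) :
    (charDegree (χ : G → ℂ) : ℤ) = (Nat.card P : ℤ) + val χ v ∧ -1 ≤ val χ v := by
  haveI := hM.2.1
  obtain ⟨hvP, hv1⟩ := mem_nz.mp hv
  set t := (nz P).card with ht
  have hqt : Nat.card P = t + 1 := card_nz.symm
  set n := (H P).index
  set F : IrrCharacter G → ℤ := fun θ => (charDegree (θ : G → ℂ) : ℤ) *
    ((charDegree (θ : G → ℂ) : ℤ) - (Nat.card P : ℤ) - val θ v) with hF
  have hdeg : ∀ θ : IrrCharacter G, (θ : G → ℂ) 1 = ((charDegree (θ : G → ℂ) : ℕ) : ℂ) := fun θ =>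
    (charDegree_eq θ).1
  -- column relations
  have h11 : ∑ θ : IrrCharacter G, (charDegree (θ : G → ℂ) : ℤ) ^ 2 = (n : ℤ) * Nat.card P * t := by
    refine Int.cast_injective (α := ℂ) ?_
    push_cast
    rw [← Nat.cast_mul, ← Nat.cast_mul, ← card_G hP htr hW,
      ← Subgroup.card_top (G := G), show (⊤ : Subgroup G) = Subgroup.centralizer ({1} : Set G) by
        ext x; simp [Subgroup.mem_centralizer_singleton_iff]]
    have h := sum_irr_mul_conj (G := G) 1 1
    rw [if_pos (IsConj.refl 1)] at h
    rw [← h]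
    exact Finset.sum_congr rfl fun θ _ => by rw [conj_irr_one, hdeg, pow_two]
  have h1v : ∑ θ : IrrCharacter G, (charDegree (θ : G → ℂ) : ℤ) * val θ v = 0 := by
    refine Int.cast_injective (α := ℂ) ?_
    push_cast
    have h := sum_irr_mul_conj (G := G) 1 v
    rw [if_neg (fun e : IsConj 1 v => hv1 (by
      obtain ⟨c, hc⟩ := isConj_iff.mp e
      rw [← hc]; group))] at h
    rw [← h]
    exact Finset.sum_congr rfl fun θ _ => by
      rw [conj_val (hP.elem v hvP), hdeg, val_spec θ (hP.elem v hvP)]
  have hFS : 1 + (n : ℤ) * t ≤ ∑ θ : IrrCharacter G, (charDegree (θ : G → ℂ) : ℤ) := by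
    have h := card_square_roots (G := G) 1
    rw [card_invol hP htr hW hv] at h
    have h2 := congrArg Complex.re h
    rw [Complex.natCast_re, Complex.re_sum] at h2
    have h3 : ((1 + n * t : ℕ) : ℝ) ≤ ∑ θ : IrrCharacter G, (charDegree (θ : G → ℂ) : ℝ) := by
      rw [h2]
      refine Finset.sum_le_sum fun θ _ => ?_
      rcases (sqInd_cases θ).1 with e | e | e <;> rw [e, hdeg] <;> simp
    exact_mod_cast h3
  have hle : ∑ θ : IrrCharacter G, F θ ≤ -(Nat.card P : ℤ) := by
    have : ∑ θ : IrrCharacter G, F θ = ∑ θ : IrrCharacter G, (charDegree (θ : G → ℂ) : ℤ) ^ 2 -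
        (Nat.card P : ℤ) * ∑ θ : IrrCharacter G, (charDegree (θ : G → ℂ) : ℤ) -
        ∑ θ : IrrCharacter G, (charDegree (θ : G → ℂ) : ℤ) * val θ v := by
      rw [Finset.mul_sum, ← Finset.sum_sub_distrib, ← Finset.sum_sub_distrib]
      exact Finset.sum_congr rfl fun θ _ => by simp only [hF]; ring
    rw [this, h11, h1v]
    have := mul_le_mul_of_nonneg_left hFS (Int.natCast_nonneg (Nat.card P))
    linarith
  -- every nontrivial term is nonnegative
  have hstep : ∀ θ : IrrCharacter G, θ ≠ oneChar G →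
      (Nat.card P : ℤ) + val θ v ≤ charDegree (θ : G → ℂ) ∧
        0 ≤ (charDegree (θ : G → ℂ) : ℤ) + (t : ℤ) * val θ v := by
    intro θ hθ
    obtain ⟨m, hm⟩ := dvd_deg_add_D hP θ
    rw [D_eq_mul hP htr θ hv, ← ht] at hm
    have hnn : 0 ≤ (charDegree (θ : G → ℂ) : ℤ) + (t : ℤ) * val θ v := by rw [hm]; positivity
    refine ⟨?_, hnn⟩
    rcases lt_or_ge (val θ v) 0 with hd | hd
    · have : (t : ℤ) * (-val θ v) ≤ charDegree (θ : G → ℂ) := by linarith
      have h1 : (Nat.card P : ℤ) = t + 1 := by exact_mod_cast hqt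
      nlinarith
    · have hq0 : (0 : ℤ) < (Nat.card P : ℤ) := by exact_mod_cast Nat.card_pos
      have hdvd : (Nat.card P : ℤ) ∣ (charDegree (θ : G → ℂ) : ℤ) - val θ v := by
        refine ⟨m - val θ v, ?_⟩
        have h1 : (Nat.card P : ℤ) = t + 1 := by exact_mod_cast hqt
        rw [h1] at hm ⊢
        linarith
      have habs : val θ v ≤ charDegree (θ : G → ℂ) := by
        have h1 := norm_irr_le θ v
        rw [val_spec θ (hP.elem v hvP), hdeg, Complex.natCast_re, Complex.norm_intCast] at h1
        have h2 : |val θ v| ≤ (charDegree (θ : G → ℂ) : ℤ) := by exact_mod_cast h1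
        exact (le_abs_self _).trans h2
      have hne' : val θ v ≠ charDegree (θ : G → ℂ) := by
        intro e
        by_cases hθB : θ ∈ principalBlock M G
        · refine hv1 (eq_one_of_value_eq hP hO hM htr hn hθB hθ ?_)
          rw [val_spec θ (hP.elem v hvP), e, hdeg]; simp
        · rw [value_zero hP hM htr hW hv hθB] at e
          exact (charDegree_eq θ).2 (by exact_mod_cast e.symm)
      have := Int.le_of_dvd (by omega) hdvd
      linarith
  have hnonneg : ∀ θ ∈ (Finset.univ : Finset (IrrCharacter G)).erase (oneChar G), 0 ≤ F θ := fun θ hθ =>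
    mul_nonneg (Int.natCast_nonneg _) (by linarith [(hstep θ (Finset.mem_erase.mp hθ).1).1])
  rw [← Finset.add_sum_erase _ _ (Finset.mem_univ (oneChar G))] at hle
  have h1 : F (oneChar G) = -(Nat.card P : ℤ) := by
    simp only [hF, val_one]
    rw [show charDegree ((oneChar G : IrrCharacter G) : G → ℂ) = 1 by simp [charDegree, oneChar]]
    push_cast; ring
  rw [h1] at hle
  have h0 := le_antisymm (by linarith) (Finset.sum_nonneg hnonneg)
  have hz := (Finset.sum_eq_zero_iff_of_nonneg hnonneg).mp h0 χ (Finset.mem_erase.mpr ⟨hne, Finset.mem_univ _⟩)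
  have he : (charDegree (χ : G → ℂ) : ℤ) = (Nat.card P : ℤ) + val χ v := by
    rcases mul_eq_zero.mp hz with e | e
    · exact absurd (by exact_mod_cast e) (charDegree_eq χ).2
    · linarith
  refine ⟨he, ?_⟩
  have := (hstep χ hne).2
  rw [he, hqt] at this
  push_cast at this
  nlinarith

/-- The principal block has `q` members. -/
theorem card_block (hO : ∀ N : Subgroup G, N.Normal → Odd (Nat.card N) → N = ⊥)
    (hn : (H P).index ≠ 1) : Nat.card (principalBlock M G) = Nat.card P := by
  haveI := Fintype.ofFinite (IrrCharacter G)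
  haveI := hM.2.1
  obtain ⟨v, hvP, hv1⟩ := exists_ne_one hP
  have hv : v ∈ nz P := mem_nz.mpr ⟨hvP, hv1⟩
  set B := Finset.univ.filter (fun χ : IrrCharacter G => χ ∈ principalBlock M G) with hB
  set t := (nz P).card with ht
  have hqt : Nat.card P = t + 1 := card_nz.symm
  have h1B : oneChar G ∈ B := Finset.mem_filter.mpr ⟨Finset.mem_univ _, one_mem_principalBlock⟩
  have hsq := sum_val_sq hP hM htr hv
  -- the linear relation
  have hlin : ∑ χ ∈ B.erase (oneChar G), val χ v = -1 := by
    have h1v : ∑ θ : IrrCharacter G, (charDegree (θ : G → ℂ) : ℤ) * val θ v = 0 := by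
      refine Int.cast_injective (α := ℂ) ?_
      push_cast
      have h := sum_irr_mul_conj (G := G) 1 v
      rw [if_neg (fun e : IsConj 1 v => hv1 (by
        obtain ⟨c, hc⟩ := isConj_iff.mp e
        rw [← hc]; group))] at h
      rw [← h]
      exact Finset.sum_congr rfl fun θ _ => by
        rw [conj_val (hP.elem v hvP), (charDegree_eq θ).1, val_spec θ (hP.elem v hvP)]
    have h2 : ∑ θ ∈ B, (charDegree (θ : G → ℂ) : ℤ) * val θ v = 0 := by
      rw [← h1v]
      exact Finset.sum_subset (Finset.subset_univ _) fun θ _ hθ => by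
        rw [value_zero hP hM htr hW hv fun h => hθ (Finset.mem_filter.mpr ⟨Finset.mem_univ _, h⟩), mul_zero]
    rw [← Finset.add_sum_erase _ _ h1B, Finset.sum_congr rfl (g := fun θ : IrrCharacter G =>
        (Nat.card P : ℤ) * val θ v + val θ v ^ 2) fun θ hθ => by
          rw [(degree_eq hP hM htr hW hO hn hv (Finset.mem_erase.mp hθ).1).1]; ring,
      Finset.sum_add_distrib, ← Finset.mul_sum, val_one,
      show charDegree ((oneChar G : IrrCharacter G) : G → ℂ) = 1 by simp [charDegree, oneChar]] at h2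
    rw [← hB, ← Finset.add_sum_erase _ _ h1B, val_one] at hsq
    push_cast at h2
    have h0 : (Nat.card P : ℤ) * (∑ θ ∈ B.erase (oneChar G), val θ v + 1) = 0 := by linarith
    rcases mul_eq_zero.mp h0 with e | e
    · exact absurd (by exact_mod_cast e) Nat.card_pos.ne'
    · linarith
  have hsq' : ∑ χ ∈ B.erase (oneChar G), val χ v ^ 2 = (t : ℤ) := by
    have h := hsq
    rw [← hB, ← Finset.add_sum_erase _ _ h1B, val_one, hqt] at h
    push_cast at h
    linarith
  -- every value is a sign
  have hsign : ∀ χ ∈ B, val χ v ^ 2 = 1 := by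
    intro χ₀ hχ₀
    by_cases h0 : χ₀ = oneChar G
    · rw [h0, val_one]; norm_num
    have hmem : χ₀ ∈ B.erase (oneChar G) := Finset.mem_erase.mpr ⟨h0, hχ₀⟩
    set T : ℝ := (t : ℝ) with hT
    have hT7 : (7 : ℝ) ≤ T := by
      have := hP.card
      rw [hT]; exact_mod_cast (by omega : 7 ≤ t)
    set δ : IrrCharacter G → ℝ := fun θ => (val θ v : ℝ) ^ 3 / (charDegree (θ : G → ℂ) : ℝ) -
      ((T + 1) * (val θ v : ℝ) - (val θ v : ℝ) ^ 2) / (T * (T + 2)) with hδ
    have hfac : ∀ θ ∈ B.erase (oneChar G), 0 ≤ δ θ ∧ (δ θ = 0 → val θ v ≤ 1) := by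
      intro θ hθ
      obtain ⟨he, hge⟩ := degree_eq hP hM htr hW hO hn hv (Finset.mem_erase.mp hθ).1
      have hne := value_ne_zero hP hM htr hW hv (Finset.mem_filter.mp (Finset.mem_erase.mp hθ).2).2
      set d := val θ v
      have hd : (charDegree (θ : G → ℂ) : ℝ) = T + 1 + (d : ℝ) := by
        have : ((charDegree (θ : G → ℂ) : ℤ) : ℝ) = (((Nat.card P : ℤ) + d : ℤ) : ℝ) := by rw [he]
        push_cast at this
        rw [this, hqt, hT]; push_cast; ring
      have hpos : 0 < T + 1 + (d : ℝ) := by
        have : (-1 : ℝ) ≤ d := by exact_mod_cast hge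
        linarith
      have e : δ θ = (T + 1) ^ 2 * (d : ℝ) * ((d : ℝ) ^ 2 - 1) / ((T + 1 + d) * (T * (T + 2))) := by
        simp only [hδ]
        rw [hd]
        field_simp
        ring
      have hden : 0 < (T + 1 + (d : ℝ)) * (T * (T + 2)) := mul_pos hpos (by positivity)
      rcases (show d = -1 ∨ 1 ≤ d by omega) with h1 | h1
      · refine ⟨?_, fun _ => by omega⟩
        rw [e, h1]
        norm_num
      · have h1' : (1 : ℝ) ≤ d := by exact_mod_cast h1
        refine ⟨?_, fun hz => ?_⟩
        · rw [e]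
          refine div_nonneg (mul_nonneg (by positivity) ?_) hden.le
          nlinarith
        · by_contra hc
          push Not at hc
          have h2 : (2 : ℝ) ≤ d := by exact_mod_cast hc
          rw [e, div_eq_zero_iff] at hz
          have : 0 < (T + 1) ^ 2 * (d : ℝ) * ((d : ℝ) ^ 2 - 1) := by
            refine mul_pos (by positivity) ?_
            nlinarith
          rcases hz with hz | hz <;> linarith
    have hsum : ∑ θ ∈ B.erase (oneChar G), δ θ ≤ 0 := by
      have h := sum_val_cube hP hM htr hv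
      rw [← hB, ← Finset.add_sum_erase _ _ h1B, val_one,
        show charDegree ((oneChar G : IrrCharacter G) : G → ℂ) = 1 by simp [charDegree, oneChar],
        ← ht, ← hT, hqt] at h
      push_cast at h
      rw [← hT] at h
      simp only [hδ]
      rw [Finset.sum_sub_distrib, ← Finset.sum_div, Finset.sum_sub_distrib, ← Finset.mul_sum]
      have e1 : ∑ θ ∈ B.erase (oneChar G), (val θ v : ℝ) = -1 := by exact_mod_cast hlin
      have e2 : ∑ θ ∈ B.erase (oneChar G), (val θ v : ℝ) ^ 2 = T := by
        rw [hT]; exact_mod_cast hsq'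
      rw [e1, e2]
      obtain ⟨m, hm⟩ := index_mod hP
      have hm1 : 1 ≤ m := Nat.one_le_iff_ne_zero.mpr fun e => hn (by rw [hm, e, zero_mul, add_zero])
      have hn' : T + 2 ≤ ((H P).index : ℝ) := by
        rw [hT]
        have : t + 2 ≤ (H P).index := by rw [hm, hqt]; nlinarith
        exact_mod_cast this
      set S := ∑ θ ∈ B.erase (oneChar G), (val θ v : ℝ) ^ 3 / (charDegree (θ : G → ℂ) : ℝ)
      set N := ((H P).index : ℝ)
      rw [show ((T + 1) * -1 - T) / (T * (T + 2)) = -((2 * T + 1) / (T * (T + 2))) by ring, sub_neg_eq_add]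
      have hS1 : 0 ≤ 1 + S := by
        by_contra hc
        push Not at hc
        have : N * T * ((1 : ℝ) ^ 3 / 1 + S) < 0 := by
          rw [one_pow, div_one]
          exact mul_neg_of_pos_of_neg (mul_pos (by linarith) (by linarith)) hc
        rw [h] at this
        nlinarith
      have key : (T + 2) * T * (1 + S) ≤ (T + 1) * (T - 1) := by
        rw [← h, one_pow, div_one]
        exact mul_le_mul_of_nonneg_right (mul_le_mul_of_nonneg_right hn' (by linarith)) hS1
      have h9 : S ≤ -((2 * T + 1) / (T * (T + 2))) := by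
        rw [← neg_div, le_div_iff₀ (by positivity)]
        nlinarith
      linarith
    have hz := (Finset.sum_eq_zero_iff_of_nonneg fun θ hθ => (hfac θ hθ).1).mp
      (le_antisymm hsum (Finset.sum_nonneg fun θ hθ => (hfac θ hθ).1)) χ₀ hmem
    have h1 := (hfac χ₀ hmem).2 hz
    have h2 := (degree_eq hP hM htr hW hO hn hv h0).2
    have h3 := value_ne_zero hP hM htr hW hv (Finset.mem_filter.mp hχ₀).2
    rcases (show val χ₀ v = 1 ∨ val χ₀ v = -1 by omega) with e | e <;> rw [e] <;> norm_num
  rw [← hB] at hsq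
  rw [Finset.sum_congr rfl hsign, Finset.sum_const, nsmul_eq_mul, mul_one] at hsq
  rw [Nat.card_eq_fintype_card, Fintype.card_subtype]
  exact_mod_cast hsq

end CfsgLib.Block.FreeElementary
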