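import Cfsg.Agent.Lib.Block.AbelianFree
import Cfsg.Agent.Lib.Block.OneBlock
import Mathlib.GroupTheory.GroupAction.CardCommute

/-!
# A normal self-centralizing Sylow subgroup with free abelian automizer
-/

set_option autoImplicit false
set_option linter.unusedSectionVars false

namespace CfsgLib.Block.FreeElementary

open Cfsg CfsgLib.Char CfsgLib.Block CfsgLib.Block.AbelianFree

universe u

variable {p : ℕ} [Fact p.Prime] {G : Type u} [Group G] [Fintype G] {P : Sylow p G}

/-- `k(B₀) e = e ^ 2 + |P| - 1`. -/
theorem card_block_normal (h : Free P) [hn : (P : Subgroup G).Normal]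
    (hc : Subgroup.centralizer ((P : Subgroup G) : Set G) = P)
    (hcomm : ∀ a b : G, a * b * a⁻¹ * b⁻¹ ∈ (P : Subgroup G)) {M : Ideal AlgInt} (hM : IsPModular p M) :
    Nat.card (principalBlock M G) * (P : Subgroup G).index + 1 =
      (P : Subgroup G).index * (P : Subgroup G).index + Nat.card P := by
  classical
  haveI := hM.2.1
  haveI := Fintype.ofFinite (IrrCharacter G)
  have hall : ∀ χ : IrrCharacter G, χ ∈ principalBlock M G := fun χ =>
    OneBlock.mem_principal_of_constrained hM (Q := (P : Subgroup G)) P.2 hc.le χ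
  rw [Nat.card_congr (Equiv.subtypeUnivEquiv hall), card_irr_eq_card_conjClasses]
  set e := (P : Subgroup G).index with he
  set q := Nat.card P with hq
  have hG : Nat.card G = e * q := (Subgroup.index_mul_card _).symm
  set c : G → ℕ := fun g => Nat.card (Subgroup.centralizer ({g} : Set G)) with hcdef
  have hnor : nor P = ⊤ := Subgroup.normalizer_eq_top_iff.mpr hn
  have hcP : ∀ g ∈ (P : Subgroup G), g ≠ 1 → Subgroup.centralizer ({g} : Set G) = P := fun g hg hg1 => by
    have := h.frob g hg hg1
    rwa [hnor, inf_top_eq, cen, hc] at this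
  have hout : ∀ g, g ∉ (P : Subgroup G) → c g = e := by
    intro g hg
    refine le_antisymm ?_ ?_
    · rw [he, Subgroup.index]
      refine Nat.card_le_card_of_injective (fun x : Subgroup.centralizer ({g} : Set G) =>
        (QuotientGroup.mk (x : G) : G ⧸ (P : Subgroup G))) fun a b eab => ?_
      have hab : (a : G)⁻¹ * b ∈ (P : Subgroup G) := QuotientGroup.eq.mp eab
      by_contra hne
      have h1 : (a : G)⁻¹ * b ≠ 1 := fun e1 => hne (Subtype.ext (inv_mul_eq_one.mp e1))
      refine hg ?_
      rw [← hcP _ hab h1]
      exact Subgroup.mem_centralizer_singleton_iff.mpr (Subgroup.mem_centralizer_singleton_iff.mp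
        ((Subgroup.centralizer ({g} : Set G)).mul_mem ((Subgroup.centralizer ({g} : Set G)).inv_mem a.2) b.2)).symm
    · have h1 : (Subgroup.centralizer ({g} : Set G)).index ≤ q := by
        rw [← card_isConj]
        refine Nat.card_le_card_of_injective (fun x : {x : G // IsConj g x} =>
          (⟨x.1 * g⁻¹, ?_⟩ : (P : Subgroup G))) fun a b eab => ?_
        · obtain ⟨k, hk⟩ := isConj_iff.mp x.2
          rw [← hk]
          exact hcomm k g
        · exact Subtype.ext (mul_right_cancel (congrArg Subtype.val eab))
      refine Nat.le_of_mul_le_mul_left ?_ (Nat.card_pos (α := P))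
      calc q * e = (Subgroup.centralizer ({g} : Set G)).index * c g := by
            rw [hcdef, Subgroup.index_mul_card, hG, mul_comm]
        _ ≤ q * c g := Nat.mul_le_mul_right _ h1
  have hsum : ∑ g : G, c g = Nat.card (ConjClasses G) * (e * q) := by
    rw [← hG, ← card_comm_eq_card_conjClasses_mul_card, ← Nat.card_sigma]
    exact Nat.card_congr
      { toFun := fun x => ⟨(x.1, (x.2 : G)), (Subgroup.mem_centralizer_singleton_iff.mp x.2.2).symm⟩
        invFun := fun p => ⟨p.1.1, p.1.2, Subgroup.mem_centralizer_singleton_iff.mpr p.2.eq.symm⟩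
        left_inv := fun x => rfl
        right_inv := fun p => rfl }
  have hPcard : (Finset.univ.filter (· ∈ (P : Subgroup G))).card = q := by
    rw [hq, Nat.card_eq_fintype_card, Fintype.card_subtype]
  have hsplit : ∑ g : G, c g + q + e * q = e * q + q * q + e * q * e := by
    rw [← Finset.sum_filter_add_sum_filter_not Finset.univ (fun g => g ∈ (P : Subgroup G)),
      ← Finset.add_sum_erase _ _ (show (1 : G) ∈ Finset.univ.filter (· ∈ (P : Subgroup G)) by simp),
      Finset.sum_congr rfl (g := fun _ => q) fun g hg => ?_,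
      Finset.sum_congr (s₁ := Finset.univ.filter (fun g => ¬ g ∈ (P : Subgroup G))) rfl (g := fun _ => e)
        fun g hg => hout g (Finset.mem_filter.mp hg).2,
      Finset.sum_const, Finset.sum_const, Finset.card_erase_of_mem (by simp), hPcard, smul_eq_mul, smul_eq_mul]
    swap
    · obtain ⟨hg1, hg2⟩ := Finset.mem_erase.mp hg
      rw [hcdef]
      simp only
      rw [hcP g (Finset.mem_filter.mp hg2).2 hg1]
    have h1 : c 1 = e * q := by
      rw [hcdef, ← hG]
      simp only
      rw [show Subgroup.centralizer ({1} : Set G) = (⊤ : Subgroup G) by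
        ext x; simp [Subgroup.mem_centralizer_singleton_iff], Subgroup.card_top]
    have hn' : (Finset.univ.filter (fun g => ¬ g ∈ (P : Subgroup G))).card + q = e * q := by
      rw [← hG, Nat.card_eq_fintype_card, ← Finset.card_univ,
        ← Finset.card_filter_add_card_filter_not (s := (Finset.univ : Finset G))
          (fun g => g ∈ (P : Subgroup G)), hPcard, add_comm]
    have hq0 : 1 ≤ q := Nat.card_pos
    obtain ⟨q', hq'⟩ : ∃ q', q = q' + 1 := ⟨q - 1, by omega⟩
    rw [h1, hq', Nat.add_sub_cancel]
    rw [hq'] at hn'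
    nlinarith
  rw [hsum] at hsplit
  refine Nat.eq_of_mul_eq_mul_right (Nat.card_pos (α := P)) ?_
  nlinarith

end CfsgLib.Block.FreeElementary
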