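import Cfsg.Agent.Lib.Block.FreeElementary.Count
import Cfsg.Agent.Lib.Block.FreeElementary.Frobenius
import Mathlib.GroupTheory.SpecificGroups.ZGroup

/-!
# Elementary abelian Sylow 2-subgroups of order 8 and 16 with free automizer
-/

set_option autoImplicit false
set_option linter.unusedSectionVars false

namespace CfsgLib.Block.FreeElementary

open Cfsg CfsgLib.Block CfsgLib.Block.AbelianFree

universe u

open scoped Classical

/-- A group of order 15 is abelian. -/
theorem comm_of_card_fifteen {X : Type u} [Group X] [Finite X] (h : Nat.card X = 15) (a b : X) :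
    a * b = b * a := by
  haveI : IsZGroup X := IsZGroup.of_squarefree (by
    rw [h, show (15 : ℕ) = 3 * 5 by norm_num, Nat.squarefree_mul (by norm_num)]
    exact ⟨(by norm_num : Nat.Prime 3).squarefree, (by norm_num : Nat.Prime 5).squarefree⟩)
  haveI : Group.IsNilpotent X := by
    refine ((Group.isNilpotent_of_finite_tfae (G := X)).out 0 3).mpr fun p hp S => ?_
    haveI := hp
    have h1 := card_sylow_modEq_one p X
    have hidx : (S : Subgroup X).index ∣ 15 := h ▸ Subgroup.index_dvd_card _
    have h2 : Nat.card (Sylow p X) ∣ (S : Subgroup X).index := S.card_dvd_index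
    have h3 : Nat.card (Sylow p X) ∣ 15 := h2.trans hidx
    have h4 : Nat.card (Sylow p X) = 1 := by
      by_cases hp15 : p ∣ 15
      · have hle : p ≤ 15 := Nat.le_of_dvd (by norm_num) hp15
        have hndvd := S.not_dvd_index
        have hsle : Nat.card (Sylow p X) ≤ 15 := Nat.le_of_dvd (by norm_num) h3
        have hpp := hp.out
        have hnd : ¬ p ∣ Nat.card (Sylow p X) := fun hd => hndvd (hd.trans h2)
        have hm : Nat.card (Sylow p X) % p = 1 % p := h1
        generalize Nat.card (Sylow p X) = n at *
        interval_cases p <;> interval_cases n <;> omega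
      · have hS : (S : Subgroup X) = ⊥ := by
          obtain ⟨k, hk⟩ := S.2.exists_card_eq
          refine Subgroup.eq_bot_of_card_eq _ ?_
          cases k with
          | zero => rw [hk, pow_zero]
          | succ k =>
            exact (hp15 ((dvd_pow_self p (Nat.succ_ne_zero k)).trans
              (hk ▸ h ▸ Subgroup.card_subgroup_dvd_card _))).elim
        have hn : (S : Subgroup X).Normal := by rw [hS]; infer_instance
        rw [S.card_eq_index_normalizer, Subgroup.index_eq_one]
        exact Subgroup.normalizer_eq_top_iff.mpr hn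
    haveI := (Nat.card_eq_one_iff_unique.mp h4).1
    exact S.normal_of_subsingleton
  haveI : IsCyclic X := inferInstance
  letI := IsCyclic.commGroup (α := X)
  exact mul_comm a b

variable {G : Type u} [Group G] [Fintype G] {P : Sylow 2 G}

/-- The normal case. -/
theorem card_of_normal (h : Free P) [hn : (P : Subgroup G).Normal]
    (hc : Subgroup.centralizer ((P : Subgroup G) : Set G) = P)
    (he : (P : Subgroup G).index = 3 ∨ (P : Subgroup G).index = 5 ∨ (P : Subgroup G).index = 7 ∨
      (P : Subgroup G).index = 15)
    {M : Ideal AlgInt} (hM : IsPModular 2 M) :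
    Nat.card (principalBlock M G) * (P : Subgroup G).index + 1 =
      (P : Subgroup G).index * (P : Subgroup G).index + Nat.card P := by
  haveI := Fact.mk Nat.prime_two
  refine card_block_normal h hc (fun a b => ?_) hM
  have hcomm : ∀ x y : G ⧸ (P : Subgroup G), x * y = y * x := by
    have hprime : ∀ p : ℕ, p.Prime → Nat.card (G ⧸ (P : Subgroup G)) = p →
        ∀ x y : G ⧸ (P : Subgroup G), x * y = y * x := fun p hp hcp x y => by
      haveI := Fact.mk hp
      haveI := isCyclic_of_prime_card hcp
      letI := IsCyclic.commGroup (α := G ⧸ (P : Subgroup G))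
      exact mul_comm x y
    rcases he with e | e | e | e
    · exact hprime 3 (by norm_num) e
    · exact hprime 5 (by norm_num) e
    · exact hprime 7 (by norm_num) e
    · exact comm_of_card_fifteen e
  rw [← QuotientGroup.eq_one_iff]
  simp only [QuotientGroup.mk_mul, QuotientGroup.mk_inv]
  rw [hcomm (a : G ⧸ (P : Subgroup G)) b, mul_inv_cancel_right, mul_inv_cancel]

theorem relIndex_eq_index [hn : (P : Subgroup G).Normal]
    (hc : Subgroup.centralizer ((P : Subgroup G) : Set G) = P) :
    (cen P).relIndex (nor P) = (P : Subgroup G).index := by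
  rw [show nor P = ⊤ from Subgroup.normalizer_eq_top_iff.mpr hn, Subgroup.relIndex_top_right]
  exact congrArg Subgroup.index hc

/-- The principal block for a free elementary automizer. -/
theorem card_elementary (hP : Hyp P) (hO : ∀ N : Subgroup G, N.Normal → Odd (Nat.card N) → N = ⊥)
    {M : Ideal AlgInt} (hM : IsPModular 2 M)
    (he : ((cen P).relIndex (nor P) = 7 ∧ Nat.card P = 8) ∨
      ((cen P).relIndex (nor P) = 3 ∧ Nat.card P = 16) ∨
      ((cen P).relIndex (nor P) = 5 ∧ Nat.card P = 16) ∨
      ((cen P).relIndex (nor P) = 15 ∧ Nat.card P = 16)) :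
    Nat.card (principalBlock M G) = 8 ∨
      (Nat.card (principalBlock M G) = 16 ∧ Nat.card P = 16) := by
  have ht := card_nz (P := P)
  by_cases h1 : (H P).index = 1
  · obtain ⟨hn, hc⟩ := normal_of_index_one hP hO h1
    haveI := hn
    have hidx := relIndex_eq_index hc
    have hk := card_of_normal hP.free hc (by omega) hM
    rw [← hidx] at hk
    rcases he with ⟨e, q⟩ | ⟨e, q⟩ | ⟨e, q⟩ | ⟨e, q⟩ <;> rw [e, q] at hk <;> omega
  · have htr : (cen P).relIndex (nor P) = (nz P).card := by
      by_contra hne
      refine h1 (index_eq_one hP hM ?_)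
      rcases he with ⟨e, q⟩ | ⟨e, q⟩ | ⟨e, q⟩ | ⟨e, q⟩ <;> omega
    have hW := W_eq_bot hP hM htr hO (by omega) h1
    rw [card_block hP hM htr hW hO h1]
    rcases he with ⟨-, q⟩ | ⟨-, q⟩ | ⟨-, q⟩ | ⟨-, q⟩ <;> omega

end CfsgLib.Block.FreeElementary
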