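import Cfsg.Agent.Lib.Char.FourBound.OddNormal

/-!
# The order formula of a four-group acting on a group of odd order

`four_order`: for commuting involutions `s`, `t` normalizing a subgroup `O` of odd order,
`|O| |C_O(⟨s, t⟩)| ^ 2 = |C_O(s)| |C_O(t)| |C_O(s t)|`.
-/

set_option autoImplicit false
set_option linter.unusedSectionVars false

namespace CfsgLib.Block.FreeElementary

open CfsgLib.Char.FourBound

universe u

variable {G : Type u} [Group G] [Finite G]

/-- The elements of `O` inverted by `s`. -/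
def invSet (O : Subgroup G) (s : G) : Set G := {x | x ∈ O ∧ s * x * s = x⁻¹}

theorem sq_inj {O : Subgroup G} (hO : Odd (Nat.card O)) {x y : G} (hx : x ∈ O) (hy : y ∈ O)
    (h : x * x = y * y) : x = y := by
  obtain ⟨m, hm⟩ := hO
  have e : ∀ z ∈ O, (z * z) ^ (m + 1) = z := fun z hz => by
    rw [← pow_two, ← pow_mul, show 2 * (m + 1) = Nat.card O + 1 by omega, pow_succ,
      show z ^ Nat.card O = 1 from congrArg Subtype.val (pow_card_eq_one' (x := (⟨z, hz⟩ : O))), one_mul]
  rw [← e x hx, h, e y hy]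

theorem exists_root {O : Subgroup G} (hO : Odd (Nat.card O)) {x : G} (hx : x ∈ O) :
    ∃ n : ℕ, x ^ n * x ^ n = x := by
  obtain ⟨m, hm⟩ := hO
  refine ⟨m + 1, ?_⟩
  rw [← pow_add, show m + 1 + (m + 1) = Nat.card O + 1 by omega, pow_succ,
    show x ^ Nat.card O = 1 from congrArg Subtype.val (pow_card_eq_one' (x := (⟨x, hx⟩ : O))), one_mul]

theorem commute_iff {s : G} (hs : s * s = 1) {x : G} : x * s = s * x ↔ s * x * s = x := by
  constructor
  · intro h; rw [← h, mul_assoc, hs, mul_one]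
  · intro h; nth_rw 1 [← h]; rw [mul_assoc, hs, mul_one]

/-- `|O| = |C_O(s)| |I_O(s)|`. -/
theorem card_eq_fix_mul_inv {O : Subgroup G} (hO : Odd (Nat.card O)) {s : G} (hs : s * s = 1)
    (hsO : ∀ x ∈ O, s * x * s ∈ O) :
    Nat.card O = Nat.card ↥(O ⊓ Subgroup.centralizer ({s} : Set G)) * Nat.card (invSet O s) := by
  rw [← Nat.card_prod]
  refine (Nat.card_congr (Equiv.ofBijective
    (fun q : ↥(O ⊓ Subgroup.centralizer ({s} : Set G)) × invSet O s =>
      (⟨(q.1 : G) * q.2, mul_mem q.1.2.1 q.2.2.1⟩ : O)) ⟨?_, ?_⟩)).symm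
  · rintro ⟨c, i⟩ ⟨c', i'⟩ h
    have h1 : (c : G) * i = c' * i' := congrArg Subtype.val h
    have hc : ∀ d : ↥(O ⊓ Subgroup.centralizer ({s} : Set G)), s * (d : G) * s = d := fun d =>
      (commute_iff hs).mp (Subgroup.mem_centralizer_singleton_iff.mp d.2.2)
    have h2 : (c : G) * (i : G)⁻¹ = c' * (i' : G)⁻¹ := by
      rw [← i.2.2, ← i'.2.2]
      nth_rw 1 [← hc c]
      nth_rw 1 [← hc c']
      rw [← conj_mul hs, ← conj_mul hs, h1]
    have hc' : (c' : G) = c * i * (i' : G)⁻¹ := by rw [h1]; group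
    have h3 : (i : G) * i = i' * i' := by
      rw [hc'] at h2
      have h4 : (i : G)⁻¹ = i * (i' : G)⁻¹ * (i' : G)⁻¹ :=
        mul_left_cancel (h2.trans (by group))
      calc (i : G) * i = i * (i * (i' : G)⁻¹ * (i' : G)⁻¹) * (i' * i') := by group
        _ = i' * i' := by rw [← h4, mul_inv_cancel, one_mul]
    have hi : (i : G) = i' := sq_inj hO i.2.1 i'.2.1 h3
    exact Prod.ext (Subtype.ext (by rw [hc', hi]; group)) (Subtype.ext hi)
  · rintro ⟨x, hx⟩
    set w := (s * x * s)⁻¹ * x with hw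
    have hwO : w ∈ O := mul_mem (inv_mem (hsO x hx)) hx
    obtain ⟨n, hn⟩ := exists_root hO hwO
    have hsw : s * w * s = w⁻¹ := by
      rw [hw, conj_mul hs, conj_inv' hs, conj_self hs]; group
    have hsi : s * w ^ n * s = (w ^ n)⁻¹ := by rw [conj_pow' hs, hsw, inv_pow]
    have hfix : s * (x * (w ^ n)⁻¹) * s = x * (w ^ n)⁻¹ := by
      rw [conj_mul hs, conj_inv' hs, hsi, inv_inv]
      calc s * x * s * w ^ n = x * w⁻¹ * w ^ n := by rw [hw]; group
        _ = x * (w ^ n * w ^ n)⁻¹ * w ^ n := by rw [hn]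
        _ = x * (w ^ n)⁻¹ := by group
    exact ⟨⟨⟨x * (w ^ n)⁻¹, O.mul_mem hx (O.inv_mem (pow_mem hwO n)),
        Subgroup.mem_centralizer_singleton_iff.mpr ((commute_iff hs).mpr hfix)⟩,
      ⟨w ^ n, pow_mem hwO n, hsi⟩⟩, Subtype.ext (by show x * (w ^ n)⁻¹ * w ^ n = x; group)⟩

variable {O : Subgroup G} {s t : G}

theorem commute_swap (hs : s * s = 1) (ht : t * t = 1) (hst : s * t = t * s) (x : G) :
    s * (t * x * t) * s = t * (s * x * s) * t := by
  calc s * (t * x * t) * s = (s * t) * x * (t * s) := by group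
    _ = (t * s) * x * (s * t) := by rw [hst]
    _ = t * (s * x * s) * t := by group

theorem mul_conj_mul (hst : s * t = t * s) (x : G) : s * t * x * (s * t) = s * (t * x * t) * s := by
  nth_rw 2 [hst]; group

/-- The inverted elements decompose along the second involution. -/
theorem card_invSet_eq (hO : Odd (Nat.card O)) (hs : s * s = 1) (ht : t * t = 1) (hst : s * t = t * s)
    (htO : ∀ x ∈ O, t * x * t ∈ O) :
    Nat.card (invSet O s) = Nat.card (invSet (O ⊓ Subgroup.centralizer ({t} : Set G)) s) *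
      Nat.card (invSet (O ⊓ Subgroup.centralizer ({s * t} : Set G)) s) := by
  have hu : s * t * (s * t) = 1 := by
    nth_rw 2 [hst]
    calc s * t * (t * s) = s * (t * t) * s := by group
      _ = 1 := by rw [ht, mul_one, hs]
  -- elements fixed by `s * t` and inverted by `s` are inverted by `t`
  have hboth : ∀ {j : G}, j ∈ invSet (O ⊓ Subgroup.centralizer ({s * t} : Set G)) s →
      t * j * t = j⁻¹ := by
    intro j hj
    have h1 := (commute_iff hu).mp (Subgroup.mem_centralizer_singleton_iff.mp hj.1.2)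
    rw [mul_conj_mul hst, commute_swap hs ht hst, hj.2, conj_inv' ht] at h1
    rw [← inv_inv (t * j * t), h1]
  have hmem : ∀ {c j : G}, c ∈ invSet (O ⊓ Subgroup.centralizer ({t} : Set G)) s →
      j ∈ invSet (O ⊓ Subgroup.centralizer ({s * t} : Set G)) s → j * c * j ∈ invSet O s := by
    intro c j hc hj
    refine ⟨mul_mem (mul_mem hj.1.1 hc.1.1) hj.1.1, ?_⟩
    rw [conj_mul hs, conj_mul hs, hj.2, hc.2]; group
  rw [← Nat.card_prod]
  refine (Nat.card_congr (Equiv.ofBijective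
    (fun q : invSet (O ⊓ Subgroup.centralizer ({t} : Set G)) s ×
        invSet (O ⊓ Subgroup.centralizer ({s * t} : Set G)) s =>
      (⟨(q.2 : G) * q.1 * q.2, hmem q.1.2 q.2.2⟩ : invSet O s)) ⟨?_, ?_⟩)).symm
  · rintro ⟨c, j⟩ ⟨c', j'⟩ h
    have h1 : (j : G) * c * j = j' * c' * j' := congrArg Subtype.val h
    have hc : ∀ d : invSet (O ⊓ Subgroup.centralizer ({t} : Set G)) s, t * (d : G) * t = d := fun d =>
      (commute_iff ht).mp (Subgroup.mem_centralizer_singleton_iff.mp d.2.1.2)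
    have h2 : (j : G)⁻¹ * c * (j : G)⁻¹ = (j' : G)⁻¹ * c' * (j' : G)⁻¹ := by
      have e := congrArg (fun x => t * x * t) h1
      simpa only [conj_mul ht, hboth j.2, hboth j'.2, hc] using e
    have hr : (j : G) * c * (j : G)⁻¹ = j' * c' * (j' : G)⁻¹ := by
      refine sq_inj hO (mul_mem (mul_mem j.2.1.1 c.2.1.1) (inv_mem j.2.1.1))
        (mul_mem (mul_mem j'.2.1.1 c'.2.1.1) (inv_mem j'.2.1.1)) ?_
      calc (j : G) * c * (j : G)⁻¹ * (j * c * (j : G)⁻¹)
          = (j * c * j) * ((j : G)⁻¹ * c * (j : G)⁻¹) := by group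
        _ = (j' * c' * j') * ((j' : G)⁻¹ * c' * (j' : G)⁻¹) := by rw [h1, h2]
        _ = _ := by group
    have hj : (j : G) = j' := by
      refine sq_inj hO j.2.1.1 j'.2.1.1 (mul_left_cancel (a := (j : G) * c * (j : G)⁻¹) ?_)
      calc (j : G) * c * (j : G)⁻¹ * (j * j) = j * c * j := by group
        _ = j' * c' * j' := h1
        _ = j' * c' * (j' : G)⁻¹ * (j' * j') := by group
        _ = _ := by rw [hr]
    refine Prod.ext (Subtype.ext ?_) (Subtype.ext hj)
    rw [hj] at h1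
    exact mul_left_cancel (mul_right_cancel h1)
  · rintro ⟨x, hx, hsx⟩
    set z := x * (t * x * t) with hz
    have hzO : z ∈ O := mul_mem hx (htO x hx)
    obtain ⟨n, hn⟩ := exists_root hO hzO
    set r := z ^ n with hr
    have hrO : r ∈ O := pow_mem hzO n
    have hsz : s * z * s = x⁻¹ * z⁻¹ * x := by
      rw [hz, conj_mul hs, commute_swap hs ht hst, hsx, conj_inv' ht]; group
    have htz : t * z * t = x⁻¹ * z * x := by
      rw [hz, conj_mul ht, conj_self ht]; group
    have hcp : ∀ g : G, (x⁻¹ * g * x) ^ n = x⁻¹ * g ^ n * x := fun g => by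
      have := conj_pow (i := n) (a := x⁻¹) (b := g)
      rwa [inv_inv] at this
    have hsr : s * r * s = x⁻¹ * r⁻¹ * x := by rw [hr, conj_pow' hs, hsz, hcp, inv_pow]
    have htr : t * r * t = x⁻¹ * r * x := by rw [hr, conj_pow' ht, htz, hcp]
    set y := r⁻¹ * x with hy
    have hyO : y ∈ O := mul_mem (inv_mem hrO) hx
    have hsy : s * y * s = y⁻¹ := by rw [hy, conj_mul hs, conj_inv' hs, hsr, hsx]; group
    have htx : t * x * t = x⁻¹ * (r * r) := by rw [hn, hz]; group
    have hty : t * y * t = y⁻¹ := by rw [hy, conj_mul ht, conj_inv' ht, htr, htx]; group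
    obtain ⟨k, hk⟩ := exists_root hO hyO
    set j := y ^ k with hj
    have hjO : j ∈ O := pow_mem hyO k
    have hsj : s * j * s = j⁻¹ := by rw [hj, conj_pow' hs, hsy, inv_pow]
    have htj : t * j * t = j⁻¹ := by rw [hj, conj_pow' ht, hty, inv_pow]
    have hju : s * t * j * (s * t) = j := by
      rw [mul_conj_mul hst, htj, conj_inv' hs, hsj, inv_inv]
    have hct : t * (j⁻¹ * x * j⁻¹) * t = j⁻¹ * x * j⁻¹ := by
      rw [conj_mul ht, conj_mul ht, conj_inv' ht, htj, inv_inv, htx]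
      calc j * (x⁻¹ * (r * r)) * j = j * ((r⁻¹ * x)⁻¹ * x * (r⁻¹ * x)⁻¹) * j := by group
        _ = j * ((j * j)⁻¹ * x * (j * j)⁻¹) * j := by rw [hk, hy]
        _ = _ := by group
    refine ⟨⟨⟨j⁻¹ * x * j⁻¹, ⟨O.mul_mem (O.mul_mem (O.inv_mem hjO) hx) (O.inv_mem hjO),
        Subgroup.mem_centralizer_singleton_iff.mpr ((commute_iff ht).mpr hct)⟩, ?_⟩,
      ⟨j, ⟨hjO, Subgroup.mem_centralizer_singleton_iff.mpr ((commute_iff hu).mpr hju)⟩, hsj⟩⟩,
      Subtype.ext (by show j * (j⁻¹ * x * j⁻¹) * j = x; group)⟩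
    rw [conj_mul hs, conj_mul hs, conj_inv' hs, hsj, hsx]; group

/-- **Brauer's order formula** for a four-group acting on a group of odd order. -/
theorem four_order (hO : Odd (Nat.card O)) (hs : s * s = 1) (ht : t * t = 1) (hst : s * t = t * s)
    (hsO : ∀ x ∈ O, s * x * s ∈ O) (htO : ∀ x ∈ O, t * x * t ∈ O) :
    Nat.card O *
        Nat.card ↥(O ⊓ Subgroup.centralizer ({s} : Set G) ⊓ Subgroup.centralizer ({t} : Set G)) ^ 2 =
      Nat.card ↥(O ⊓ Subgroup.centralizer ({s} : Set G)) *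
        Nat.card ↥(O ⊓ Subgroup.centralizer ({t} : Set G)) *
          Nat.card ↥(O ⊓ Subgroup.centralizer ({s * t} : Set G)) := by
  have hu : s * t * (s * t) = 1 := by
    nth_rw 2 [hst]
    calc s * t * (t * s) = s * (t * t) * s := by group
      _ = 1 := by rw [ht, mul_one, hs]
  have hsub : ∀ w : G, w * w = 1 → s * w = w * s →
      Nat.card ↥(O ⊓ Subgroup.centralizer ({w} : Set G)) =
        Nat.card ↥(O ⊓ Subgroup.centralizer ({w} : Set G) ⊓ Subgroup.centralizer ({s} : Set G)) *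
          Nat.card (invSet (O ⊓ Subgroup.centralizer ({w} : Set G)) s) := by
    intro w hw hsw
    refine card_eq_fix_mul_inv (hO.of_dvd_nat (Subgroup.card_dvd_of_le inf_le_left)) hs fun x hx =>
      ⟨hsO x hx.1, Subgroup.mem_centralizer_singleton_iff.mpr ((commute_iff hw).mpr ?_)⟩
    rw [← commute_swap hs hw hsw, (commute_iff hw).mp (Subgroup.mem_centralizer_singleton_iff.mp hx.2)]
  have hW := card_eq_fix_mul_inv hO hs hsO
  have hT := hsub t ht hst
  have hU := hsub (s * t) hu (by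
    calc s * (s * t) = s * (t * s) := by rw [hst]
      _ = s * t * s := by group)
  have e1 : O ⊓ Subgroup.centralizer ({t} : Set G) ⊓ Subgroup.centralizer ({s} : Set G) =
      O ⊓ Subgroup.centralizer ({s} : Set G) ⊓ Subgroup.centralizer ({t} : Set G) := inf_right_comm _ _ _
  have e2 : O ⊓ Subgroup.centralizer ({s * t} : Set G) ⊓ Subgroup.centralizer ({s} : Set G) =
      O ⊓ Subgroup.centralizer ({s} : Set G) ⊓ Subgroup.centralizer ({t} : Set G) := by
    ext x
    simp only [Subgroup.mem_inf, Subgroup.mem_centralizer_singleton_iff]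
    constructor
    · rintro ⟨⟨h1, h2⟩, h3⟩
      refine ⟨⟨h1, h3⟩, mul_left_cancel (a := s) ?_⟩
      rw [← mul_assoc, ← h3, mul_assoc, h2]; group
    · rintro ⟨⟨h1, h2⟩, h3⟩
      refine ⟨⟨h1, ?_⟩, h2⟩
      rw [← mul_assoc, h2, mul_assoc, h3]; group
  rw [e1] at hT
  rw [e2] at hU
  rw [hW, card_invSet_eq hO hs ht hst htO, hT, hU]
  ring

end CfsgLib.Block.FreeElementary
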