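import Cfsg.Agent.Lib.Block.FreeElementary.Count

/-!
# The indicator bounds the values at an involution

For a transitive automizer the Frobenius–Schur indicator of a nontrivial character of the principal block
and its value `a` at an involution of `P` satisfy `q m = q (ν + a)` with `m` the multiplicity of the trivial
character in the centralizer, so `a ≥ -1`; hence `W` is trivial when `H` is proper, whatever the order
of `P`.
-/

set_option autoImplicit false
set_option linter.unusedSectionVars false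

namespace CfsgLib.Block.FreeElementary

open scoped ComplexConjugate
open Cfsg CfsgLib.Char CfsgLib.Block CfsgLib.Block.AbelianFree

universe u

open scoped Classical

variable {G : Type u} [Group G] [Fintype G] {P : Sylow 2 G}

theorem pow_half {x : G} {j : ℕ} (hx : orderOf x ∣ 2 * j + 1) : (x * x) ^ (j + 1) = x := by
  rw [← pow_two, ← pow_mul, show 2 * (j + 1) = 2 * j + 1 + 1 by ring, pow_succ,
    orderOf_dvd_iff_pow_eq_one.mp hx, one_mul]

/-- Squaring permutes the elements of odd order. -/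
theorem sum_regular_sq (f : G → ℂ) :
    ∑ x ∈ Finset.univ.filter (fun g : G => ¬ 2 ∣ orderOf g), f (x * x) =
      ∑ x ∈ Finset.univ.filter (fun g : G => ¬ 2 ∣ orderOf g), f x := by
  set R := Finset.univ.filter (fun g : G => ¬ 2 ∣ orderOf g) with hR
  have hmap : ∀ x ∈ R, x * x ∈ R := fun x hx => Finset.mem_filter.mpr ⟨Finset.mem_univ _, fun h =>
    (Finset.mem_filter.mp hx).2 (h.trans (by rw [← pow_two]; exact orderOf_pow_dvd 2))⟩
  have hinj : ∀ x ∈ R, ∀ y ∈ R, x * x = y * y → x = y := by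
    intro x hx y hy e
    have hodd : Odd (orderOf x * orderOf y) := by
      rw [Nat.odd_mul, ← Nat.not_even_iff_odd, ← Nat.not_even_iff_odd, even_iff_two_dvd, even_iff_two_dvd]
      exact ⟨(Finset.mem_filter.mp hx).2, (Finset.mem_filter.mp hy).2⟩
    obtain ⟨j, hj⟩ := hodd
    rw [← pow_half (x := x) (j := j) (hj ▸ dvd_mul_right _ _),
      ← pow_half (x := y) (j := j) (hj ▸ dvd_mul_left _ _), e]
  refine Finset.sum_bij (fun x _ => x * x) hmap (fun x hx y hy => hinj x hx y hy) (fun y hy => ?_)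
    fun _ _ => rfl
  obtain ⟨x, hx, e⟩ := Finset.surj_on_of_inj_on_of_card_le (fun x (_ : x ∈ R) => x * x) hmap
    (fun x y hx hy => hinj x hx y hy) le_rfl y hy
  exact ⟨x, hx, e.symm⟩

variable (hP : Hyp P)
include hP

theorem sum_sq_K {v : G} (hv : v ∈ (P : Subgroup G)) (hv1 : v ≠ 1) (f : G → ℂ) :
    ∑ y ∈ Finset.univ.filter (· ∈ K v), f (y * y) = ∑ y ∈ Finset.univ.filter (· ∈ K v), f y := by
  set S := Finset.univ.filter (· ∈ K v) with hS
  have hmap : ∀ x ∈ S, x * x ∈ S := fun x hx => Finset.mem_filter.mpr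
    ⟨Finset.mem_univ _, mul_mem (Finset.mem_filter.mp hx).2 (Finset.mem_filter.mp hx).2⟩
  obtain ⟨j, hj⟩ := odd_K hP.free hv hv1
  have hinj : ∀ x ∈ S, ∀ y ∈ S, x * x = y * y → x = y := fun x hx y hy e => by
    rw [← pow_half (x := x) (j := j) (hj ▸ Subgroup.orderOf_dvd_natCard _ (Finset.mem_filter.mp hx).2),
      ← pow_half (x := y) (j := j) (hj ▸ Subgroup.orderOf_dvd_natCard _ (Finset.mem_filter.mp hy).2), e]
  refine Finset.sum_bij (fun x _ => x * x) hmap (fun x hx y hy => hinj x hx y hy) (fun y hy => ?_)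
    fun _ _ => rfl
  obtain ⟨x, hx, e⟩ := Finset.surj_on_of_inj_on_of_card_le (fun x (_ : x ∈ S) => x * x) hmap
    (fun x y hx hy => hinj x hx y hy) le_rfl y hy
  exact ⟨x, hx, e.symm⟩

variable (htr : (cen P).relIndex (nor P) = (nz P).card)
include htr

/-- The elements of even order form the conjugates of the section of `v`. -/
theorem sum_singular {v : G} (hv : v ∈ nz P) (f : G → ℂ) (hf : ∀ a b : G, f (b * a * b⁻¹) = f a) :
    (Nat.card (Subgroup.centralizer ({v} : Set G)) : ℂ) *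
        ∑ x ∈ Finset.univ.filter (fun g : G => 2 ∣ orderOf g), f x =
      (Nat.card G : ℂ) * ∑ y ∈ Finset.univ.filter (· ∈ K v), f (v * y) := by
  haveI := Fact.mk Nat.prime_two
  obtain ⟨hvP, hv1⟩ := mem_nz.mp hv
  set C := Subgroup.centralizer ({v} : Set G)
  set D := (Finset.univ : Finset G) ×ˢ Finset.univ.filter (· ∈ K v) with hD
  have hv2 : orderOf v = 2 := sq_eq_one_of_elem hP.free hP.elem hvP hv1
  have hpart : ∀ (g : G), ∀ y ∈ K v, IsPPart 2 (g * (v * y) * g⁻¹) (g * v * g⁻¹) := fun g y hy =>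
    CfsgLib.Block.isPPart_conj (isPPart_mul hP.free hvP hv1 hy) g
  have hmap : ∀ r ∈ D, r.1 * (v * r.2) * r.1⁻¹ ∈ Finset.univ.filter (fun g : G => 2 ∣ orderOf g) := by
    intro r hr
    have hy := (Finset.mem_filter.mp (Finset.mem_product.mp hr).2).2
    refine Finset.mem_filter.mpr ⟨Finset.mem_univ _, ?_⟩
    rw [orderOf_conj_eq, (commute_of_mem_K hy).orderOf_mul_eq_mul_orderOf_of_coprime ?_, hv2]
    · exact dvd_mul_right _ _
    · rw [hv2]
      exact Nat.prime_two.coprime_iff_not_dvd.mpr ((mem_K hP.free hvP hv1).mp hy).2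
  have hfib : ∀ x ∈ Finset.univ.filter (fun g : G => 2 ∣ orderOf g),
      (D.filter fun r => r.1 * (v * r.2) * r.1⁻¹ = x).card = Nat.card C := by
    intro x hx
    obtain ⟨t, ht⟩ := exists_isPPart Nat.prime_two x
    obtain ⟨b, hb, hc, ⟨k, hk⟩, hb2⟩ := ht
    have ht1 : t ≠ 1 := fun e => hb2 (by
      rw [show b = x by rw [← hb, e, one_mul]]; exact (Finset.mem_filter.mp hx).2)
    obtain ⟨S, hS⟩ := (IsPGroup.of_card (n := k) (by rw [Nat.card_zpowers, hk]) :
      IsPGroup 2 (Subgroup.zpowers t)).exists_le_sylow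
    obtain ⟨c, rfl⟩ := MulAction.exists_smul_eq G P S
    obtain ⟨u, hu, e⟩ := hS (Subgroup.mem_zpowers t)
    have e' : c * u * c⁻¹ = t := e
    have hu1 : u ≠ 1 := fun hu1 => ht1 (by rw [← e', hu1]; group)
    obtain ⟨z, hz, hzx⟩ := exists_section (⟨b, hb, hc, ⟨k, hk⟩, hb2⟩ : IsPPart 2 x t)
      ((isConj_of_trans htr hP hv (mem_nz.mpr ⟨hu, hu1⟩)).trans (isConj_iff.mpr ⟨c, e'⟩))
    obtain ⟨y₀, hy₀, hc₀, -, hy₀2⟩ := hz
    obtain ⟨g₀, hg₀⟩ := isConj_iff.mp hzx
    have hy₀K : y₀ ∈ K v := (mem_K hP.free hvP hv1).mpr ⟨hc₀, hy₀2⟩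
    rw [← hy₀] at hg₀
    rw [Nat.card_eq_fintype_card, ← Finset.card_univ]
    refine (Finset.card_bij (s := (Finset.univ : Finset C)) (fun c _ => (g₀ * (c : G), (c : G)⁻¹ * y₀ * c)) (fun c _ => ?_)
      (fun a _ a' _ e => ?_) fun r hr => ?_).symm
    · refine Finset.mem_filter.mpr ⟨Finset.mem_product.mpr ⟨Finset.mem_univ _, Finset.mem_filter.mpr
        ⟨Finset.mem_univ _, ?_⟩⟩, ?_⟩
      · simpa using K_conj_mem hP.free hvP hv1 (inv_mem c.2) hy₀K
      · have hcv : (c : G) * v = v * c := Subgroup.mem_centralizer_singleton_iff.mp c.2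
        rw [← hg₀]
        calc g₀ * (c : G) * (v * ((c : G)⁻¹ * y₀ * c)) * (g₀ * (c : G))⁻¹
            = g₀ * ((c : G) * v) * (c : G)⁻¹ * y₀ * g₀⁻¹ := by group
          _ = _ := by rw [hcv]; group
    · exact Subtype.ext (mul_left_cancel (a := g₀) (congrArg Prod.fst e : g₀ * (a : G) = g₀ * a'))
    · obtain ⟨hr', he⟩ := Finset.mem_filter.mp hr
      have hy := (Finset.mem_filter.mp (Finset.mem_product.mp hr').2).2
      have h1 := hpart r.1 r.2 hy
      rw [he, ← hg₀] at h1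
      have h2 : r.1 * v * r.1⁻¹ = g₀ * v * g₀⁻¹ :=
        isPPart_unique Nat.prime_two h1 (hpart g₀ y₀ hy₀K)
      have hcC : g₀⁻¹ * r.1 ∈ C := by
        refine Subgroup.mem_centralizer_singleton_iff.mpr ?_
        calc g₀⁻¹ * r.1 * v = g₀⁻¹ * (r.1 * v * r.1⁻¹) * r.1 := by group
          _ = _ := by rw [h2]; group
      refine ⟨⟨_, hcC⟩, Finset.mem_univ _, Prod.ext (mul_inv_cancel_left _ _) ?_⟩
      show (g₀⁻¹ * r.1)⁻¹ * y₀ * (g₀⁻¹ * r.1) = r.2
      have hcv : g₀⁻¹ * r.1 * v = v * (g₀⁻¹ * r.1) := Subgroup.mem_centralizer_singleton_iff.mp hcC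
      have e3 : v * y₀ = g₀⁻¹ * r.1 * v * r.2 * (g₀⁻¹ * r.1)⁻¹ := by
        calc v * y₀ = g₀⁻¹ * (g₀ * (v * y₀) * g₀⁻¹) * g₀ := by group
          _ = g₀⁻¹ * (r.1 * (v * r.2) * r.1⁻¹) * g₀ := by rw [he, hg₀]
          _ = _ := by group
      rw [hcv] at e3
      have e4 : y₀ = g₀⁻¹ * r.1 * r.2 * (g₀⁻¹ * r.1)⁻¹ := mul_left_cancel (a := v) (e3.trans (by group))
      rw [e4]; group
  have hlhs : ∑ r ∈ D, f (r.1 * (v * r.2) * r.1⁻¹) =
      (Nat.card G : ℂ) * ∑ y ∈ Finset.univ.filter (· ∈ K v), f (v * y) := by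
    rw [hD, Finset.sum_product, Finset.sum_congr rfl (g := fun _ => ∑ y ∈ Finset.univ.filter (· ∈ K v),
      f (v * y)) fun g _ => Finset.sum_congr rfl fun y _ => hf _ _, Finset.sum_const, Finset.card_univ,
      nsmul_eq_mul, Nat.card_eq_fintype_card]
  rw [← hlhs, Finset.mul_sum, ← Finset.sum_fiberwise_of_maps_to hmap]
  refine Finset.sum_congr rfl fun x hx => ?_
  rw [Finset.sum_congr rfl (g := fun _ => f x) fun r hr => by rw [(Finset.mem_filter.mp hr).2],
    Finset.sum_const, hfib x hx, nsmul_eq_mul]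

variable {M : Ideal AlgInt} (hM : IsPModular 2 M)
include hM

/-- The values at an involution are at least `-1`. -/
theorem neg_one_le_val {v : G} (hv : v ∈ nz P) {χ : IrrCharacter G} (hχ : χ ∈ principalBlock M G)
    (hne : χ ≠ oneChar G) : -1 ≤ val χ v := by
  haveI := Fact.mk Nat.prime_two
  haveI := hM.2.1
  obtain ⟨hvP, hv1⟩ := mem_nz.mp hv
  set SK := Finset.univ.filter (· ∈ K v) with hSK
  set R := Finset.univ.filter (fun g : G => ¬ 2 ∣ orderOf g) with hR
  set S := Finset.univ.filter (fun g : G => 2 ∣ orderOf g) with hS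
  set a : ℂ := (val χ v : ℂ) with ha
  have hva : (χ : G → ℂ) v = a := val_spec χ (hP.elem v hvP)
  have hsplit : ∀ f : G → ℂ, ∑ x, f x = ∑ x ∈ R, f x + ∑ x ∈ S, f x := fun f => by
    rw [hR, hS, add_comm]
    exact (Finset.sum_filter_add_sum_filter_not _ _ _).symm
  have hK : (SK.card : ℂ) = (Nat.card (K v) : ℂ) := by
    rw [hSK, ← Fintype.card_subtype, ← Nat.card_eq_fintype_card]
  have hcl := isClassFunction_irr χ
  have h1 := sum_singular hP htr hv (χ : G → ℂ) fun x y => hcl x y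
  rw [Finset.sum_congr (s₁ := Finset.univ.filter (· ∈ K v)) rfl (g := fun _ => a) fun y hy => by
    rw [value_section hP.free hM hχ hvP hv1 (isPPart_mul hP.free hvP hv1 (Finset.mem_filter.mp hy).2)
      (IsConj.refl v), hva], Finset.sum_const, nsmul_eq_mul, ← hSK, hK,
    card_centralizer hP.free hvP hv1, Nat.cast_mul] at h1
  have h2 := sum_singular hP htr hv (fun x => (χ : G → ℂ) (x * x)) fun x y => by
    show (χ : G → ℂ) (y * x * y⁻¹ * (y * x * y⁻¹)) = (χ : G → ℂ) (x * x)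
    rw [show y * x * y⁻¹ * (y * x * y⁻¹) = y * (x * x) * y⁻¹ by group, hcl]
  rw [Finset.sum_congr (s₁ := Finset.univ.filter (· ∈ K v)) rfl (g := fun y => (χ : G → ℂ) (y * y)) fun y hy => by
    show (χ : G → ℂ) (v * y * (v * y)) = _
    have hc := commute_of_mem_K (Finset.mem_filter.mp hy).2
    rw [show v * y * (v * y) = v * (y * v) * y by group, ← hc.eq,
      show v * (v * y) * y = v * v * (y * y) by group, hP.elem v hvP, one_mul],
    sum_sq_K hP hvP hv1, ← hSK, card_centralizer hP.free hvP hv1, Nat.cast_mul] at h2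
  -- the sum over the whole group
  have h3 : ∑ x : G, (χ : G → ℂ) x = 0 := by
    have h := classInner_irr_ne hne
    simp only [classInner, oneChar, map_one, mul_one] at h
    exact (mul_eq_zero.mp h).resolve_left (inv_ne_zero (Nat.cast_ne_zero.mpr Nat.card_pos.ne'))
  have h4 : ∑ x : G, (χ : G → ℂ) (x * x) = (Nat.card G : ℂ) * sqInd (χ : G → ℂ) := by
    rw [sqInd, mul_inv_cancel_left₀ (Nat.cast_ne_zero.mpr Nat.card_pos.ne')]
  rw [hsplit] at h3
  rw [hsplit, hR, sum_regular_sq, ← hR] at h4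
  rw [← hS] at h1 h2
  have h5 : (Nat.card (K v) : ℂ) * (Nat.card P : ℂ) * sqInd (χ : G → ℂ) =
      ∑ y ∈ SK, (χ : G → ℂ) y - (Nat.card (K v) : ℂ) * a := by
    refine mul_left_cancel₀ (Nat.cast_ne_zero.mpr (Nat.card_pos (α := G)).ne') ?_
    linear_combination h2 - h1 - (Nat.card (K v) : ℂ) * (Nat.card P : ℂ) * h4 +
      (Nat.card (K v) : ℂ) * (Nat.card P : ℂ) * h3
  -- the sum over the centralizer
  obtain ⟨m, hm⟩ := exists_sum_subgroup χ (Subgroup.centralizer ({v} : Set G))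
  rw [← Fintype.sum_bijective _ (centralizer_bijective hP.free hvP hv1)
      (fun r : K v × (P : Subgroup G) => (χ : G → ℂ) ((r.1 : G) * r.2)) _ (fun r => rfl),
    Fintype.sum_prod_type, Finset.sum_comm, ← Finset.add_sum_erase _ _ (Finset.mem_univ (1 : (P : Subgroup G))),
    Finset.sum_congr (s₁ := Finset.univ.erase (1 : (P : Subgroup G))) rfl
      (g := fun _ => (Nat.card (K v) : ℂ) * a) fun u hu => ?_,
    Finset.sum_const, Finset.card_erase_of_mem (Finset.mem_univ _), Finset.card_univ, nsmul_eq_mul,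
    card_centralizer hP.free hvP hv1, ← Nat.card_eq_fintype_card, Nat.cast_mul,
    Nat.cast_sub Nat.card_pos, Nat.cast_one] at hm
  swap
  · have hu1 : (u : G) ≠ 1 := fun e => (Finset.mem_erase.mp hu).1 (Subtype.ext e)
    rw [Finset.sum_congr rfl (g := fun _ => a) fun y _ => ?_, Finset.sum_const, Finset.card_univ,
      nsmul_eq_mul, Nat.card_eq_fintype_card]
    obtain ⟨t, ht, hut⟩ := exists_isPPart_coset hP (K_le_W hvP hv1 y.2) u.2 hu1
    rw [value_section hP.free hM hχ u.2 hu1 ht hut, val_spec χ (hP.elem u u.2),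
      val_eq hP htr χ (mem_nz.mpr ⟨u.2, hu1⟩) hv]
  have h6 : ∑ y ∈ SK, (χ : G → ℂ) y = ∑ y : K v, (χ : G → ℂ) ((y : G) * ((1 : (P : Subgroup G)) : G)) := by
    simp only [OneMemClass.coe_one, mul_one]
    exact Finset.sum_subtype SK (fun y => by simp [hSK]) _
  rw [← h6] at hm
  have hkey : (m : ℂ) = sqInd (χ : G → ℂ) + a := by
    refine mul_left_cancel₀ (mul_ne_zero (Nat.cast_ne_zero.mpr (Nat.card_pos (α := K v)).ne')
      (Nat.cast_ne_zero.mpr (Nat.card_pos (α := (P : Subgroup G))).ne')) ?_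
    linear_combination -hm - h5
  obtain ⟨ν, hν, hν1⟩ : ∃ ν : ℤ, sqInd (χ : G → ℂ) = (ν : ℂ) ∧ ν ≤ 1 := by
    rcases (sqInd_cases χ).1 with h | h | h
    · exact ⟨0, by simpa using h, by norm_num⟩
    · exact ⟨1, by simpa using h, le_rfl⟩
    · exact ⟨-1, by simpa using h, by norm_num⟩
  rw [hν, ha] at hkey
  have : (m : ℤ) = ν + val χ v := by exact_mod_cast hkey
  omega

/-- The index of `H` is at most `2 q + 1`. -/
theorem index_le_of_indicator (hO : ∀ N : Subgroup G, N.Normal → Odd (Nat.card N) → N = ⊥)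
    (hn : (H P).index ≠ 1) (hW : W P ≠ ⊥) : (H P).index ≤ 1 + 2 * Nat.card P := by
  haveI := Fintype.ofFinite (IrrCharacter G)
  haveI := hM.2.1
  obtain ⟨v, hvP, hv1⟩ := exists_ne_one hP
  have hv : v ∈ nz P := mem_nz.mpr ⟨hvP, hv1⟩
  set B := Finset.univ.filter (fun χ : IrrCharacter G => χ ∈ principalBlock M G) with hB
  set t := (nz P).card with ht
  have hqt : Nat.card P = t + 1 := card_nz.symm
  have ht0 : (0 : ℝ) < (t : ℝ) := Nat.cast_pos.mpr (Finset.card_pos.mpr ⟨v, hv⟩)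
  have h1B : oneChar G ∈ B := Finset.mem_filter.mpr ⟨Finset.mem_univ _, one_mem_principalBlock⟩
  have hsum : ∑ χ ∈ B.erase (oneChar G), val χ v ^ 2 = (t : ℤ) := by
    have h := sum_val_sq hP hM htr hv
    rw [← hB, ← Finset.add_sum_erase _ _ h1B, val_one, hqt] at h
    push_cast at h
    linarith
  have hsumR : ∑ χ ∈ B.erase (oneChar G), (val χ v : ℝ) ^ 2 = (t : ℝ) := by exact_mod_cast hsum
  set c : ℝ := 1 / ((Nat.card P : ℝ) + t) with hc
  have hterm : ∀ χ ∈ B.erase (oneChar G),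
      -(c * (val χ v : ℝ) ^ 2) ≤ (val χ v : ℝ) ^ 3 / (charDegree (χ : G → ℂ) : ℝ) := by
    intro χ hχ
    obtain ⟨hne, hχB⟩ := Finset.mem_erase.mp hχ
    have hχB' := (Finset.mem_filter.mp hχB).2
    have hm1 := neg_one_le_val hP htr hM hv hχB' hne
    rcases (show val χ v = -1 ∨ 0 ≤ val χ v by omega) with e | e
    · obtain ⟨n₀, h1, h2, h3, h4⟩ := exists_fixed hP hM hχB'
      obtain ⟨m, hm⟩ := dvd_deg_add_D hP χ
      have hlt : n₀ < charDegree (χ : G → ℂ) := lt_of_le_of_ne h1 fun e => hW (by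
        rw [Subgroup.eq_bot_iff_forall]
        exact fun w hw => eq_one_of_value_eq hP hO hM htr hn hχB' hne (h4 e w hw))
      have h5 : (Nat.card P : ℤ) ∣ (charDegree (χ : G → ℂ) : ℤ) - n₀ := by
        have := dvd_sub (⟨m, hm⟩ : (Nat.card P : ℤ) ∣ (charDegree (χ : G → ℂ) : ℤ) + D P χ) h3
        rwa [add_sub_add_right_eq_sub] at this
      have h6 := Int.le_of_dvd (by omega) h5
      rw [D_eq_mul hP htr χ hv, ← ht, e] at h2
      have hd : (Nat.card P : ℝ) + t ≤ (charDegree (χ : G → ℂ) : ℝ) := by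
        have : (Nat.card P : ℤ) + t ≤ (charDegree (χ : G → ℂ) : ℤ) := by omega
        exact_mod_cast this
      rw [e]
      have hd0 : (0 : ℝ) < (Nat.card P : ℝ) + t := by positivity
      have h7 := one_div_le_one_div_of_le hd0 hd
      rw [← hc] at h7
      norm_num [neg_div] at h7 ⊢
      linarith
    · have h1 : 0 ≤ c * (val χ v : ℝ) ^ 2 := by positivity
      have he : (0 : ℝ) ≤ (val χ v : ℝ) := by exact_mod_cast e
      have h2 : 0 ≤ (val χ v : ℝ) ^ 3 / (charDegree (χ : G → ℂ) : ℝ) := by positivity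
      linarith
  have hS := Finset.sum_le_sum hterm
  rw [Finset.sum_neg_distrib, ← Finset.mul_sum, hsumR] at hS
  have hcube := sum_val_cube hP hM htr hv
  rw [← hB, ← Finset.add_sum_erase _ _ h1B, val_one,
    show charDegree ((oneChar G : IrrCharacter G) : G → ℂ) = 1 by simp [charDegree, oneChar]] at hcube
  push_cast at hcube
  have h8 : ((H P).index : ℝ) * t * (1 - c * t) ≤ (Nat.card P : ℝ) * ((t : ℝ) - 1) := by
    rw [← hcube]
    refine mul_le_mul_of_nonneg_left ?_ (by positivity)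
    linarith
  have hqR : (Nat.card P : ℝ) = t + 1 := by rw [hqt]; push_cast; rfl
  have h9 : 1 - c * (t : ℝ) = (Nat.card P : ℝ) / ((Nat.card P : ℝ) + t) := by
    rw [hc]; field_simp; ring
  rw [h9, hqR, mul_div_assoc', div_le_iff₀ (by linarith)] at h8
  have h10 : ((H P).index : ℝ) * t ≤ ((t : ℝ) - 1) * (2 * t + 1) := by
    refine le_of_mul_le_mul_left ?_ (show (0 : ℝ) < t + 1 by linarith)
    linarith [h8]
  have h11 : ((H P).index : ℝ) ≤ ((1 + 2 * Nat.card P : ℕ) : ℝ) := by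
    refine le_of_mul_le_mul_right ?_ ht0
    push_cast
    rw [hqR]
    nlinarith
  exact_mod_cast h11

/-- `W` is trivial when `H` is proper. -/
theorem W_eq_bot_of_transitive (hO : ∀ N : Subgroup G, N.Normal → Odd (Nat.card N) → N = ⊥)
    (hn : (H P).index ≠ 1) : W P = ⊥ := by
  by_contra hW
  exact hW (W_eq_bot_of_le hP htr hO hn (index_le_of_indicator hP htr hM hO hn hW))

end CfsgLib.Block.FreeElementary
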