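import Cfsg.Agent.Lib.Block.FreeElementary.Small
import Cfsg.Agent.Lib.Block.HomocyclicTwo
import Cfsg.Agent.Lib.Invol.PrincipalBlock

/-!
# Faithful characters of the principal block

When the automizer is transitive on `P - {1}`, the odd core is trivial and `P` is not normal, every
nontrivial character of the principal block is faithful.
-/

set_option autoImplicit false
set_option linter.unusedSectionVars false

namespace CfsgLib.Block.FreeElementary

open scoped ComplexConjugate
open Cfsg CfsgLib.Char CfsgLib.Block CfsgLib.Block.AbelianFree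

universe u

open scoped Classical

variable {G : Type u} [Group G] [Fintype G] {P : Sylow 2 G} (hP : Hyp P)
include hP

omit hP in
theorem isConj_of_trans (htr : (cen P).relIndex (nor P) = (nz P).card) (hP : Hyp P) {u v : G}
    (hu : u ∈ nz P) (hv : v ∈ nz P) : IsConj u v := by
  have h : cls P u = nz P := Finset.eq_of_subset_of_card_le (Finset.filter_subset _ _)
    (by rw [card_cls hP (mem_nz.mp hu).1 (mem_nz.mp hu).2, htr])
  rw [← h] at hv
  exact (Finset.mem_filter.mp hv).2

/-- A proper normal subgroup containing `C(P)` forces `P` to be normal. -/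
theorem normal_of_normal (hO : ∀ N : Subgroup G, N.Normal → Odd (Nat.card N) → N = ⊥)
    {M : Ideal AlgInt} (hM : IsPModular 2 M) (htr : (cen P).relIndex (nor P) = (nz P).card)
    (L : Subgroup G) [hL : L.Normal] (hCL : cen P ≤ L) (hne : L ≠ ⊤) : (P : Subgroup G).Normal := by
  haveI := Fintype.ofFinite L
  have hPL : (P : Subgroup G) ≤ L := hP.free.le_cen.trans hCL
  set P' : Sylow 2 L := P.subtype hPL with hP'
  have hmem : ∀ x : L, x ∈ (P' : Subgroup L) ↔ (x : G) ∈ (P : Subgroup G) := fun x => by
    rw [hP', Sylow.coe_subtype, Subgroup.mem_subgroupOf]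
  have hnor : nor P' = (nor P).subgroupOf L := by
    show Subgroup.normalizer ((P' : Subgroup L) : Set L) = _
    rw [hP', Sylow.coe_subtype, ← Subgroup.subgroupOf_normalizer_eq hPL]
  have hcen : cen P' = (cen P).subgroupOf L := by
    ext x
    simp only [Subgroup.mem_subgroupOf, Subgroup.mem_centralizer_iff, SetLike.mem_coe]
    exact ⟨fun h y hy => congrArg Subtype.val (h ⟨y, hPL hy⟩ ((hmem _).mpr hy)),
      fun h y hy => Subtype.ext (h y ((hmem y).mp hy))⟩
  have hfree : Free P' := by
    refine ⟨⟨⟨fun a b => Subtype.ext (Subtype.ext (hP.free.commute ((hmem _).mp a.2) ((hmem _).mp b.2)).eq)⟩⟩,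
      fun y hy hy1 => ?_⟩
    have h1 := hP.free.frob (y : G) ((hmem y).mp hy) (fun e => hy1 (Subtype.ext e))
    rw [hnor, hcen]
    ext x
    simp only [Subgroup.mem_inf, Subgroup.mem_subgroupOf, Subgroup.mem_centralizer_singleton_iff, ← h1,
      Subtype.ext_iff, Subgroup.coe_mul]
  have hcard : Nat.card P' = Nat.card P := by
    show Nat.card (P' : Subgroup L) = _
    rw [hP', Sylow.coe_subtype]
    exact Nat.card_congr (Subgroup.subgroupOfEquivOfLe hPL).toEquiv
  have hP2 : Hyp P' := ⟨hfree,
    fun v hv => Subtype.ext (hP.elem (v : G) ((hmem v).mp hv)), hcard ▸ hP.card⟩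
  have hOL : ∀ N : Subgroup L, N.Normal → Odd (Nat.card N) → N = ⊥ := fun N hN hodd => by
    refine (Subgroup.map_eq_bot_iff_of_injective N L.subtype_injective).mp
      (HomocyclicTwo.subnormal_odd_eq_bot hO ?_ (by rwa [Subgroup.card_map_of_injective L.subtype_injective]))
    refine Subgroup.IsSubnormal.step _ L (Subgroup.map_subtype_le N) hL.isSubnormal ?_
    rw [Subgroup.subgroupOf, Subgroup.comap_map_eq_self_of_injective L.subtype_injective]
    exact hN
  have hsup : nor P ⊔ L = ⊤ := by
    have h := Sylow.normalizer_sup_eq_top (p := 2) P'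
    rwa [hP', Sylow.coe_subtype, Subgroup.map_subgroupOf_eq_of_le hPL] at h
  have hnot : ¬ nor P ≤ L := fun h => hne (by rw [← hsup, sup_eq_right.mpr h])
  have hlt : (cen P').relIndex (nor P') < (nz P').card := by
    have hz : (nz P').card = (nz P).card := by
      have h1 := card_nz (P := P)
      have h2 := card_nz (P := P')
      omega
    have h1 : (cen P').relIndex (nor P') = (cen P).relIndex (nor P ⊓ L) := by
      rw [hnor, hcen, ← Subgroup.inf_subgroupOf_right (nor P) L,
        Subgroup.relIndex_subgroupOf inf_le_right]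
    have h2 := Subgroup.relIndex_mul_relIndex (cen P) (nor P ⊓ L) (nor P)
      (le_inf cen_le_nor hCL) inf_le_left
    rw [hz, h1, ← htr, ← h2]
    have h3 : (nor P ⊓ L).relIndex (nor P) ≠ 1 := fun e =>
      hnot ((Subgroup.relIndex_eq_one.mp e).trans inf_le_right)
    have h4 : 0 < (nor P ⊓ L).relIndex (nor P) := Nat.pos_of_ne_zero Subgroup.index_ne_zero_of_finite
    exact lt_mul_of_one_lt_right (Nat.pos_of_ne_zero Subgroup.index_ne_zero_of_finite) (by omega)
  obtain ⟨hn, -⟩ := normal_of_index_one hP2 hOL (index_eq_one hP2 hM hlt)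
  have hLN : L ≤ nor P := fun x hx => by
    have := Subgroup.normalizer_eq_top_iff.mpr hn
    have h2 : (⟨x, hx⟩ : L) ∈ nor P' := by rw [AbelianFree.nor, this]; trivial
    rwa [hnor, Subgroup.mem_subgroupOf] at h2
  exact Subgroup.normalizer_eq_top_iff.mp (by rw [← hsup, sup_eq_left.mpr hLN])

/-- The nontrivial characters of the principal block are faithful. -/
theorem eq_one_of_value_eq (hO : ∀ N : Subgroup G, N.Normal → Odd (Nat.card N) → N = ⊥)
    {M : Ideal AlgInt} (hM : IsPModular 2 M) (htr : (cen P).relIndex (nor P) = (nz P).card)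
    (hn : (H P).index ≠ 1) {χ : IrrCharacter G} (hχ : χ ∈ principalBlock M G) (h1 : χ ≠ oneChar G) {g : G}
    (hg : (χ : G → ℂ) g = (χ : G → ℂ) 1) : g = 1 := by
  haveI := Fact.mk Nat.prime_two
  haveI := hM.2.1
  obtain ⟨L, hL, hmem⟩ := CfsgLib.Invol.exists_charKernel χ
  have hLtop : L ≠ ⊤ := fun e => h1
    (CfsgLib.Invol.eq_oneChar_of_constant χ fun x => (hmem x).mp (e ▸ Subgroup.mem_top x))
  have hdis : ∀ v ∈ nz P, v ∉ L := by
    intro v hv hvL
    obtain ⟨hvP, hv1⟩ := mem_nz.mp hv
    refine hn ?_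
    have hCL : cen P ≤ L := by
      intro c hc
      have hcv : c ∈ Subgroup.centralizer ({v} : Set G) :=
        Subgroup.mem_centralizer_singleton_iff.mpr (Subgroup.mem_centralizer_iff.mp hc v hvP).symm
      obtain ⟨⟨a, w⟩, e⟩ := (centralizer_bijective hP.free hvP hv1).2 ⟨c, hcv⟩
      have e' : (a : G) * w = c := congrArg Subtype.val e
      have hwL : (w : G) ∈ L := by
        by_cases hw : (w : G) = 1
        · rw [hw]; exact one_mem _
        · obtain ⟨k, hk⟩ := isConj_iff.mp (isConj_of_trans htr hP hv (mem_nz.mpr ⟨w.2, hw⟩))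
          exact hk ▸ hL.conj_mem v hvL k
      have hva : v * a ∈ L := (hmem _).mpr ((value_section hP.free hM hχ hvP hv1
        (isPPart_mul hP.free hvP hv1 a.2) (IsConj.refl v)).trans ((hmem v).mp hvL))
      rw [← e']
      refine mul_mem ?_ hwL
      have := mul_mem (inv_mem hvL) hva
      rwa [inv_mul_cancel_left] at this
    have hPn := normal_of_normal hP hO hM htr L hCL hLtop
    exact Subgroup.index_eq_one.mpr (top_le_iff.mp
      ((le_of_eq (Subgroup.normalizer_eq_top_iff.mpr hPn).symm).trans nor_le_H))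
  have hodd : Odd (Nat.card L) := by
    rw [← Nat.not_even_iff_odd, even_iff_two_dvd]
    intro h2
    obtain ⟨t, ht⟩ := exists_prime_orderOf_dvd_card' (G := L) 2 h2
    rw [← Subgroup.orderOf_coe] at ht
    obtain ⟨S, hS⟩ := (IsPGroup.of_card (n := 1) (by rw [Nat.card_zpowers, ht, pow_one]) :
      IsPGroup 2 (Subgroup.zpowers (t : G))).exists_le_sylow
    obtain ⟨k, rfl⟩ := MulAction.exists_smul_eq G P S
    obtain ⟨v, hv, e⟩ := hS (Subgroup.mem_zpowers (t : G))
    have e' : k * v * k⁻¹ = (t : G) := e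
    refine hdis v (mem_nz.mpr ⟨hv, fun hv1 => ?_⟩) ?_
    · rw [← e', hv1, mul_one, mul_inv_cancel, orderOf_one] at ht
      omega
    · have := hL.conj_mem (t : G) t.2 k⁻¹
      rwa [← e', inv_inv, show k⁻¹ * (k * v * k⁻¹) * k = v by group] at this
  have := (hmem g).mpr hg
  rwa [hO L hL hodd, Subgroup.mem_bot] at this

end CfsgLib.Block.FreeElementary
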