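import Cfsg.Agent.Lib.Block.FreeElementary.Shapes
import Cfsg.Agent.Lib.Block.FreeElementary.CentralSplit
import Cfsg.Agent.Lib.Block.PrincipalCoreInflation
import Cfsg.Agent.Lib.Fusion.ThompsonComplement

/-!
# Abelian Sylow 2-subgroups of order 8 or 16 and an involution with a rank one centralizer block

`card_block_of_nilpotent_centralizer`: if the centralizer of some involution has a normal 2-complement
then the principal 2-block has 8 members for `|P| = 8` and 8 or 16 for `|P| = 16`.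
-/

set_option autoImplicit false
set_option linter.unusedSectionVars false

namespace CfsgLib.Block.FreeElementary

open Cfsg CfsgLib.Block CfsgLib.Block.AbelianFree
open scoped IsMulCommutative

universe u

variable {G : Type u} [Group G] [Fintype G]

theorem hasNormalPComplement_conj {x g : G}
    (hC : Cfsg.HasNormalPComplement 2 ↥(Subgroup.centralizer ({x} : Set G))) :
    Cfsg.HasNormalPComplement 2 ↥(Subgroup.centralizer ({g * x * g⁻¹} : Set G)) := by
  haveI := Fact.mk Nat.prime_two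
  let f : Subgroup.centralizer ({g * x * g⁻¹} : Set G) →* Subgroup.centralizer ({x} : Set G) :=
    ((MulAut.conj g⁻¹).toMonoidHom.comp (Subgroup.subtype _)).codRestrict _ fun c =>
      Subgroup.mem_centralizer_singleton_iff.mpr (by
        have h := Subgroup.mem_centralizer_singleton_iff.mp c.2
        show g⁻¹ * c * g⁻¹⁻¹ * x = x * (g⁻¹ * c * g⁻¹⁻¹)
        calc g⁻¹ * c * g⁻¹⁻¹ * x = g⁻¹ * (c * (g * x * g⁻¹)) * g := by group
          _ = g⁻¹ * (g * x * g⁻¹ * c) * g := by rw [h]
          _ = _ := by group)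
  refine CfsgLib.Fusion.hasNormalPComplement_of_injective f (fun a b e => ?_) hC
  exact Subtype.ext ((MulAut.conj g⁻¹).injective (congrArg Subtype.val e))

theorem card_principalBlock_subsingleton {X : Type u} [Group X] [Finite X] (h : Nat.card X = 1)
    (M : Ideal AlgInt) [M.IsMaximal] : Nat.card (principalBlock M X) = 1 := by
  haveI := (Nat.card_eq_one_iff_unique.mp h).1
  haveI := Fintype.ofFinite X
  haveI := Fintype.ofFinite (IrrCharacter X)
  haveI : Subsingleton (ConjClasses X) := ⟨fun a b => by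
    obtain ⟨a, rfl⟩ := ConjClasses.mk_surjective a
    obtain ⟨b, rfl⟩ := ConjClasses.mk_surjective b
    rw [Subsingleton.elim a b]⟩
  refine le_antisymm ((Nat.card_le_card_of_injective _ Subtype.val_injective).trans ?_) ?_
  · rw [CfsgLib.Char.card_irr_eq_card_conjClasses]
    exact Finite.card_le_one_iff_subsingleton.mpr inferInstance
  · haveI : Nonempty (principalBlock M X) := ⟨⟨oneChar X, one_mem_principalBlock⟩⟩
    exact Nat.card_pos

/-- The reduced case. -/
theorem card_reduced (P : Sylow 2 G) [IsMulCommutative (P : Subgroup G)]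
    (hO : ∀ N : Subgroup G, N.Normal → Odd (Nat.card N) → N = ⊥) {x : G} (hx : x ∈ (P : Subgroup G))
    (hx2 : orderOf x = 2) (hC : Cfsg.HasNormalPComplement 2 ↥(Subgroup.centralizer ({x} : Set G)))
    {M : Ideal AlgInt} (hM : IsPModular 2 M) :
    (Nat.card P = 8 → Nat.card (principalBlock M G) = 8) ∧
      (Nat.card P = 16 → Nat.card (principalBlock M G) = 8 ∨ Nat.card (principalBlock M G) = 16) := by
  classical
  haveI := Fact.mk Nat.prime_two
  haveI := hM.2.1
  by_cases hF : fixedPart P = ⊥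
  · obtain ⟨-, -, h8, h16⟩ := card_noFixed hO hF hx hx2 hC hM
    exact ⟨h8, h16⟩
  set Z := fixedPart P with hZdef
  have hZc : Z ≤ Subgroup.center G := fixedPart_le_center hO
  haveI hZn : Z.Normal := ⟨fun a ha g => by
    rw [Subgroup.mem_center_iff.mp (hZc ha) g, mul_inv_cancel_right]; exact ha⟩
  have hZP : Z ≤ (P : Subgroup G) := inf_le_left
  have hZp : IsPGroup 2 Z := P.2.of_injective (Subgroup.inclusion hZP) (Subgroup.inclusion_injective _)
  obtain ⟨π, hπ⟩ := exists_retraction (P := P) hO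
  have hk := card_block_of_retraction hM hZp hZc π hπ
  have hπ1 : ∀ g, g ∈ Z → π g = 1 → g = 1 := fun g hg e => by
    have h1 : π g = ⟨g, hg⟩ := hπ ⟨g, hg⟩
    rw [h1] at e
    exact congrArg Subtype.val e
  have hπcomm : ∀ a b : G, π (a * b * a⁻¹ * b⁻¹) = 1 := fun a b => by
    simp only [map_mul, map_inv]
    have h1 : π a * π b = π b * π a :=
      Subtype.ext (Subgroup.mem_center_iff.mp (hZc (π b).2) (π a : G))
    rw [h1, mul_inv_cancel_right, mul_inv_cancel]
  have hfixcomm : ∀ a b : G, a * b * a⁻¹ * b⁻¹ ∈ Z → a * b = b * a := fun a b h => by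
    have h1 := hπ1 _ h (hπcomm a b)
    rwa [mul_inv_eq_one, mul_inv_eq_iff_eq_mul] at h1
  set Pq : Sylow 2 (G ⧸ Z) := P.mapSurjective (QuotientGroup.mk'_surjective Z) with hPq
  have hmemq : ∀ g : G, (g : G ⧸ Z) ∈ (Pq : Subgroup (G ⧸ Z)) ↔ g ∈ (P : Subgroup G) := fun g => by
    rw [hPq, Sylow.coe_mapSurjective]
    refine ⟨fun h => ?_, fun h => ⟨g, h, rfl⟩⟩
    obtain ⟨u, hu, e⟩ := h
    have := mul_mem hu (hZP (QuotientGroup.eq.mp e))
    rwa [mul_inv_cancel_left] at this
  haveI : IsMulCommutative (Pq : Subgroup (G ⧸ Z)) := ⟨⟨fun a b => Subtype.ext (by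
    obtain ⟨a', ha'⟩ := QuotientGroup.mk_surjective (a : G ⧸ Z)
    obtain ⟨b', hb'⟩ := QuotientGroup.mk_surjective (b : G ⧸ Z)
    have ha : a' ∈ (P : Subgroup G) := (hmemq a').mp (by rw [ha']; exact a.2)
    have hb : b' ∈ (P : Subgroup G) := (hmemq b').mp (by rw [hb']; exact b.2)
    show (a : G ⧸ Z) * b = b * a
    rw [← ha', ← hb', ← QuotientGroup.mk_mul, ← QuotientGroup.mk_mul]
    exact congrArg (fun g : G => (g : G ⧸ Z))
      (congrArg Subtype.val (mul_comm (⟨a', ha⟩ : (P : Subgroup G)) ⟨b', hb⟩)))⟩⟩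
  haveI := Fintype.ofFinite (G ⧸ Z)
  have hcardq : Nat.card Z * Nat.card Pq = Nat.card P := by
    let f : (P : Subgroup G) →* (Pq : Subgroup (G ⧸ Z)) :=
      ((QuotientGroup.mk' Z).comp (P : Subgroup G).subtype).codRestrict _ fun u => (hmemq u).mpr u.2
    have hf : Function.Surjective f := by
      intro q
      obtain ⟨g, hg⟩ := QuotientGroup.mk_surjective (q : G ⧸ Z)
      exact ⟨⟨g, (hmemq g).mp (by rw [hg]; exact q.2)⟩, Subtype.ext hg⟩
    have hker : Nat.card f.ker = Nat.card Z := by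
      rw [show f.ker = Z.subgroupOf (P : Subgroup G) by
        ext u
        rw [MonoidHom.mem_ker, Subgroup.mem_subgroupOf, Subtype.ext_iff]
        exact QuotientGroup.eq_one_iff (u : G)]
      exact Nat.card_congr (Subgroup.subgroupOfEquivOfLe hZP).toEquiv
    rw [← hker, ← Nat.card_congr (QuotientGroup.quotientKerEquivOfSurjective f hf).toEquiv, mul_comm,
      ← Subgroup.card_eq_card_quotient_mul_card_subgroup]
  by_cases hxZ : x ∈ Z
  · -- then `G = P`
    have htop : Subgroup.centralizer ({x} : Set G) = ⊤ := (Subgroup.eq_top_iff' _).mpr fun g =>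
      Subgroup.mem_centralizer_singleton_iff.mpr (Subgroup.mem_center_iff.mp (hZc hxZ) g)
    rw [htop] at hC
    have hG : Cfsg.HasNormalPComplement 2 G :=
      (CfsgLib.Fusion.hasNormalPComplement_congr Subgroup.topEquiv).mp hC
    obtain ⟨S, N, hN, hNS⟩ := hG
    have hNbot : N = ⊥ := hO N hN (by
      rw [← hNS.index_eq_card, ← Nat.not_even_iff_odd, even_iff_two_dvd]
      exact S.not_dvd_index)
    rw [hNbot, Subgroup.isComplement'_bot_left] at hNS
    have hPG : (P : Subgroup G) = ⊤ := by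
      refine Subgroup.eq_top_of_card_eq _ ?_
      rw [P.card_eq_multiplicity, ← S.card_eq_multiplicity, hNS, Subgroup.card_top]
    have hZtop : Z = ⊤ := (Subgroup.eq_top_iff' _).mpr fun g =>
      ⟨hPG ▸ Subgroup.mem_top g, Subgroup.mem_centralizer_iff.mpr fun n _ =>
        congrArg Subtype.val (mul_comm (⟨n, hPG ▸ Subgroup.mem_top n⟩ : (P : Subgroup G))
          ⟨g, hPG ▸ Subgroup.mem_top g⟩)⟩
    have h1 : Nat.card (G ⧸ Z) = 1 := by
      rw [← Subgroup.index, Subgroup.index_eq_one.mpr hZtop]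
    rw [card_principalBlock_subsingleton h1 M, mul_one] at hk
    rw [hk, hZtop, Subgroup.card_top, ← Subgroup.card_top (G := G), ← hPG]
    exact ⟨fun h => h, fun h => Or.inr h⟩
  -- the quotient has no fixed elements
  have hOq : ∀ N : Subgroup (G ⧸ Z), N.Normal → Odd (Nat.card N) → N = ⊥ := quotient_core hO hZP hZc
  have hFq : fixedPart Pq = ⊥ := by
    rw [Subgroup.eq_bot_iff_forall]
    intro q hq
    obtain ⟨u, rfl⟩ := QuotientGroup.mk_surjective q
    have hu : u ∈ (P : Subgroup G) := (hmemq u).mp hq.1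
    refine (QuotientGroup.eq_one_iff u).mpr ⟨hu, Subgroup.mem_centralizer_iff.mpr fun n hn => ?_⟩
    refine hfixcomm n u ?_
    have hnq : (n : G ⧸ Z) ∈ nor Pq := by
      refine Subgroup.mem_normalizer_iff.mpr fun a => ?_
      obtain ⟨a, rfl⟩ := QuotientGroup.mk_surjective a
      rw [← QuotientGroup.mk_inv, ← QuotientGroup.mk_mul, ← QuotientGroup.mk_mul, hmemq, hmemq]
      exact Subgroup.mem_normalizer_iff.mp hn a
    rw [← QuotientGroup.eq_one_iff]
    have h1 := Subgroup.mem_centralizer_iff.mp hq.2 _ hnq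
    simp only [QuotientGroup.mk_mul, QuotientGroup.mk_inv]
    rw [h1, mul_inv_cancel_right, mul_inv_cancel]
  have hxq : (x : G ⧸ Z) ∈ (Pq : Subgroup (G ⧸ Z)) := (hmemq x).mpr hx
  have hxq2 : orderOf (x : G ⧸ Z) = 2 := by
    refine orderOf_eq_prime ?_ fun e => hxZ ((QuotientGroup.eq_one_iff x).mp e)
    rw [← QuotientGroup.mk_pow, show x ^ 2 = 1 by rw [← hx2]; exact pow_orderOf_eq_one x,
      QuotientGroup.mk_one]
  have hCq : Cfsg.HasNormalPComplement 2 ↥(Subgroup.centralizer ({(x : G ⧸ Z)} : Set (G ⧸ Z))) := by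
    let f : Subgroup.centralizer ({x} : Set G) →* Subgroup.centralizer ({(x : G ⧸ Z)} : Set (G ⧸ Z)) :=
      ((QuotientGroup.mk' Z).comp (Subgroup.subtype _)).codRestrict _ fun c =>
        Subgroup.mem_centralizer_singleton_iff.mpr
          (congrArg (fun g : G => (g : G ⧸ Z)) (Subgroup.mem_centralizer_singleton_iff.mp c.2))
    refine CfsgLib.Fusion.hasNormalPComplement_of_surjective f (fun q => ?_) hC
    obtain ⟨g, hg⟩ := QuotientGroup.mk_surjective (q : G ⧸ Z)
    refine ⟨⟨g, Subgroup.mem_centralizer_singleton_iff.mpr (hfixcomm g x ?_)⟩, Subtype.ext hg⟩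
    have h1 := Subgroup.mem_centralizer_singleton_iff.mp q.2
    rw [← QuotientGroup.eq_one_iff]
    simp only [QuotientGroup.mk_mul, QuotientGroup.mk_inv, hg]
    rw [h1, mul_inv_cancel_right, mul_inv_cancel]
  obtain ⟨hne2, h4, h8, -⟩ := card_noFixed hOq hFq hxq hxq2 hCq hM
  have hne1 : Nat.card Pq ≠ 1 := fun e => by
    rw [Subgroup.card_eq_one.mp e, Subgroup.mem_bot] at hxq
    rw [hxq, orderOf_one] at hxq2
    omega
  have hZ1 : Nat.card Z ≠ 1 := fun e => hF (Subgroup.card_eq_one.mp e)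
  obtain ⟨a, ha⟩ := hZp.exists_card_eq
  obtain ⟨b, hb⟩ := Pq.2.exists_card_eq
  constructor <;> intro hP
  all_goals
    rw [hP, ha, hb, ← pow_add] at hcardq
    rw [hk]
    have hab : a + b ≤ 4 := (Nat.pow_le_pow_iff_right (show 1 < 2 by norm_num)).mp
      (hcardq.le.trans (by norm_num))
    have hb2 : 2 ≤ b := by
      by_contra hc
      rcases (show b = 0 ∨ b = 1 by omega) with h | h
      · exact hne1 (by rw [hb, h, pow_zero])
      · exact hne2 (by rw [hb, h, pow_one])
    have ha1 : 1 ≤ a := by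
      by_contra hc
      have ha0 : a = 0 := by omega
      exact hZ1 (by rw [ha, ha0, pow_zero])
    have hab' : (a = 1 ∧ b = 2) ∨ (a = 2 ∧ b = 2) ∨ (a = 1 ∧ b = 3) := by omega
    rcases hab' with ⟨rfl, rfl⟩ | ⟨rfl, rfl⟩ | ⟨rfl, rfl⟩
    · first | omega | (rw [ha, h4 (hb.trans (by norm_num))]; norm_num)
    · first | omega | (rw [ha, h4 (hb.trans (by norm_num))]; norm_num)
    · first | omega | (rw [ha, h8 (hb.trans (by norm_num))]; norm_num)

/-- **The count.** -/
theorem card_block_of_nilpotent_centralizer (P : Sylow 2 G) (hab : IsMulCommutative P) {x : G}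
    (hx2 : orderOf x = 2) (hC : Cfsg.HasNormalPComplement 2 ↥(Subgroup.centralizer ({x} : Set G)))
    {M : Ideal AlgInt} (hM : IsPModular 2 M) :
    (Nat.card P = 8 → Nat.card (principalBlock M G) = 8) ∧
      (Nat.card P = 16 → Nat.card (principalBlock M G) = 8 ∨ Nat.card (principalBlock M G) = 16) := by
  classical
  haveI := Fact.mk Nat.prime_two
  haveI := hM.2.1
  haveI : IsMulCommutative (P : Subgroup G) := hab
  obtain ⟨S, hS⟩ := (IsPGroup.of_card (n := 1) (by rw [Nat.card_zpowers, hx2, pow_one]) :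
    IsPGroup 2 (Subgroup.zpowers x)).exists_le_sylow
  obtain ⟨k, rfl⟩ := MulAction.exists_smul_eq G P S
  obtain ⟨y, hy, ey⟩ := hS (Subgroup.mem_zpowers x)
  have e' : k * y * k⁻¹ = x := ey
  have hy2 : orderOf y = 2 := by rw [← hx2, ← e', orderOf_conj_eq]
  have hCy : Cfsg.HasNormalPComplement 2 ↥(Subgroup.centralizer ({y} : Set G)) := by
    have := hasNormalPComplement_conj (g := k⁻¹) hC
    rwa [← e', inv_inv, show k⁻¹ * (k * y * k⁻¹) * k = y by group] at this
  -- the odd core
  set N := Cfsg.pPrimeCore 2 G with hNdef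
  haveI hNn : N.Normal := by
    rw [hNdef, Coprime.pPrimeCore_eq_piCore Nat.prime_two]; infer_instance
  have hN2 : ¬ 2 ∣ Nat.card N :=
    Nat.prime_two.coprime_iff_not_dvd.mp (Coprime.pPrimeCore_coprime Nat.prime_two).symm
  haveI := Fintype.ofFinite (G ⧸ N)
  haveI := Fintype.ofFinite N
  set Pq : Sylow 2 (G ⧸ N) := P.mapSurjective (QuotientGroup.mk'_surjective N) with hPq
  let f : (P : Subgroup G) →* (Pq : Subgroup (G ⧸ N)) :=
    ((QuotientGroup.mk' N).comp (P : Subgroup G).subtype).codRestrict _ fun u => by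
      rw [hPq, Sylow.coe_mapSurjective]; exact ⟨u, u.2, rfl⟩
  have hf : Function.Bijective f := by
    refine ⟨(injective_iff_map_eq_one f).mpr fun u hu => ?_, fun q => ?_⟩
    · have h1 : (u : G) ∈ N := (QuotientGroup.eq_one_iff (u : G)).mp (congrArg Subtype.val hu)
      obtain ⟨j, hj⟩ := IsPGroup.iff_orderOf.mp P.2 u
      refine orderOf_eq_one_iff.mp ?_
      refine Nat.eq_one_of_dvd_coprimes (Nat.Coprime.pow_left j (Nat.prime_two.coprime_iff_not_dvd.mpr hN2))
        (dvd_of_eq hj) ?_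
      rw [← Subgroup.orderOf_coe]
      exact Subgroup.orderOf_dvd_natCard N h1
    · have hq := q.2
      simp only [hPq, Sylow.coe_mapSurjective] at hq
      obtain ⟨u, hu, e⟩ := hq
      exact ⟨⟨u, hu⟩, Subtype.ext e⟩
  haveI : IsMulCommutative (Pq : Subgroup (G ⧸ N)) := ⟨⟨fun a b => by
    obtain ⟨a, rfl⟩ := hf.2 a
    obtain ⟨b, rfl⟩ := hf.2 b
    rw [← map_mul, ← map_mul, mul_comm a b]⟩⟩
  have hcard : Nat.card Pq = Nat.card P := (Nat.card_eq_of_bijective f hf).symm
  have hOq : ∀ L : Subgroup (G ⧸ N), L.Normal → Odd (Nat.card L) → L = ⊥ := by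
    intro L hL hodd
    haveI := hL.comap (QuotientGroup.mk' N)
    have hle : L.comap (QuotientGroup.mk' N) ≤ N := by
      refine Coprime.le_pPrimeCore_of_not_dvd Nat.prime_two fun h2 => ?_
      obtain ⟨t, ht⟩ := exists_prime_orderOf_dvd_card' (G := L.comap (QuotientGroup.mk' N)) 2 h2
      rw [← Subgroup.orderOf_coe] at ht
      have h1 : ((t : G) : G ⧸ N) = 1 := by
        rw [← orderOf_eq_one_iff]
        refine Nat.eq_one_of_dvd_coprimes (Nat.coprime_two_left.mpr hodd) ?_
          (Subgroup.orderOf_dvd_natCard L t.2)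
        rw [← ht]
        exact orderOf_map_dvd (QuotientGroup.mk' N) (t : G)
      refine hN2 ?_
      rw [← ht]
      exact Subgroup.orderOf_dvd_natCard N ((QuotientGroup.eq_one_iff _).mp h1)
    rw [Subgroup.eq_bot_iff_forall]
    intro q hq
    obtain ⟨g, rfl⟩ := QuotientGroup.mk_surjective q
    exact (QuotientGroup.eq_one_iff g).mpr (hle hq)
  have hyq : (y : G ⧸ N) ∈ (Pq : Subgroup (G ⧸ N)) := (f ⟨y, hy⟩).2
  have hyq2 : orderOf (y : G ⧸ N) = 2 := by
    have h1 : orderOf (f ⟨y, hy⟩) = orderOf (⟨y, hy⟩ : (P : Subgroup G)) := orderOf_injective f hf.1 _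
    rw [← Subgroup.orderOf_coe, Subgroup.orderOf_mk] at h1
    exact h1.trans hy2
  have hCq : Cfsg.HasNormalPComplement 2 ↥(Subgroup.centralizer ({(y : G ⧸ N)} : Set (G ⧸ N))) := by
    let φ : Subgroup.centralizer ({y} : Set G) →* Subgroup.centralizer ({(y : G ⧸ N)} : Set (G ⧸ N)) :=
      ((QuotientGroup.mk' N).comp (Subgroup.subtype _)).codRestrict _ fun c =>
        Subgroup.mem_centralizer_singleton_iff.mpr
          (congrArg (fun g : G => (g : G ⧸ N)) (Subgroup.mem_centralizer_singleton_iff.mp c.2))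
    refine CfsgLib.Fusion.hasNormalPComplement_of_surjective φ (fun q => ?_) hCy
    have hX : IsPGroup 2 (Subgroup.zpowers y) :=
      IsPGroup.of_card (n := 1) (by rw [Nat.card_zpowers, hy2, pow_one])
    have hq : (q : G ⧸ N) ∈ Subgroup.centralizer
        ((Subgroup.zpowers y).map (QuotientGroup.mk' N) : Set (G ⧸ N)) := by
      rw [MonoidHom.map_zpowers]
      refine Subgroup.mem_centralizer_iff.mpr fun z hz => ?_
      obtain ⟨i, rfl⟩ := Subgroup.mem_zpowers_iff.mp hz
      exact (Commute.zpow_right (Subgroup.mem_centralizer_singleton_iff.mp q.2 : Commute (q : G ⧸ N) _) i).eq.symm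
    obtain ⟨c, hc, e⟩ := CfsgLib.Fusion.centralizer_map_le (p := 2) N hN2 hX hq
    exact ⟨⟨c, Subgroup.mem_centralizer_singleton_iff.mpr
      (Subgroup.mem_centralizer_iff.mp hc y (Subgroup.mem_zpowers y)).symm⟩, Subtype.ext e⟩
  have hk : Nat.card (principalBlock M G) = Nat.card (principalBlock M (G ⧸ N)) := by
    refine (Nat.card_eq_of_bijective (fun θ : principalBlock M (G ⧸ N) =>
      (⟨Cyclic.inflQ θ.1, (PrincipalCore.inflQ_mem_iff hM hN2 θ.1).mpr θ.2⟩ : principalBlock M G))
      ⟨fun a b e => ?_, fun χ => ?_⟩).symm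
    · refine Subtype.ext (Subtype.ext (funext fun q => ?_))
      obtain ⟨g, rfl⟩ := QuotientGroup.mk_surjective q
      exact congrFun (congrArg (fun z : principalBlock M G => ((z : IrrCharacter G) : G → ℂ)) e) g
    · obtain ⟨θ, hθ, e⟩ := PrincipalCore.exists_inflQ_eq hM hN2 χ.2
      exact ⟨⟨θ, hθ⟩, Subtype.ext e⟩
  rw [hk, ← hcard]
  exact card_reduced Pq hOq hyq hyq2 hCq hM

end CfsgLib.Block.FreeElementary
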