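import Cfsg.Agent.Lib.Block.FreeElementary.Pairs

/-!
# Moments of the character sums over the nontrivial elements of `P`

For a character of the principal block `D χ = ∑ χ(v)`, `v ∈ P - {1}`: `∑ D χ ^ 2 = q (q - 1) e`,
`n ∑ D χ ^ 3 / χ(1) = q e (q - 1) (q - 2)`, and `χ(1) ≥ n₀ ≥ - D χ` with `n₀` the dimension of the fixed
points of `W`.
-/

set_option autoImplicit false
set_option linter.unusedSectionVars false

namespace CfsgLib.Block.FreeElementary

open scoped ComplexConjugate
open Cfsg CfsgLib.Char CfsgLib.Block CfsgLib.Block.AbelianFree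

universe u

open scoped Classical

variable {G : Type u} [Group G] [Fintype G] {P : Sylow 2 G}

/-- The nontrivial elements of `P`. -/
noncomputable def nz (P : Sylow 2 G) : Finset G :=
  Finset.univ.filter fun v => v ∈ (P : Subgroup G) ∧ v ≠ 1

theorem mem_nz {v : G} : v ∈ nz P ↔ v ∈ (P : Subgroup G) ∧ v ≠ 1 := by simp [nz]

theorem card_nz : (nz P).card + 1 = Nat.card P := by
  have e : insert (1 : G) (nz P) = Finset.univ.filter (· ∈ (P : Subgroup G)) := by
    ext v
    simp only [Finset.mem_insert, mem_nz, Finset.mem_filter, Finset.mem_univ, true_and]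
    exact ⟨fun h => h.elim (fun e => e ▸ one_mem _) And.left,
      fun h => (em (v = 1)).imp id fun h' => ⟨h, h'⟩⟩
  rw [← Finset.card_insert_of_notMem (s := nz P) (a := (1 : G)) (by simp [mem_nz]), e,
    ← Fintype.card_subtype, ← Nat.card_eq_fintype_card]

/-- The integer value of a character at an involution. -/
noncomputable def val (χ : IrrCharacter G) (v : G) : ℤ := ⌊((χ : G → ℂ) v).re⌋

/-- The sum of the values on the nontrivial elements of `P`. -/
noncomputable def D (P : Sylow 2 G) (χ : IrrCharacter G) : ℤ := ∑ v ∈ nz P, val χ v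

theorem val_spec (χ : IrrCharacter G) {v : G} (hv : v * v = 1) : (χ : G → ℂ) v = (val χ v : ℂ) := by
  obtain ⟨m, hm, -⟩ := exists_int_at_involution χ (v := v) (by rw [pow_two, hv])
  rw [val, hm, Complex.intCast_re, Int.floor_intCast]

theorem val_one {v : G} : val (oneChar G) v = 1 := by
  simp [val, oneChar]

theorem D_one : D P (oneChar G) = ((Nat.card P : ℤ) - 1) := by
  simp only [D, val_one, Finset.sum_const, nsmul_eq_mul, mul_one]
  rw [← card_nz (P := P)]
  push_cast
  ring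

/-- The sum of a character over a subgroup. -/
theorem exists_sum_subgroup (χ : IrrCharacter G) (S : Subgroup G) [Fintype S] :
    ∃ m : ℕ, ∑ x : S, (χ : G → ℂ) x = (Nat.card S : ℂ) * (m : ℂ) := by
  obtain ⟨m, hm⟩ := classInner_char_irr_nat (isCharacter_comp (isCharacter_irr χ) S.subtype) (oneChar S)
  refine ⟨m, ?_⟩
  rw [classInner, inv_mul_eq_iff_eq_mul₀ (Nat.cast_ne_zero.mpr Nat.card_pos.ne')] at hm
  rw [← hm]
  exact Finset.sum_congr rfl fun x _ => by simp [oneChar]

theorem conj_of_inverted {O : Subgroup G} (hO : Odd (Nat.card O)) {u k : G} (hu : u * u = 1) (hk : k ∈ O)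
    (hinv : u * k * u = k⁻¹) : IsConj u (k * u) := by
  obtain ⟨n, hn⟩ := exists_root hO hk
  refine isConj_iff.mpr ⟨k ^ n, ?_⟩
  have hi : u * k ^ n * u = (k ^ n)⁻¹ := by rw [CfsgLib.Char.FourBound.conj_pow' hu, hinv, inv_pow]
  calc k ^ n * u * (k ^ n)⁻¹ = k ^ n * u * (u * k ^ n * u) := by rw [hi]
    _ = k ^ n * (u * u) * k ^ n * u := by group
    _ = k * u := by rw [hu, mul_one, hn]

variable (hP : Hyp P)
include hP

/-- The 2-part of an element of the coset `W u`. -/
theorem exists_isPPart_coset {w u : G} (hw : w ∈ W P) (hu : u ∈ (P : Subgroup G)) (hu1 : u ≠ 1) :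
    ∃ t, IsPPart 2 (w * u) t ∧ IsConj u t := by
  haveI := Fact.mk Nat.prime_two
  obtain ⟨t, ht⟩ := exists_isPPart Nat.prime_two (w * u)
  refine ⟨t, ht, ?_⟩
  obtain ⟨y, hty, hc, ⟨k, hk⟩, hy⟩ := ht
  have hN : ∀ x ∈ W P, u * x * u ∈ W P := fun x hx => by
    have := (Subgroup.mem_normalizer_iff.mp (nor_le_normalizer hP (le_nor hu)) x).mp hx
    rwa [inv_eq_of_mul_eq_one_right (hP.elem u hu)] at this
  have huu := hP.elem u hu
  have huW : u ∉ W P := fun h4 =>
    hu1 (orderOf_eq_one_iff.mp (Nat.eq_one_of_dvd_coprimes (Nat.coprime_two_left.mpr (odd_W hP))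
      (orderOf_dvd_of_pow_eq_one (by rw [pow_two, huu])) (Subgroup.orderOf_dvd_natCard _ h4)))
  -- the powers lie alternately in `W` and in `W u`
  have hpow : ∀ m : ℕ, (Even m → (w * u) ^ m ∈ W P) ∧ (¬ Even m → (w * u) ^ m * u ∈ W P) := by
    intro m
    induction m with
    | zero => exact ⟨fun _ => by rw [pow_zero]; exact one_mem _, fun h => absurd (Even.zero) h⟩
    | succ m ih =>
      rw [Nat.even_add_one]
      refine ⟨fun h => ?_, fun h => ?_⟩
      · have e : (w * u) ^ (m + 1) = (w * u) ^ m * u * (u * w * u) := by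
          rw [pow_succ]
          calc (w * u) ^ m * (w * u) = (w * u) ^ m * (u * u) * w * u := by rw [huu, mul_one, mul_assoc]
            _ = _ := by group
        rw [e]
        exact mul_mem (ih.2 h) (hN w hw)
      · rw [pow_succ, show (w * u) ^ m * (w * u) * u = (w * u) ^ m * w * (u * u) by group, huu, mul_one]
        exact mul_mem (ih.1 (not_not.mp h)) hw
  obtain ⟨m, hm⟩ := isPPart_pow' (⟨y, hty, hc, ⟨k, hk⟩, hy⟩ : IsPPart 2 (w * u) t)
  rcases em (Even m) with he | he
  · exfalso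
    have h := (hpow m).1 he
    rw [← hm] at h
    have ht1 : t = 1 := by
      rw [← orderOf_eq_one_iff, hk]
      rcases Nat.eq_zero_or_pos k with e | e
      · rw [e, pow_zero]
      · exact absurd (even_iff_two_dvd.mpr (((dvd_pow_self 2 e.ne').trans (dvd_of_eq hk.symm)).trans
          (Subgroup.orderOf_dvd_natCard _ h))) (Nat.not_even_iff_odd.mpr (odd_W hP))
    rw [ht1, one_mul] at hty
    have h2 := (hpow (orderOf y)).2 fun he => hy (even_iff_two_dvd.mp he)
    rw [← hty, pow_orderOf_eq_one, one_mul] at h2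
    exact huW h2
  · have h := (hpow m).2 he
    rw [← hm] at h
    have ht : (t * u) * u = t := by rw [mul_assoc, huu, mul_one]
    have h2 : t * t ∈ W P := by
      have e : t * u * (u * (t * u) * u) = t * t := by
        calc t * u * (u * (t * u) * u) = t * (u * u) * t * (u * u) := by group
          _ = t * t := by rw [huu, mul_one, mul_one]
      rw [← e]
      exact mul_mem h (hN _ h)
    have htt : t * t = 1 := by
      rw [← orderOf_eq_one_iff]
      refine Nat.eq_one_of_dvd_coprimes (Nat.Coprime.pow_left k (Nat.coprime_two_left.mpr (odd_W hP)))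
        ?_ (Subgroup.orderOf_dvd_natCard _ h2)
      exact orderOf_dvd_of_pow_eq_one (by
        rw [← hk, (Commute.refl t).mul_pow, pow_orderOf_eq_one, one_mul])
    have hinv : u * (t * u) * u = (t * u)⁻¹ := by
      rw [mul_inv_rev, inv_eq_of_mul_eq_one_right htt, inv_eq_of_mul_eq_one_right huu]
      calc u * (t * u) * u = u * t * (u * u) := by group
        _ = u * t := by rw [huu, mul_one]
    have := conj_of_inverted (odd_W hP) huu h hinv
    rwa [ht] at this
where
  isPPart_pow' {g t : G} (h : IsPPart 2 g t) : ∃ m : ℕ, t = g ^ m := by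
    obtain ⟨y, rfl, hc, ⟨k, hk⟩, hy⟩ := h
    obtain ⟨m, hm1, hm0⟩ := Nat.chineseRemainder
      (show (orderOf t).Coprime (orderOf y) by
        rw [hk]; exact Nat.Coprime.pow_left k (Nat.prime_two.coprime_iff_not_dvd.mpr hy)) 1 0
    refine ⟨m, ?_⟩
    rw [hc.mul_pow, orderOf_dvd_iff_pow_eq_one.mp (Nat.modEq_zero_iff_dvd.mp hm0), mul_one,
      pow_eq_pow_iff_modEq.mpr hm1, pow_one]

/-- The multiplicities of the trivial character on `W` and on `W P`. -/
theorem exists_fixed {M : Ideal AlgInt} (hM : IsPModular 2 M) {χ : IrrCharacter G}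
    (hχ : χ ∈ principalBlock M G) :
    ∃ n₀ : ℕ, n₀ ≤ charDegree (χ : G → ℂ) ∧ 0 ≤ (n₀ : ℤ) + D P χ ∧ (Nat.card P : ℤ) ∣ n₀ + D P χ ∧
      (n₀ = charDegree (χ : G → ℂ) → ∀ w ∈ W P, (χ : G → ℂ) w = (χ : G → ℂ) 1) := by
  haveI := Fact.mk Nat.prime_two
  haveI := Fintype.ofFinite (IrrCharacter G)
  obtain ⟨n₀, hn₀⟩ := exists_sum_subgroup χ (W P)
  set X := W P ⊔ (P : Subgroup G) with hX
  obtain ⟨m, hm⟩ := exists_sum_subgroup χ X
  have hd := (charDegree_eq χ).1
  have hle : ∀ w : W P, ((χ : G → ℂ) w).re ≤ (charDegree (χ : G → ℂ) : ℝ) := fun w => by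
    have h1 := norm_irr_le χ (w : G)
    rw [hd, Complex.natCast_re] at h1
    exact (Complex.re_le_norm _).trans h1
  have hre : ∑ w : W P, ((χ : G → ℂ) w).re = (Nat.card (W P) : ℝ) * n₀ := by
    rw [← Complex.re_sum, hn₀, ← Nat.cast_mul, Complex.natCast_re, Nat.cast_mul]
  -- the sum over `W P`
  have hnorm : (P : Subgroup G) ≤ Subgroup.normalizer (W P : Set G) := le_nor.trans (nor_le_normalizer hP)
  have hbij : Function.Bijective (fun r : W P × (P : Subgroup G) =>
      (⟨(r.1 : G) * r.2, Subgroup.mul_mem_sup r.1.2 r.2.2⟩ : X)) := by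
    constructor
    · rintro ⟨a, u⟩ ⟨a', u'⟩ e
      have e1 : (a : G) * u = a' * u' := congrArg Subtype.val e
      have e2 : (a' : G)⁻¹ * a = (u' : G) * (u : G)⁻¹ := by
        rw [eq_mul_inv_iff_mul_eq, mul_assoc, e1]; group
      have h1 : (u' : G) * (u : G)⁻¹ = 1 := by
        rw [← e2, ← orderOf_eq_one_iff]
        refine Nat.eq_one_of_dvd_coprimes (Nat.coprime_two_left.mpr (odd_W hP)) ?_
          (Subgroup.orderOf_dvd_natCard _ (mul_mem (inv_mem a'.2) a.2))
        rw [e2]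
        exact orderOf_dvd_of_pow_eq_one (by rw [pow_two, hP.elem _ (mul_mem u'.2 (inv_mem u.2))])
      have h2 := mul_inv_eq_one.mp h1
      rw [h2] at e1
      exact Prod.ext (Subtype.ext (mul_right_cancel e1)) (Subtype.ext h2.symm)
    · rintro ⟨x, hx⟩
      rw [hX, ← SetLike.mem_coe, Subgroup.coe_mul_of_right_le_normalizer_left _ _ hnorm] at hx
      obtain ⟨a, ha, u, hu, e⟩ := hx
      exact ⟨⟨⟨a, ha⟩, ⟨u, hu⟩⟩, Subtype.ext e⟩
  have hcoset : ∀ u : (P : Subgroup G), (u : G) ≠ 1 →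
      ∑ w : W P, (χ : G → ℂ) ((w : G) * u) = (Nat.card (W P) : ℂ) * (val χ u : ℂ) := fun u hu => by
    rw [Finset.sum_congr rfl (g := fun _ => (χ : G → ℂ) u) fun w _ => ?_, Finset.sum_const,
      Finset.card_univ, ← Nat.card_eq_fintype_card, nsmul_eq_mul, val_spec χ (hP.elem u u.2)]
    obtain ⟨t, ht, hut⟩ := exists_isPPart_coset hP w.2 u.2 hu
    exact value_section hP.free hM hχ u.2 hu ht hut
  have hD : ∑ u ∈ (Finset.univ : Finset (P : Subgroup G)).erase 1, (val χ u : ℤ) = D P χ := by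
    refine Finset.sum_bij (fun u _ => (u : G)) (fun u hu => mem_nz.mpr ⟨u.2, fun e =>
      (Finset.mem_erase.mp hu).1 (Subtype.ext e)⟩) (fun _ _ _ _ e => Subtype.ext e)
      (fun v hv => ⟨⟨v, (mem_nz.mp hv).1⟩, Finset.mem_erase.mpr ⟨fun e =>
        (mem_nz.mp hv).2 (congrArg Subtype.val e), Finset.mem_univ _⟩, rfl⟩) fun _ _ => rfl
  have hkey : (Nat.card X : ℂ) * (m : ℂ) = (Nat.card (W P) : ℂ) * ((n₀ : ℂ) + (D P χ : ℂ)) := by
    rw [← hm, ← Fintype.sum_bijective _ hbij (fun r : W P × (P : Subgroup G) =>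
      (χ : G → ℂ) ((r.1 : G) * r.2)) _ (fun r => rfl), Fintype.sum_prod_type, Finset.sum_comm,
      ← Finset.add_sum_erase _ _ (Finset.mem_univ (1 : (P : Subgroup G))),
      Finset.sum_congr rfl (g := fun u : (P : Subgroup G) => (Nat.card (W P) : ℂ) * (val χ u : ℂ)) fun u hu =>
        hcoset u fun e => (Finset.mem_erase.mp hu).1 (Subtype.ext e),
      ← Finset.mul_sum, ← Int.cast_sum, hD]
    simp only [OneMemClass.coe_one, mul_one]
    rw [hn₀]
    ring
  have hXc : Nat.card X = Nat.card (W P) * Nat.card P := by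
    rw [← Nat.card_eq_of_bijective _ hbij, Nat.card_prod]
  rw [hXc, Nat.cast_mul, mul_assoc] at hkey
  have hkey' : (Nat.card P : ℤ) * m = (n₀ : ℤ) + D P χ := by
    have := mul_left_cancel₀ (Nat.cast_ne_zero.mpr Nat.card_pos.ne') hkey
    exact_mod_cast this
  refine ⟨n₀, ?_, hkey' ▸ by positivity, ⟨m, hkey'.symm⟩, fun he w hw => ?_⟩
  · have h1 : (Nat.card (W P) : ℝ) * n₀ ≤ (Nat.card (W P) : ℝ) * charDegree (χ : G → ℂ) := by
      rw [← hre]
      refine (Finset.sum_le_sum fun w _ => hle w).trans (le_of_eq ?_)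
      simp
    exact_mod_cast le_of_mul_le_mul_left h1 (Nat.cast_pos.mpr Nat.card_pos)
  · have h1 : ∑ x : W P, ((charDegree (χ : G → ℂ) : ℝ) - ((χ : G → ℂ) x).re) = 0 := by
      rw [Finset.sum_sub_distrib, hre, he]
      simp
    have h2 := (Finset.sum_eq_zero_iff_of_nonneg fun x _ => sub_nonneg.mpr (hle x)).mp h1 ⟨w, hw⟩
      (Finset.mem_univ _)
    rw [sub_eq_zero] at h2
    have h3 := norm_irr_le χ w
    rw [hd, Complex.natCast_re] at h3
    rw [hd]
    have h4 : ‖(χ : G → ℂ) w‖ = ((χ : G → ℂ) w).re :=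
      le_antisymm (h3.trans h2.le) (Complex.re_le_norm _)
    refine Complex.ext (by simpa using h2.symm) ?_
    simpa using Complex.re_eq_norm.mp h4.symm |>.2.symm

/-- The conjugates of `v` in `P`. -/
noncomputable def cls (P : Sylow 2 G) (v : G) : Finset G := (nz P).filter (IsConj v)

theorem card_cls {v : G} (hv : v ∈ (P : Subgroup G)) (hv1 : v ≠ 1) :
    (cls P v).card = (cen P).relIndex (nor P) := by
  have hmem : ∀ x, x ∈ cls P v → ∃ n : nor P, (n : G) * v * (n : G)⁻¹ = x := by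
    intro x hx
    obtain ⟨hx, hc⟩ := Finset.mem_filter.mp hx
    obtain ⟨g, hg⟩ := isConj_iff.mp hc
    obtain ⟨n, hn, e⟩ := hP.free.fusion hv (g := g) (hg ▸ (mem_nz.mp hx).1)
    exact ⟨⟨n, hn⟩, e.trans hg⟩
  choose n hn using hmem
  have hbij : Nat.card (cls P v) * Nat.card (cen P) = Nat.card (nor P) := by
    rw [← Nat.card_prod]
    refine Nat.card_eq_of_bijective (fun r : cls P v × cen P =>
      (⟨(n r.1 r.1.2 : G) * r.2, mul_mem (n r.1 r.1.2).2 (cen_le_nor r.2.2)⟩ : nor P)) ⟨?_, ?_⟩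
    · rintro ⟨x, c⟩ ⟨x', c'⟩ e
      have e1 : (n x x.2 : G) * c = n x' x'.2 * c' := congrArg Subtype.val e
      have hc : ∀ c : cen P, (c : G) * v * (c : G)⁻¹ = v := fun c => by
        rw [← Subgroup.mem_centralizer_iff.mp c.2 v hv, mul_inv_cancel_right]
      have hx : x = x' := Subtype.ext (by
        rw [← hn x x.2, ← hn x' x'.2]
        calc (n x x.2 : G) * v * (n x x.2 : G)⁻¹
            = (n x x.2 : G) * ((c : G) * v * (c : G)⁻¹) * (n x x.2 : G)⁻¹ := by rw [hc]
          _ = ((n x x.2 : G) * c) * v * ((n x x.2 : G) * c)⁻¹ := by group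
          _ = ((n x' x'.2 : G) * c') * v * ((n x' x'.2 : G) * c')⁻¹ := by rw [e1]
          _ = (n x' x'.2 : G) * ((c' : G) * v * (c' : G)⁻¹) * (n x' x'.2 : G)⁻¹ := by group
          _ = _ := by rw [hc])
      subst hx
      exact Prod.ext rfl (Subtype.ext (mul_left_cancel e1))
    · intro k
      have hk : (k : G) * v * (k : G)⁻¹ ∈ cls P v := Finset.mem_filter.mpr
        ⟨mem_nz.mpr ⟨conj_mem_P k.2 hv, fun e => hv1 (conj_eq_one_iff.mp e)⟩, isConj_iff.mpr ⟨_, rfl⟩⟩
      set m := n _ hk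
      have hc : (m : G)⁻¹ * k ∈ cen P := by
        rw [← hP.free.frob v hv hv1]
        refine ⟨Subgroup.mem_centralizer_singleton_iff.mpr (mul_inv_eq_iff_eq_mul.mp ?_),
          (nor P).mul_mem ((nor P).inv_mem m.2) k.2⟩
        calc (m : G)⁻¹ * k * v * ((m : G)⁻¹ * k)⁻¹ = (m : G)⁻¹ * ((k : G) * v * (k : G)⁻¹) * m := by group
          _ = (m : G)⁻¹ * ((m : G) * v * (m : G)⁻¹) * m := by rw [hn _ hk]
          _ = v := by group
      exact ⟨⟨⟨_, hk⟩, ⟨_, hc⟩⟩, Subtype.ext (by show (m : G) * ((m : G)⁻¹ * k) = k; group)⟩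
  rw [Nat.card_eq_fintype_card (α := cls P v), Fintype.card_coe] at hbij
  refine Nat.eq_of_mul_eq_mul_right (Nat.card_pos (α := cen P)) (hbij.trans ?_)
  rw [← Nat.card_congr (Subgroup.subgroupOfEquivOfLe (cen_le_nor (P := P))).toEquiv, Subgroup.relIndex,
    Subgroup.index_mul_card]

theorem relIndex_dvd : (cen P).relIndex (nor P) ∣ (nz P).card := by
  rw [Finset.card_eq_sum_card_fiberwise (f := fun v => cls P v) (t := (nz P).image fun v => cls P v)
    fun v hv => Finset.mem_image_of_mem _ hv]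
  refine Finset.dvd_sum fun F hF => ?_
  obtain ⟨v, hv, rfl⟩ := Finset.mem_image.mp hF
  refine dvd_of_eq ?_
  rw [← card_cls hP (mem_nz.mp hv).1 (mem_nz.mp hv).2]
  congr 1
  ext x
  rw [Finset.mem_filter]
  constructor
  · intro hx
    obtain ⟨hx, hc⟩ := Finset.mem_filter.mp hx
    exact ⟨hx, Finset.filter_congr fun y _ => ⟨fun h => hc.trans h, fun h => hc.symm.trans h⟩⟩
  · rintro ⟨hx, e⟩
    have h1 : x ∈ cls P x := Finset.mem_filter.mpr ⟨hx, IsConj.refl x⟩
    rwa [e] at h1

variable {M : Ideal AlgInt} (hM : IsPModular 2 M)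
include hM

theorem sum_D_sq [Fintype (IrrCharacter G)] :
    ∑ χ ∈ Finset.univ.filter (· ∈ principalBlock M G), D P χ ^ 2 =
      (Nat.card P : ℤ) * (nz P).card * (cen P).relIndex (nor P) := by
  refine Int.cast_injective (α := ℂ) ?_
  push_cast
  rw [Finset.sum_congr rfl (g := fun χ : IrrCharacter G => ∑ a ∈ nz P, ∑ b ∈ nz P,
      (χ : G → ℂ) a * conj ((χ : G → ℂ) b)) fun χ _ => ?_, Finset.sum_comm]
  swap
  · rw [D, Int.cast_sum, pow_two, Finset.sum_mul_sum]
    refine Finset.sum_congr rfl fun a ha => Finset.sum_congr rfl fun b hb => ?_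
    rw [conj_val (hP.elem b (mem_nz.mp hb).1), val_spec χ (hP.elem a (mem_nz.mp ha).1),
      val_spec χ (hP.elem b (mem_nz.mp hb).1)]
  rw [Finset.sum_congr rfl (g := fun _ => (Nat.card P : ℂ) * (cen P).relIndex (nor P)) fun a ha => ?_,
    Finset.sum_const, nsmul_eq_mul]
  · ring
  obtain ⟨ha, ha1⟩ := mem_nz.mp ha
  rw [Finset.sum_comm, Finset.sum_congr rfl (g := fun b => if IsConj a b then (Nat.card P : ℂ) else 0)
    fun b hb => ?_, ← Finset.sum_filter, Finset.sum_const, nsmul_eq_mul, ← cls, card_cls hP ha ha1,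
    mul_comm]
  obtain ⟨hb, hb1⟩ := mem_nz.mp hb
  by_cases hab : IsConj a b
  · rw [if_pos hab, ← col_self hP.free hM ha ha1]
    exact Finset.sum_congr rfl fun χ _ => by rw [classFun_isConj (isClassFunction_irr χ) hab]
  · rw [if_neg hab, col_ne hP.free hM ha hb hab]

omit hM in
theorem sum_pairSet {w : G} (hw : w ∈ nz P) :
    ∑ a ∈ nz P, ∑ b ∈ nz P, (pairSet P a b w).card =
      ((nz P).card - 1) * ((cen P).relIndex (nor P) * (cen P).relIndex (nor P)) := by
  obtain ⟨hw, hw1⟩ := mem_nz.mp hw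
  have key : ∀ u ∈ (nz P).erase w,
      ∑ a ∈ nz P, ∑ b ∈ nz P, (if IsConj a u ∧ IsConj b (u * w) then 1 else 0) =
        (cen P).relIndex (nor P) * (cen P).relIndex (nor P) := by
    intro u hu
    obtain ⟨huw, hu⟩ := Finset.mem_erase.mp hu
    obtain ⟨hu, hu1⟩ := mem_nz.mp hu
    have huw1 : u * w ≠ 1 := fun e =>
      huw ((eq_inv_of_mul_eq_one_left e).trans (inv_eq_of_mul_eq_one_right (hP.elem w hw)))
    have hc : ∀ v, (nz P).filter (fun a => IsConj a v) = cls P v := fun v =>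
      Finset.filter_congr fun x _ => isConj_comm
    nth_rw 1 [← card_cls hP hu hu1]
    rw [← card_cls hP (mul_mem hu hw) huw1, ← hc, ← hc, Finset.card_filter, Finset.card_filter,
      Finset.sum_mul_sum]
    refine Finset.sum_congr rfl fun a _ => Finset.sum_congr rfl fun b _ => ?_
    by_cases h1 : IsConj a u <;> by_cases h2 : IsConj b (u * w) <;> simp [h1, h2, -isConj_iff]
  have hset : ∀ a b, (pairSet P a b w).card =
      ∑ u ∈ (nz P).erase w, if IsConj a u ∧ IsConj b (u * w) then 1 else 0 := fun a b => by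
    rw [← Finset.card_filter]
    congr 1
    ext u
    simp only [pairSet, Finset.mem_filter, Finset.mem_univ, true_and, Finset.mem_erase, mem_nz]
    tauto
  simp only [hset]
  rw [Finset.sum_congr rfl fun a _ => Finset.sum_comm, Finset.sum_comm, Finset.sum_congr rfl key,
    Finset.sum_const, Finset.card_erase_of_mem (mem_nz.mpr ⟨hw, hw1⟩), smul_eq_mul]

/-- The third moment. -/
theorem sum_D_cube [Fintype (IrrCharacter G)] :
    ((H P).index : ℝ) * ∑ χ ∈ Finset.univ.filter (· ∈ principalBlock M G),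
        (D P χ : ℝ) ^ 3 / (charDegree (χ : G → ℂ) : ℝ) =
      (Nat.card P : ℝ) * (cen P).relIndex (nor P) * (nz P).card * ((nz P).card - 1 : ℕ) := by
  have hN : ((H P).index : ℂ) * (cen P).relIndex (nor P) *
      ∑ χ ∈ Finset.univ.filter (· ∈ principalBlock M G),
        (D P χ : ℂ) ^ 3 / (charDegree (χ : G → ℂ) : ℂ) =
      (Nat.card P : ℂ) * ((nz P).card * (((nz P).card - 1) *
        ((cen P).relIndex (nor P) * (cen P).relIndex (nor P))) : ℕ) := by
    rw [show ((nz P).card * (((nz P).card - 1) *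
        ((cen P).relIndex (nor P) * (cen P).relIndex (nor P))) : ℕ) =
      ∑ w ∈ nz P, ∑ a ∈ nz P, ∑ b ∈ nz P, (pairSet P a b w).card by
        rw [Finset.sum_congr rfl fun w hw => sum_pairSet hP hw, Finset.sum_const, smul_eq_mul]]
    push_cast
    simp only [Finset.mul_sum (Finset.univ : Finset _), Finset.mul_sum]
    rw [Finset.sum_congr rfl (g := fun χ : IrrCharacter G => ∑ w ∈ nz P, ∑ a ∈ nz P, ∑ b ∈ nz P,
      ((H P).index : ℂ) * (cen P).relIndex (nor P) *
        ((χ : G → ℂ) a * (χ : G → ℂ) b * (χ : G → ℂ) w / (χ : G → ℂ) 1)) fun χ _ => ?_]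
    · rw [Finset.sum_comm]
      refine Finset.sum_congr rfl fun w hw => ?_
      rw [Finset.sum_comm]
      refine Finset.sum_congr rfl fun a ha => ?_
      rw [Finset.sum_comm]
      refine Finset.sum_congr rfl fun b hb => ?_
      rw [← Finset.mul_sum, pair_identity hP hM (mem_nz.mp ha).1 (mem_nz.mp ha).2 (mem_nz.mp hb).1
        (mem_nz.mp hb).2 (mem_nz.mp hw).1 (mem_nz.mp hw).2]
    have h3 : (D P χ : ℂ) ^ 3 =
        ∑ w ∈ nz P, ∑ a ∈ nz P, ∑ b ∈ nz P, (χ : G → ℂ) a * (χ : G → ℂ) b * (χ : G → ℂ) w := by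
      have hD : (D P χ : ℂ) = ∑ v ∈ nz P, (χ : G → ℂ) v := by
        rw [D, Int.cast_sum]
        exact Finset.sum_congr rfl fun v hv => (val_spec χ (hP.elem v (mem_nz.mp hv).1)).symm
      rw [hD, pow_three, Finset.sum_mul_sum, Finset.sum_mul]
      refine Finset.sum_congr rfl fun w _ => ?_
      rw [Finset.mul_sum]
      refine Finset.sum_congr rfl fun a _ => ?_
      rw [Finset.mul_sum]
      exact Finset.sum_congr rfl fun b _ => by ring
    rw [h3, ← (charDegree_eq χ).1]
    simp only [Finset.sum_div, Finset.mul_sum]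
  have he : ((cen P).relIndex (nor P) : ℂ) ≠ 0 := Nat.cast_ne_zero.mpr Subgroup.index_ne_zero_of_finite
  refine Complex.ofReal_injective ?_
  push_cast at hN ⊢
  refine mul_left_cancel₀ he ?_
  linear_combination hN

end CfsgLib.Block.FreeElementary
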