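import Cfsg.Agent.Lib.Block.AbelianFreeShape
import Cfsg.Agent.Lib.Block.AbelianFreeThree
import Cfsg.Agent.Lib.Block.HomocyclicTwo
import Cfsg.Agent.Lib.Block.FreeElementary.Automizer
import Cfsg.Agent.Lib.Block.FreeElementary.Kernel

/-!
# A free automizer of prime order on a Sylow 2-subgroup that is not elementary

No two conjugates of an involution `s` have a product with 2-part `y` when `y * y ≠ 1`.  In the shape
`X ∪ Y` of the principal block this gives `∑_X a ^ 3 / χ(1) = δ e ^ 2 / f`, which forces `f = e` and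
`χ(1) = a` on `X`; the kernel of a nontrivial member of `X` then shows that `P` is normal.
-/

set_option autoImplicit false
set_option linter.unusedSectionVars false

namespace CfsgLib.Block.FreeElementary

open scoped ComplexConjugate IsMulCommutative
open Cfsg CfsgLib.Char CfsgLib.Block CfsgLib.Block.AbelianFree

universe u

open scoped Classical

variable {G : Type u} [Group G] [Fintype G] {P : Sylow 2 G}

/-- An inverted element of `P` is an involution. -/
theorem sq_eq_one_of_inv (h : Free P) {y g : G} (hy : y ∈ (P : Subgroup G)) (hy1 : y ≠ 1)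
    (hg : g * y * g⁻¹ = y⁻¹) : y * y = 1 := by
  haveI := h.comm
  haveI := Fact.mk Nat.prime_two
  obtain ⟨n, hn, e⟩ := h.fusion hy (g := g) (hg ▸ inv_mem hy)
  rw [hg] at e
  have e2 : n * y⁻¹ * n⁻¹ = y := by rw [← conj_inv, e, inv_inv]
  have hnn : n * n ∈ cen P := by
    rw [← h.frob y hy hy1]
    refine Subgroup.mem_inf.mpr ⟨Subgroup.mem_centralizer_singleton_iff.mpr ?_, mul_mem hn hn⟩
    calc n * n * y = n * (n * y * n⁻¹) * n := by group
      _ = n * y⁻¹ * n⁻¹ * (n * n) := by rw [e]; group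
      _ = y * (n * n) := by rw [e2]
  set a : auto P := ⟨_, ⟨⟨n, hn⟩, rfl⟩⟩
  have ha2 : a ^ 2 = 1 := Subtype.ext (by
    show (P : Subgroup G).normalizerMonoidHom ⟨n, hn⟩ ^ 2 = 1
    rw [← map_pow]
    exact eq_one_of_mem_cen (n := n ^ 2) (pow_mem hn 2) (by rwa [pow_two]))
  have ha : a = 1 := by
    rw [← orderOf_eq_one_iff]
    exact Nat.eq_one_of_dvd_coprimes (Nat.coprime_two_left.mpr (odd_auto (P := P)))
      (orderOf_dvd_of_pow_eq_one ha2) (orderOf_dvd_natCard a)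
  have h3 : (P : Subgroup G).normalizerMonoidHom ⟨n, hn⟩ = 1 := congrArg Subtype.val ha
  have h4 : n * y * n⁻¹ = y :=
    mul_inv_eq_iff_eq_mul.mpr ((auto_fix_iff hn ⟨y, hy⟩).mp (by rw [h3]; rfl))
  exact mul_eq_one_iff_eq_inv.mpr (h4.symm.trans e)

/-- No product of two conjugates of an involution has 2-part `y`. -/
theorem not_prod (h : Free P) {s y z a b : G} (hs : s * s = 1) (hy : y ∈ (P : Subgroup G))
    (hy2 : y * y ≠ 1) (hz : IsPPart 2 z y) (ha : IsConj s a) (hb : IsConj s b) : a * b ≠ z := by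
  haveI := Fact.mk Nat.prime_two
  intro hab
  refine hy2 (sq_eq_one_of_inv h hy (fun e => hy2 (by rw [e, one_mul])) (g := a) ?_)
  have haz : a * z * a⁻¹ = z⁻¹ := by
    rw [← hab, mul_inv_rev, inv_eq_of_mul_eq_one_right (involution_inv_conj hs hb),
      inv_eq_of_mul_eq_one_right (involution_inv_conj hs ha), ← mul_assoc a a b, involution_inv_conj hs ha,
      one_mul]
  obtain ⟨c, hc, hcomm, hk, hc2⟩ := hz
  have h1 := CfsgLib.Block.isPPart_conj (⟨c, hc, hcomm, hk, hc2⟩ : IsPPart 2 z y) a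
  rw [haz] at h1
  refine isPPart_unique Nat.prime_two h1 ⟨c⁻¹, ?_, hcomm.inv_inv, by rwa [orderOf_inv], by rwa [orderOf_inv]⟩
  rw [← hc, hcomm.eq, mul_inv_rev]

variable (h : Free P)
include h

/-- Not elementary and free: `(e + 1) ^ 2 ≤ |P|`. -/
theorem sq_auto_succ_le {y₀ : G} (hy₀ : y₀ ∈ (P : Subgroup G)) (hy2 : y₀ * y₀ ≠ 1) :
    (Nat.card (auto P) + 1) ^ 2 ≤ Nat.card P := by
  haveI := h.comm
  haveI := Fact.mk Nat.prime_two
  set φ := powMonoidHom (α := (P : Subgroup G)) 2 with hφ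
  have hstab : ∀ u : (P : Subgroup G), u ≠ 1 → MulAction.stabilizer (auto P) u = ⊥ := by
    intro u hu
    refine (Subgroup.eq_bot_iff_forall _).mpr ?_
    rintro ⟨_, ⟨n, hn⟩, rfl⟩ hfix
    refine Subtype.ext (eq_one_of_mem_cen hn ?_)
    rw [← h.frob u u.2 fun e => hu (Subtype.ext e)]
    exact Subgroup.mem_inf.mpr ⟨Subgroup.mem_centralizer_singleton_iff.mpr ((auto_fix_iff hn u).mp hfix), hn⟩
  have hy0' : φ ⟨y₀, hy₀⟩ ≠ 1 := fun e => hy2 (by
    have := congrArg Subtype.val e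
    simpa [hφ, pow_two] using this)
  have hker : Nat.card (auto P) + 1 ≤ Nat.card φ.ker := by
    obtain ⟨k, hk⟩ := exists_prime_orderOf_dvd_card' (G := (P : Subgroup G)) 2 (by
      obtain ⟨j, hj⟩ := P.2.exists_card_eq
      rw [hj]
      refine dvd_pow_self 2 fun e => hy2 ?_
      rw [e, pow_zero] at hj
      rw [Subgroup.card_eq_one.mp hj, Subgroup.mem_bot] at hy₀
      rw [hy₀, one_mul])
    have hd := card_dvd_invol hstab
    haveI : Nonempty {u : (P : Subgroup G) // u ≠ 1 ∧ u ^ 2 = 1} :=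
      ⟨⟨k, fun e => by rw [e, orderOf_one] at hk; omega, orderOf_dvd_iff_pow_eq_one.mp (dvd_of_eq hk)⟩⟩
    refine le_trans (Nat.add_le_add_right (Nat.le_of_dvd Nat.card_pos hd) 1) ?_
    rw [← Finite.card_option]
    refine Nat.card_le_card_of_injective (fun o : Option {u : (P : Subgroup G) // u ≠ 1 ∧ u ^ 2 = 1} =>
      (o.elim (1 : φ.ker) fun u => ⟨u.1, u.2.2⟩)) ?_
    intro a b e
    cases a with
    | none =>
      cases b with
      | none => rfl
      | some v => exact absurd (congrArg Subtype.val e).symm v.2.1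
    | some u =>
      cases b with
      | none => exact absurd (congrArg Subtype.val e) u.2.1
      | some v => exact congrArg some (Subtype.ext (congrArg (fun z : φ.ker => (z : (P : Subgroup G))) e))
  have hran : Nat.card (auto P) + 1 ≤ Nat.card φ.range := by
    have hd := card_dvd (Q := fun u : (P : Subgroup G) => u ≠ 1 ∧ u ∈ φ.range)
      (fun a u hu => ⟨fun e => hu.1 ((smul_eq_iff_eq_inv_smul a).mp e |>.trans (by simp)), by
        obtain ⟨w, hw⟩ := hu.2
        exact ⟨a • w, by rw [← hw]; exact (smul_pow' a w 2).symm⟩⟩) fun u hu => hstab u hu.1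
    haveI : Nonempty {u : (P : Subgroup G) // u ≠ 1 ∧ u ∈ φ.range} := ⟨⟨_, hy0', ⟨_, rfl⟩⟩⟩
    refine le_trans (Nat.add_le_add_right (Nat.le_of_dvd Nat.card_pos hd) 1) ?_
    rw [← Finite.card_option]
    refine Nat.card_le_card_of_injective (fun o : Option {u : (P : Subgroup G) // u ≠ 1 ∧ u ∈ φ.range} =>
      (o.elim (1 : φ.range) fun u => ⟨u.1, u.2.2⟩)) ?_
    intro a b e
    cases a with
    | none =>
      cases b with
      | none => rfl
      | some v => exact absurd (congrArg Subtype.val e).symm v.2.1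
    | some u =>
      cases b with
      | none => exact absurd (congrArg Subtype.val e) u.2.1
      | some v => exact congrArg some (Subtype.ext (congrArg (fun z : φ.range => (z : (P : Subgroup G))) e))
  rw [pow_two, show Nat.card P = Nat.card φ.ker * Nat.card φ.range by
    rw [← Nat.card_congr (QuotientGroup.quotientKerEquivRange φ).toEquiv, mul_comm,
      ← Subgroup.card_eq_card_quotient_mul_card_subgroup]]
  exact Nat.mul_le_mul hker hran

/-- A member of `X` with `χ(1) = a` makes `P` normal. -/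
theorem normal_of_constant (hO : ∀ N : Subgroup G, N.Normal → Odd (Nat.card N) → N = ⊥)
    (hp : ((cen P).relIndex (nor P)).Prime) {M : Ideal AlgInt} (hM : IsPModular 2 M) {χ : IrrCharacter G}
    (hχ : χ ∈ principalBlock M G) (hne : χ ≠ oneChar G)
    (hval : ∀ y ∈ (P : Subgroup G), (χ : G → ℂ) y = (χ : G → ℂ) 1) :
    (P : Subgroup G).Normal ∧ Subgroup.centralizer ((P : Subgroup G) : Set G) = P := by
  haveI := Fact.mk Nat.prime_two
  haveI := hM.2.1
  obtain ⟨L, hL, hmem⟩ := CfsgLib.Invol.exists_charKernel χ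
  have hLtop : L ≠ ⊤ := fun e => hne
    (CfsgLib.Invol.eq_oneChar_of_constant χ fun x => (hmem x).mp (e ▸ Subgroup.mem_top x))
  have hPL : (P : Subgroup G) ≤ L := fun y hy => (hmem y).mpr (hval y hy)
  obtain ⟨y, hy, hy1⟩ : ∃ y ∈ (P : Subgroup G), y ≠ 1 := by
    by_contra hc
    push Not at hc
    refine hp.ne_one (Subgroup.relIndex_eq_one.mpr fun n _ => Subgroup.mem_centralizer_iff.mpr fun u hu => ?_)
    rw [hc u hu, one_mul, mul_one]
  have hCL : cen P ≤ L := by
    intro c hc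
    have hcy : c ∈ Subgroup.centralizer ({y} : Set G) :=
      Subgroup.mem_centralizer_singleton_iff.mpr (Subgroup.mem_centralizer_iff.mp hc y hy).symm
    obtain ⟨⟨a, w⟩, e⟩ := (centralizer_bijective h hy hy1).2 ⟨c, hcy⟩
    have e' : (a : G) * w = c := congrArg Subtype.val e
    have hya : y * a ∈ L := (hmem _).mpr ((value_section h hM hχ hy hy1
      (isPPart_mul h hy hy1 a.2) (IsConj.refl y)).trans (hval y hy))
    rw [← e']
    refine mul_mem ?_ (hPL w.2)
    have := mul_mem (inv_mem (hPL hy)) hya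
    rwa [inv_mul_cancel_left] at this
  have hinf : L ⊓ nor P ≤ cen P := by
    have h1 := Subgroup.relIndex_mul_relIndex (cen P) (L ⊓ nor P) (nor P) (le_inf hCL cen_le_nor) inf_le_right
    rcases (Nat.dvd_prime hp).mp (Dvd.intro _ h1) with h2 | h2
    · exact Subgroup.relIndex_eq_one.mp h2
    · exfalso
      rw [h2, Nat.mul_eq_left hp.ne_zero, Subgroup.relIndex_eq_one] at h1
      have hsup := Sylow.normalizer_sup_eq_top (p := 2) (P.subtype hPL)
      rw [Sylow.coe_subtype, Subgroup.map_subgroupOf_eq_of_le hPL] at hsup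
      exact hLtop (top_le_iff.mp (hsup ▸ sup_le (h1.trans inf_le_left) le_rfl))
  have hLP := HomocyclicTwo.eq_sylow_of_central hO P L hPL hinf
  refine ⟨hLP ▸ hL, le_antisymm ?_ h.le_cen⟩
  exact hCL.trans hLP.le

/-- Not elementary, free and of prime index: `P` is normal. -/
theorem normal_of_not_elementary (hO : ∀ N : Subgroup G, N.Normal → Odd (Nat.card N) → N = ⊥)
    (hp : ((cen P).relIndex (nor P)).Prime) {M : Ideal AlgInt} (hM : IsPModular 2 M)
    {y₀ : G} (hy₀ : y₀ ∈ (P : Subgroup G)) (hy2 : y₀ * y₀ ≠ 1) :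
    (P : Subgroup G).Normal ∧ Subgroup.centralizer ((P : Subgroup G) : Set G) = P := by
  haveI := Fact.mk Nat.prime_two
  haveI := hM.2.1
  haveI := h.comm
  haveI := Fintype.ofFinite (IrrCharacter G)
  haveI : Finite (Lin P) := Finite.of_injective _ (lc_injective (P := P))
  haveI := Fintype.ofFinite (Lin P)
  set e := (cen P).relIndex (nor P) with hedef
  set q := Nat.card P with hqdef
  have he2 : 2 ≤ e := hp.two_le
  have hsq : (e + 1) ^ 2 ≤ q := by rw [hedef, relIndex_eq_card]; exact sq_auto_succ_le h hy₀ hy2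
  have hm : e + 1 < q := by nlinarith
  have hP1 : q ≠ 1 := by omega
  obtain ⟨E⟩ := h.exists_coherent hM hm
  have h1X := E.one_mem_X h hM hm
  set y : (P : Subgroup G) := ⟨y₀, hy₀⟩
  have hy1 : y ≠ 1 := fun e1 => hy2 (by
    rw [show y₀ = 1 from congrArg Subtype.val e1, one_mul])
  -- an involution
  obtain ⟨s, hs2⟩ := exists_prime_orderOf_dvd_card' (G := (P : Subgroup G)) 2 (by
    obtain ⟨j, hj⟩ := P.2.exists_card_eq
    rw [hj]
    exact dvd_pow_self 2 fun e1 => hP1 (by rw [hqdef, hj, e1, pow_zero]))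
  have hs1 : s ≠ 1 := fun e1 => by rw [e1, orderOf_one] at hs2; omega
  have hs1' : (s : G) ≠ 1 := fun e1 => hs1 (Subtype.ext e1)
  have hss : s ^ 2 = 1 := orderOf_dvd_iff_pow_eq_one.mp (dvd_of_eq hs2)
  have hss' : (s : G) * s = 1 := by rw [← pow_two]; exact_mod_cast congrArg Subtype.val hss
  have hpp : ∀ w ∈ (P : Subgroup G), IsPPart 2 w w := fun w hw =>
    isPPart_one_mul (h.orderOf_mem hw) (by norm_num)
  have hXval : ∀ θ ∈ E.X, ∀ w ∈ (P : Subgroup G), w ≠ 1 → (θ : G → ℂ) w = (E.base θ : ℂ) :=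
    fun θ hθ w hw hw1 => E.value_X h hM hθ (hpp w hw) hw hw1
  -- the base of an exceptional character vanishes
  obtain ⟨ψ₀, hψ₀⟩ : ∃ ψ : Lin P, ψ ≠ 1 := by
    haveI : Nontrivial (Lin P) := Fintype.one_lt_card_iff_nontrivial.mp (by rw [h.card_lin, ← hqdef]; omega)
    exact exists_ne 1
  set B₀ := E.base (E.ζ ψ₀) with hB₀
  have hY := E.card_Y h
  rw [← hedef, ← hqdef] at hY
  have hnorm := E.norm_eq h hM hP1 hψ₀
  rw [← hedef, ← hB₀] at hnorm
  have hb1 : E.base (oneChar G) = 1 := by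
    have h1 := hXval _ h1X s s.2 hs1'
    simp only [oneChar] at h1
    exact_mod_cast h1.symm
  have hXge : (1 : ℤ) ≤ ∑ θ ∈ E.X, E.base θ ^ 2 :=
    le_trans (by rw [hb1, one_pow]) (Finset.single_le_sum (f := fun θ => E.base θ ^ 2)
      (fun θ _ => sq_nonneg (E.base θ)) h1X)
  have hbase : B₀ = 0 := by
    by_contra hb0
    have h1 : (1 : ℤ) ≤ B₀ ^ 2 := by
      have := mul_self_pos.mpr hb0
      rw [pow_two]; omega
    have h2 : (E.Y.card : ℤ) - 1 ≤ e := by
      by_contra hc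
      push Not at hc
      nlinarith [sq_nonneg (B₀ - E.δ)]
    have h3 : E.Y.card ≤ e + 1 := by omega
    have h4 := Nat.mul_le_mul_right e h3
    rw [hY] at h4
    have h5 : (e + 1) ^ 2 = (e + 1) * e + e + 1 := by ring
    omega
  have hYbase : ∀ ψ : Lin P, ψ ≠ 1 → E.base (E.ζ ψ) = 0 := fun ψ hψ =>
    (E.base_eq h hM hP1 hψ hψ₀).trans hbase
  have hδ : E.δ ^ 2 = 1 := by rcases E.sign with e1 | e1 <;> rw [e1] <;> norm_num
  have hXsum : ∑ θ ∈ E.X, E.base θ ^ 2 = (e : ℤ) := by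
    rw [hbase] at hnorm
    linarith
  -- the sums over the orbits
  set Sn : Lin P → ℂ := fun ψ => ∑ n : nor P, (tw P n ψ s : ℂ) with hSn
  have hSfib : ∀ ψ : Lin P, ψ ≠ 1 →
      Sn ψ = (Nat.card (cen P) : ℂ) * ∑ b ∈ Finset.univ.filter (fun b => Rel P ψ b), (b s : ℂ) := by
    intro ψ hψ
    rw [Finset.mul_sum, hSn]
    simp only
    rw [← Finset.sum_fiberwise_of_maps_to (g := fun n : nor P => tw P n ψ)
      (t := Finset.univ.filter fun b => Rel P ψ b)
      fun n _ => Finset.mem_filter.mpr ⟨Finset.mem_univ _, rel_iff.mpr ⟨n, rfl⟩⟩]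
    refine Finset.sum_congr rfl fun b hb => ?_
    have hr := (Finset.mem_filter.mp hb).2
    rw [Finset.sum_congr rfl (g := fun _ => (b s : ℂ)) fun n hn => by rw [(Finset.mem_filter.mp hn).2],
      Finset.sum_const, nsmul_eq_mul, ← Fintype.card_subtype, ← Nat.card_eq_fintype_card,
      h.card_tw (ne_one_of_rel hr hψ) ψ, if_pos hr]
  have hnorC : (Nat.card (nor P) : ℂ) = (Nat.card (cen P) : ℂ) * e := by
    rw [hedef, ← Nat.cast_mul, ← Subgroup.relIndex_bot_left (cen P), Subgroup.relIndex_mul_relIndex _ _ _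
      bot_le cen_le_nor, Subgroup.relIndex_bot_left]
  have hS1 : Sn 1 = (Nat.card (cen P) : ℂ) * e := by
    rw [← hnorC, hSn]
    simp only [tw_triv, MonoidHom.one_apply, Units.val_one, Finset.sum_const, Finset.card_univ,
      nsmul_eq_mul, mul_one, Nat.card_eq_fintype_card]
  have htot : ∑ ψ : Lin P, (ψ y : ℂ) * Sn ψ ^ 2 = 0 := by
    have hy22 : y ^ 2 ≠ 1 := fun e1 => hy2 (by
      have := congrArg Subtype.val e1
      simpa [y, pow_two] using this)
    obtain ⟨lam, hlam⟩ : ∃ lam : Lin P, lam (y ^ 2) ≠ 1 := by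
      by_contra hc
      push Not at hc
      have h1 := h.sum_lin_apply hy22
      simp only [hc, Units.val_one, Finset.sum_const, Finset.card_univ, nsmul_eq_mul, mul_one,
        Nat.cast_eq_zero] at h1
      exact Fintype.card_ne_zero h1
    set κ : Lin P := lam.comp (powMonoidHom 2) with hκ
    have hκy : (κ y : ℂ) ≠ 1 := fun e1 => hlam (Units.ext e1)
    have hinv : ∀ ψ : Lin P, Sn (ψ * κ) = Sn ψ := fun ψ => Finset.sum_congr rfl fun n _ => by
      rw [tw_apply, tw_apply, MonoidHom.mul_apply]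
      congr 1
      rw [hκ, MonoidHom.comp_apply, powMonoidHom_apply, ← map_pow, hss, map_one, map_one, mul_one]
    have h1 : ∑ ψ : Lin P, (ψ y : ℂ) * Sn ψ ^ 2 = (κ y : ℂ) * ∑ ψ : Lin P, (ψ y : ℂ) * Sn ψ ^ 2 := by
      rw [Finset.mul_sum]
      refine (Fintype.sum_equiv (Equiv.mulRight κ) _ _ fun ψ => ?_).symm
      rw [Equiv.coe_mulRight, hinv, MonoidHom.mul_apply, Units.val_mul]
      ring
    by_contra h0
    exact hκy (mul_right_cancel₀ h0 (h1.symm.trans (one_mul _).symm))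
  -- the degree of the exceptional characters
  obtain ⟨f, hf⟩ : ∃ f : ℕ, ∀ ψ : Lin P, ψ ≠ 1 → (E.ζ ψ : G → ℂ) 1 = (f : ℂ) :=
    ⟨charDegree (E.ζ ψ₀ : G → ℂ), fun ψ hψ =>
      (E.regular_eq h hM hψ hψ₀ (by simp)).trans (charDegree_eq (E.ζ ψ₀)).1⟩
  have hf0 : f ≠ 0 := fun e1 => irr_one_ne_zero (E.ζ ψ₀) (by rw [hf ψ₀ hψ₀, e1, Nat.cast_zero])
  have hval : ∀ ψ : Lin P, ψ ≠ 1 → ∀ w : (P : Subgroup G), w ≠ 1 → (E.ζ ψ : G → ℂ) w =
      (E.δ : ℂ) * ∑ b ∈ Finset.univ.filter (fun b => Rel P ψ b), (b w : ℂ) := fun ψ hψ w hw => by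
    rw [E.value h (E.mem ψ hψ) hw, E.filter_eq_rel hψ, hYbase ψ hψ, Int.cast_zero, zero_add]
  have hC0 : (Nat.card (cen P) : ℂ) ≠ 0 := Nat.cast_ne_zero.mpr Nat.card_pos.ne'
  have hYsum : ∑ θ ∈ E.Y, (θ : G → ℂ) y * (θ : G → ℂ) s ^ 2 = -((E.δ : ℂ) * (e : ℂ) ^ 2) := by
    refine mul_left_cancel₀ (pow_ne_zero 2 hC0) ?_
    have h2 : ∑ ψ ∈ Finset.univ.filter (fun ψ : Lin P => ψ ≠ 1), (ψ y : ℂ) * Sn ψ ^ 2 =
        -((Nat.card (cen P) : ℂ) * e) ^ 2 := by
      rw [← hS1, Finset.filter_ne']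
      rw [← Finset.add_sum_erase _ _ (Finset.mem_univ (1 : Lin P)), MonoidHom.one_apply, Units.val_one,
        one_mul] at htot
      linear_combination htot
    calc (Nat.card (cen P) : ℂ) ^ 2 * ∑ θ ∈ E.Y, (θ : G → ℂ) y * (θ : G → ℂ) s ^ 2
        = ∑ θ ∈ E.Y, (E.δ : ℂ) * ∑ ψ ∈ (Finset.univ.filter fun ψ : Lin P => ψ ≠ 1).filter
            (fun ψ => E.ζ ψ = θ), (ψ y : ℂ) * Sn ψ ^ 2 := by
          rw [Finset.mul_sum]
          refine Finset.sum_congr rfl fun θ hθ => ?_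
          obtain ⟨a, ha, rfl⟩ := E.mem_Y.mp hθ
          rw [Finset.filter_filter, Finset.mul_sum, E.filter_eq_rel ha, hval a ha y hy1, Finset.mul_sum,
            Finset.sum_mul, Finset.mul_sum]
          refine Finset.sum_congr rfl fun ψ hψ => ?_
          have hr := (Finset.mem_filter.mp hψ).2
          have hψ1 := ne_one_of_rel hr ha
          rw [(E.rel a ψ ha hψ1).mpr hr, hval ψ hψ1 s hs1, hSfib ψ hψ1]
          have : (E.δ : ℂ) ^ 2 = 1 := by exact_mod_cast hδ
          linear_combination ((Nat.card (cen P) : ℂ) ^ 2 * (ψ y : ℂ) * (E.δ : ℂ) *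
            (∑ b ∈ Finset.univ.filter (fun b => Rel P ψ b), (b s : ℂ)) ^ 2) * this
      _ = (E.δ : ℂ) * ∑ ψ ∈ Finset.univ.filter (fun ψ : Lin P => ψ ≠ 1), (ψ y : ℂ) * Sn ψ ^ 2 := by
          rw [← Finset.mul_sum, Finset.sum_fiberwise_of_maps_to fun ψ hψ =>
            E.mem_Y.mpr ⟨ψ, (Finset.mem_filter.mp hψ).2, rfl⟩]
      _ = _ := by rw [h2]; ring
  -- the column
  have hcol := sum_sq_column_eq_zero hM (isPBlock_principalBlock (M := M) (G := G)) hss'
    (h.orderOf_mem hy₀) fun z a b hz ha hb => not_prod h hss' hy₀ hy2 hz ha hb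
  rw [sum_blk, E.sum_sdiff_Y,
    Finset.sum_congr (s₁ := E.X) rfl (g := fun θ =>
      ((((E.base θ : ℝ) ^ 3 / (charDegree (θ : G → ℂ) : ℝ)) : ℝ) : ℂ)) fun θ hθ => by
        rw [hXval θ hθ y₀ hy₀ (fun e1 => hy1 (Subtype.ext e1)), hXval θ hθ s s.2 hs1', (charDegree_eq θ).1]
        push_cast; ring,
    Finset.sum_congr (s₁ := E.Y) rfl (g := fun θ => ((f : ℂ))⁻¹ * ((θ : G → ℂ) y * (θ : G → ℂ) s ^ 2))
      fun θ hθ => by
        obtain ⟨a, ha, rfl⟩ := E.mem_Y.mp hθ
        rw [hf a ha]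
        show (E.ζ a : G → ℂ) y₀ * _ = (f : ℂ)⁻¹ * ((E.ζ a : G → ℂ) y₀ * _)
        ring,
    ← Finset.mul_sum, hYsum, ← Complex.ofReal_sum] at hcol
  have hEq : ∑ θ ∈ E.X, (E.base θ : ℝ) ^ 3 / (charDegree (θ : G → ℂ) : ℝ) =
      (E.δ : ℝ) * (e : ℝ) ^ 2 / (f : ℝ) := by
    refine Complex.ofReal_injective ?_
    simp only [Complex.ofReal_div, Complex.ofReal_mul, Complex.ofReal_pow, Complex.ofReal_intCast,
      Complex.ofReal_natCast, Complex.ofReal_sum] at hcol ⊢
    rw [div_eq_mul_inv]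
    linear_combination hcol
  -- congruences
  have hcong : ∀ θ : IrrCharacter G, ∀ w : ℂ, (∀ u : (P : Subgroup G), u ≠ 1 → (θ : G → ℂ) u = w) →
      ∃ m : ℕ, (charDegree (θ : G → ℂ) : ℂ) + ((q : ℂ) - 1) * w = (q : ℂ) * m := by
    intro θ w hw
    obtain ⟨m, hm'⟩ := exists_sum_subgroup θ (P : Subgroup G)
    refine ⟨m, ?_⟩
    rw [← Finset.add_sum_erase _ _ (Finset.mem_univ (1 : (P : Subgroup G))),
      Finset.sum_congr rfl (g := fun _ => w) fun u hu => hw u (Finset.mem_erase.mp hu).1,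
      Finset.sum_const, Finset.card_erase_of_mem (Finset.mem_univ _), Finset.card_univ,
      ← Nat.card_eq_fintype_card, nsmul_eq_mul, Nat.cast_sub Nat.card_pos, Nat.cast_one,
      OneMemClass.coe_one, (charDegree_eq θ).1] at hm'
    rw [hqdef]
    exact hm'
  obtain ⟨m₀, hm₀⟩ : ∃ m : ℕ, (f : ℤ) = E.δ * e + (q : ℤ) * m := by
    obtain ⟨m, hm'⟩ := exists_sum_subgroup (E.ζ ψ₀) (P : Subgroup G)
    refine ⟨m, Int.cast_injective (α := ℂ) ?_⟩
    push_cast
    rw [hqdef, ← hm', ← Finset.add_sum_erase _ _ (Finset.mem_univ (1 : (P : Subgroup G))),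
      OneMemClass.coe_one, hf ψ₀ hψ₀, Finset.sum_congr rfl fun u hu => hval ψ₀ hψ₀ u (Finset.mem_erase.mp hu).1,
      ← Finset.mul_sum, Finset.sum_comm, Finset.sum_congr rfl (g := fun _ => (-1 : ℂ)) fun b hb => ?_,
      Finset.sum_const, nsmul_eq_mul, h.card_rel hψ₀, ← hedef]
    · ring
    · have hb1 := ne_one_of_rel (Finset.mem_filter.mp hb).2 hψ₀
      have h0 := sum_lin_mul b 1
      rw [if_neg hb1, ← Finset.add_sum_erase _ _ (Finset.mem_univ (1 : (P : Subgroup G)))] at h0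
      simp only [map_one, Units.val_one, mul_one, MonoidHom.one_apply] at h0
      linear_combination h0
  have hterm : ∀ θ ∈ E.X.erase (oneChar G),
      -((E.base θ : ℝ) ^ 2 / ((q : ℝ) - 1)) ≤ (E.base θ : ℝ) ^ 3 / (charDegree (θ : G → ℂ) : ℝ) ∧
        (E.base θ : ℝ) ^ 3 / (charDegree (θ : G → ℂ) : ℝ) ≤ (E.base θ : ℝ) ^ 2 ∧
        ((E.base θ : ℝ) ^ 3 / (charDegree (θ : G → ℂ) : ℝ) = (E.base θ : ℝ) ^ 2 →
          (E.base θ : ℂ) = (θ : G → ℂ) 1) := by
    intro θ hθ
    have hθX := (Finset.mem_erase.mp hθ).2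
    set d : ℝ := (charDegree (θ : G → ℂ) : ℝ) with hd
    set b : ℝ := (E.base θ : ℝ) with hb
    have hd0 : 0 < d := Nat.cast_pos.mpr (Nat.pos_of_ne_zero (charDegree_eq θ).2)
    have hq1 : (0 : ℝ) < (q : ℝ) - 1 := by
      have : (2 : ℝ) ≤ q := by exact_mod_cast (show 2 ≤ q by omega)
      linarith
    obtain ⟨m, hm'⟩ := hcong θ (E.base θ : ℂ) fun u hu => hXval θ hθX u u.2 fun e1 => hu (Subtype.ext e1)
    have hge : 0 ≤ d + ((q : ℝ) - 1) * b := by
      have h' : d + ((q : ℝ) - 1) * b = (q : ℝ) * m := by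
        refine Complex.ofReal_injective ?_
        rw [hd, hb]
        push_cast
        exact hm'
      rw [h']; positivity
    have hle : b ≤ d := by
      have h1 := norm_irr_le θ (s : G)
      rw [hXval θ hθX s s.2 hs1', (charDegree_eq θ).1, Complex.natCast_re, Complex.norm_intCast] at h1
      exact (le_abs_self b).trans h1
    refine ⟨?_, ?_, fun e1 => ?_⟩
    · rw [← neg_div, div_le_div_iff₀ hq1 hd0]
      nlinarith [mul_nonneg (sq_nonneg b) hge]
    · rw [div_le_iff₀ hd0]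
      nlinarith [mul_le_mul_of_nonneg_left hle (sq_nonneg b)]
    · rw [div_eq_iff hd0.ne'] at e1
      have hb0 : b ≠ 0 := by
        rw [hb]; exact_mod_cast E.base_ne_zero h hM hP1 hθX
      have : b = d := mul_left_cancel₀ (pow_ne_zero 2 hb0) (by linear_combination e1)
      rw [(charDegree_eq θ).1]
      rw [hb, hd] at this
      exact_mod_cast this
  have hrest : ∑ θ ∈ E.X.erase (oneChar G), (E.base θ : ℝ) ^ 2 = (e : ℝ) - 1 := by
    have h1 : (∑ θ ∈ E.X, (E.base θ : ℝ) ^ 2) = (e : ℝ) := by exact_mod_cast hXsum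
    rw [← Finset.add_sum_erase _ _ h1X, hb1] at h1
    push_cast at h1
    linarith
  rw [← Finset.add_sum_erase _ _ h1X, hb1,
    show charDegree ((oneChar G : IrrCharacter G) : G → ℂ) = 1 by simp [charDegree, oneChar]] at hEq
  push_cast at hEq
  rw [one_pow, div_one] at hEq
  set S' := ∑ θ ∈ E.X.erase (oneChar G), (E.base θ : ℝ) ^ 3 / (charDegree (θ : G → ℂ) : ℝ) with hS'
  have hlow : -(((e : ℝ) - 1) / ((q : ℝ) - 1)) ≤ S' := by
    rw [← hrest, Finset.sum_div, ← Finset.sum_neg_distrib]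
    exact Finset.sum_le_sum fun θ hθ => (hterm θ hθ).1
  have hqe : (e : ℝ) ^ 2 < q := by
    have : e ^ 2 < q := lt_of_lt_of_le (by nlinarith) hsq
    exact_mod_cast this
  have he2' : (2 : ℝ) ≤ e := by exact_mod_cast he2
  have hq1 : (0 : ℝ) < (q : ℝ) - 1 := by nlinarith
  have hfpos : (0 : ℝ) < f := Nat.cast_pos.mpr (Nat.pos_of_ne_zero hf0)
  have hSlow : ((q : ℝ) - e) / ((q : ℝ) - 1) ≤ (E.δ : ℝ) * (e : ℝ) ^ 2 / (f : ℝ) := by
    rw [← hEq, show ((q : ℝ) - e) / ((q : ℝ) - 1) = 1 + -(((e : ℝ) - 1) / ((q : ℝ) - 1)) by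
      field_simp; ring]
    linarith
  have hqe' : (0 : ℝ) < (q : ℝ) - e := by nlinarith
  have hδ1 : E.δ = 1 := E.sign.resolve_right fun e1 => by
    rw [e1] at hSlow
    have h1 : (0 : ℝ) < ((q : ℝ) - e) / ((q : ℝ) - 1) := div_pos hqe' hq1
    have h2 : (0 : ℝ) ≤ (e : ℝ) ^ 2 / (f : ℝ) := by positivity
    push_cast at hSlow
    rw [neg_one_mul, neg_div] at hSlow
    linarith
  rw [hδ1, Int.cast_one, one_mul] at hSlow hEq
  rw [div_le_div_iff₀ hq1 hfpos] at hSlow
  have hfe : (f : ℝ) < q + e := by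
    by_contra hc
    push Not at hc
    have := mul_le_mul_of_nonneg_left hc hqe'.le
    nlinarith
  have hfe' : f = e := by
    rw [hδ1, one_mul] at hm₀
    have h1 : f < q + e := by exact_mod_cast hfe
    rcases Nat.eq_zero_or_pos m₀ with e1 | e1
    · rw [e1, Nat.cast_zero, mul_zero, add_zero] at hm₀
      exact_mod_cast hm₀
    · exfalso
      have h2 : (f : ℤ) < q + e := by exact_mod_cast h1
      have : (q : ℤ) ≤ q * m₀ := le_mul_of_one_le_right (Int.natCast_nonneg q) (by exact_mod_cast e1)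
      omega
  rw [hfe', show (e : ℝ) ^ 2 / (e : ℝ) = e by field_simp] at hEq
  have hz : ∑ θ ∈ E.X.erase (oneChar G),
      ((E.base θ : ℝ) ^ 2 - (E.base θ : ℝ) ^ 3 / (charDegree (θ : G → ℂ) : ℝ)) = 0 := by
    rw [Finset.sum_sub_distrib, hrest, ← hS']
    linarith
  obtain ⟨θ, hθ⟩ : (E.X.erase (oneChar G)).Nonempty := by
    rw [Finset.nonempty_iff_ne_empty]
    intro e1
    rw [e1, Finset.sum_empty] at hrest
    linarith
  have hθeq := (Finset.sum_eq_zero_iff_of_nonneg fun χ hχ => sub_nonneg.mpr (hterm χ hχ).2.1).mp hz θ hθ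
  have hθd := (hterm θ hθ).2.2 (sub_eq_zero.mp hθeq).symm
  obtain ⟨hne, hθX⟩ := Finset.mem_erase.mp hθ
  refine normal_of_constant h hO hp hM (E.mem_X.mp hθX).1 hne fun w hw => ?_
  by_cases hw1 : w = 1
  · rw [hw1]
  · rw [hXval θ hθX w hw hw1, hθd]

end CfsgLib.Block.FreeElementary
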