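import Cfsg.Agent.Lib.Block.FreeElementary.Signal
import Cfsg.Agent.Lib.Char.ClassMul

/-!
# Pairs of involutions whose product has a given 2-part

Involutions `s`, `t` whose product has 2-part `w` lie in `C(w) = K w P`; counting them and applying the
order formula of the four-group gives `(n e) ∑ χ(a) χ(b) χ(w) / χ(1) = q N(a, b, w)` over the principal
block, `n` the index of `H` and `N(a, b, w)` the number of `u ∈ P` with `a ∼ u`, `b ∼ u w`.
-/

set_option autoImplicit false
set_option linter.unusedSectionVars false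

namespace CfsgLib.Block.FreeElementary

open scoped ComplexConjugate
open Cfsg CfsgLib.Char CfsgLib.Block CfsgLib.Block.AbelianFree

universe u

open scoped Classical

variable {G : Type u} [Group G] [Fintype G] {P : Sylow 2 G}

theorem conj_val {v : G} (hv : v * v = 1) (χ : IrrCharacter G) :
    conj ((χ : G → ℂ) v) = (χ : G → ℂ) v := by
  rw [← irr_inv, inv_eq_of_mul_eq_one_right hv]

/-- The pairs `(u, u w)` with `u ∼ a` and `u w ∼ b`. -/
noncomputable def pairSet (P : Sylow 2 G) (a b w : G) : Finset G :=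
  Finset.univ.filter fun u => u ∈ (P : Subgroup G) ∧ u ≠ 1 ∧ u ≠ w ∧ IsConj a u ∧ IsConj b (u * w)

variable (hP : Hyp P)
include hP

theorem conj_mul_self {u k : G} {v : G} (hv : v ∈ (P : Subgroup G)) (hv1 : v ≠ 1)
    (hu : u ∈ (P : Subgroup G)) (hk : k ∈ K v) (hinv : u * k * u = k⁻¹) : IsConj u (k * u) := by
  obtain ⟨n, hn⟩ := exists_root (odd_K hP.free hv hv1) hk
  have hs := hP.elem u hu
  refine isConj_iff.mpr ⟨k ^ n, ?_⟩
  have hi : u * k ^ n * u = (k ^ n)⁻¹ := by rw [CfsgLib.Char.FourBound.conj_pow' hs, hinv, inv_pow]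
  calc k ^ n * u * (k ^ n)⁻¹ = k ^ n * u * (u * k ^ n * u) := by rw [hi]
    _ = k ^ n * (u * u) * k ^ n * u := by group
    _ = k * u := by rw [hs, mul_one, hn]

/-- An involution of `C(v)`. -/
theorem exists_invol_decomp {v s : G} (hv : v ∈ (P : Subgroup G)) (hv1 : v ≠ 1)
    (hs : s ∈ Subgroup.centralizer ({v} : Set G)) (hs2 : s * s = 1) (hs1 : s ≠ 1) :
    ∃ u ∈ (P : Subgroup G), u ≠ 1 ∧ ∃ k ∈ K v, u * k * u = k⁻¹ ∧ k * u = s := by
  obtain ⟨⟨k, u⟩, e⟩ := (centralizer_bijective hP.free hv hv1).2 ⟨s, hs⟩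
  have e' : (k : G) * u = s := congrArg Subtype.val e
  have h1 : (k : G) * ((u : G) * k * u) = 1 := by
    rw [← hs2, ← e']; group
  refine ⟨u, u.2, fun hu => hs1 ?_, k, k.2, eq_inv_of_mul_eq_one_right h1, e'⟩
  rw [hu, mul_one] at e'
  refine CfsgLib.Char.FourBound.sq_cancel ?_ hs2
  rw [← Nat.not_even_iff_odd, even_iff_two_dvd, ← e']
  exact ((mem_K hP.free hv hv1).mp k.2).2

theorem card_invSet_mul {u w : G} (hu : u ∈ (P : Subgroup G)) (hw : w ∈ (P : Subgroup G)) (hw1 : w ≠ 1) :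
    Nat.card (K w) = Nat.card ↥(K w ⊓ Subgroup.centralizer ({u} : Set G)) * Nat.card (invSet (K w) u) := by
  refine card_eq_fix_mul_inv (odd_K hP.free hw hw1) (hP.elem u hu) fun x hx => ?_
  have h1 := K_conj_mem hP.free hw hw1 (hP.free.le_centralizer hw hu) hx
  rwa [inv_eq_of_mul_eq_one_right (hP.elem u hu)] at h1

theorem card_term {u w : G} (hu : u ∈ (P : Subgroup G)) (hu1 : u ≠ 1) (hw : w ∈ (P : Subgroup G))
    (hw1 : w ≠ 1) (huw : u ≠ w) :
    Nat.card (invSet (K w) u) * Nat.card (invSet (K w) (u * w)) * (Nat.card (K u) * Nat.card (K (u * w))) =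
      Nat.card (W P) * Nat.card (K w) := by
  have huwP : u * w ∈ (P : Subgroup G) := mul_mem hu hw
  have huw1 : u * w ≠ 1 := fun e =>
    huw ((eq_inv_of_mul_eq_one_left e).trans (inv_eq_of_mul_eq_one_right (hP.elem w hw)))
  have hwW : ∀ v ∈ (P : Subgroup G), ∀ x ∈ W P, v * x * v ∈ W P := fun v hv x hx => by
    have := (Subgroup.mem_normalizer_iff.mp (nor_le_normalizer hP (le_nor hv)) x).mp hx
    rwa [inv_eq_of_mul_eq_one_right (hP.elem v hv)] at this
  have h4 := four_order (odd_W hP) (hP.elem w hw) (hP.elem u hu) (hP.free.commute hw hu).eq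
    (hwW w hw) (hwW u hu)
  rw [W_inf hP hw hw1, W_inf hP hu hu1, (hP.free.commute hw hu).eq, W_inf hP huwP huw1] at h4
  have e : K w ⊓ Subgroup.centralizer ({u * w} : Set G) = K w ⊓ Subgroup.centralizer ({u} : Set G) := by
    ext x
    simp only [Subgroup.mem_inf, Subgroup.mem_centralizer_singleton_iff]
    refine and_congr_right fun hx => ?_
    have hc : w * x = x * w := (commute_of_mem_K hx).eq
    constructor
    · intro e
      refine mul_right_cancel (b := w) ?_
      rw [mul_assoc, e, mul_assoc, hc, ← mul_assoc]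
    · intro e
      rw [← mul_assoc, e, mul_assoc, ← hc, ← mul_assoc]
  have h1 := card_invSet_mul hP hu hw hw1
  have h2 := card_invSet_mul hP huwP hw hw1
  rw [e] at h2
  set c := Nat.card ↥(K w ⊓ Subgroup.centralizer ({u} : Set G))
  refine Nat.eq_of_mul_eq_mul_left (pow_pos (Nat.card_pos : 0 < c) 2) ?_
  calc c ^ 2 * (Nat.card (invSet (K w) u) * Nat.card (invSet (K w) (u * w)) *
        (Nat.card (K u) * Nat.card (K (u * w))))
      = (c * Nat.card (invSet (K w) u)) * (c * Nat.card (invSet (K w) (u * w))) *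
        (Nat.card (K u) * Nat.card (K (u * w))) := by ring
    _ = Nat.card (K w) * (Nat.card (K w) * Nat.card (K u) * Nat.card (K (u * w))) := by
      rw [← h1, ← h2]; ring
    _ = _ := by rw [← h4]; ring

/-- The pairs as elements of `C(w)`. -/
theorem sum_classConst {a b w : G} (ha : a ∈ (P : Subgroup G)) (ha1 : a ≠ 1) (hb : b ∈ (P : Subgroup G))
    (hb1 : b ≠ 1) (hw : w ∈ (P : Subgroup G)) (hw1 : w ≠ 1) :
    ∑ x ∈ Finset.univ.filter (· ∈ K w), classConst a b (w * x) =
      ∑ u ∈ pairSet P a b w, Nat.card (invSet (K w) u) * Nat.card (invSet (K w) (u * w)) := by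
  have hinvol : ∀ {c s : G}, c ∈ (P : Subgroup G) → c ≠ 1 → IsConj c s → s * s = 1 ∧ s ≠ 1 := by
    intro c s hc hc1 hcs
    obtain ⟨g, rfl⟩ := isConj_iff.mp hcs
    exact ⟨by rw [show g * c * g⁻¹ * (g * c * g⁻¹) = g * (c * c) * g⁻¹ by group, hP.elem c hc]; group,
      fun e => hc1 (conj_eq_one_iff.mp e)⟩
  have hww := hP.elem w hw
  let T := Σ u : pairSet P a b w, invSet (K w) (u : G) × invSet (K w) ((u : G) * w)
  let S := Σ x : (Finset.univ.filter (· ∈ K w) : Finset G),
    {p : G × G // IsConj a p.1 ∧ IsConj b p.2 ∧ p.1 * p.2 = w * (x : G)}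
  have hU : ∀ u : pairSet P a b w, ((u : G) ∈ (P : Subgroup G) ∧ (u : G) ≠ 1 ∧ (u : G) ≠ w ∧
      IsConj a (u : G) ∧ IsConj b ((u : G) * w)) := fun u => (Finset.mem_filter.mp u.2).2
  have hL : ∀ (u : pairSet P a b w) (l : invSet (K w) ((u : G) * w)),
      (u : G) * l * u = (l : G)⁻¹ := fun u l => by
    have hl : (u : G) * w * l * ((u : G) * w) = (l : G)⁻¹ := l.2.2
    rw [← hl]
    calc (u : G) * l * u = (u : G) * (w * w) * l * u := by rw [hww, mul_one]
      _ = (u : G) * w * (w * l) * u := by group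
      _ = (u : G) * w * l * (w * u) := by rw [(commute_of_mem_K l.2.1).eq]; group
      _ = _ := by rw [(hP.free.commute hw (hU u).1).eq]
  have hprod : ∀ (u : pairSet P a b w) (k : invSet (K w) (u : G)) (l : invSet (K w) ((u : G) * w)),
      (k : G) * u * ((l : G) * ((u : G) * w)) = w * ((k : G) * (l : G)⁻¹) := fun u k l => by
    rw [((commute_of_mem_K k.2.1).mul_right (commute_of_mem_K l.2.1).inv_right).eq, ← hL u l]; group
  let f : T → S := fun t => ⟨⟨(t.2.1 : G) * (t.2.2 : G)⁻¹, Finset.mem_filter.mpr ⟨Finset.mem_univ _,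
      mul_mem t.2.1.2.1 (inv_mem t.2.2.2.1)⟩⟩,
    ⟨((t.2.1 : G) * t.1, (t.2.2 : G) * ((t.1 : G) * w)),
      (hU t.1).2.2.2.1.trans (conj_mul_self hP hw hw1 (hU t.1).1 t.2.1.2.1 t.2.1.2.2),
      (hU t.1).2.2.2.2.trans
        (conj_mul_self hP hw hw1 (mul_mem (hU t.1).1 hw) t.2.2.2.1 t.2.2.2.2),
      hprod _ _ _⟩⟩
  have hf : Function.Bijective f := by
    constructor
    · rintro ⟨u, k, l⟩ ⟨u', k', l'⟩ e
      have e1 : (k : G) * u = k' * u' := congrArg (fun z : S => z.2.1.1) e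
      have e2 : (l : G) * ((u : G) * w) = l' * ((u' : G) * w) := congrArg (fun z : S => z.2.1.2) e
      have h1 := (centralizer_bijective hP.free hw hw1).1
        (a₁ := (⟨k, k.2.1⟩, ⟨u, (hU u).1⟩)) (a₂ := (⟨k', k'.2.1⟩, ⟨u', (hU u').1⟩)) (Subtype.ext e1)
      simp only [Prod.mk.injEq, Subtype.mk.injEq] at h1
      have hu : u = u' := Subtype.ext h1.2
      subst hu
      exact Sigma.ext rfl (heq_of_eq (Prod.ext (Subtype.ext h1.1) (Subtype.ext (mul_right_cancel e2))))
    · rintro ⟨⟨x, hx⟩, ⟨⟨s, t⟩, hs, ht, hst⟩⟩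
      have hxK : x ∈ K w := (Finset.mem_filter.mp hx).2
      have hst' : s * t = w * x := hst
      obtain ⟨hs2, hs1⟩ := hinvol ha ha1 hs
      obtain ⟨ht2, ht1⟩ := hinvol hb hb1 ht
      have hwx : w * x = x * w := (commute_of_mem_K hxK).eq
      have hsC : s ∈ Subgroup.centralizer ({w} : Set G) := by
        have h1 := CfsgLib.Block.isPPart_conj (isPPart_mul hP.free hw hw1 hxK) s
        have e : s * (w * x) * s⁻¹ = w * x⁻¹ := by
          rw [inv_eq_of_mul_eq_one_right hs2, ← hst', ← mul_assoc s s t, hs2, one_mul]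
          calc t * s = t⁻¹ * s⁻¹ := by
                rw [inv_eq_of_mul_eq_one_right hs2, inv_eq_of_mul_eq_one_right ht2]
            _ = (w * x)⁻¹ := by rw [← hst', mul_inv_rev]
            _ = w * x⁻¹ := by rw [hwx, mul_inv_rev, inv_eq_of_mul_eq_one_right hww]
        rw [e] at h1
        exact Subgroup.mem_centralizer_singleton_iff.mpr (mul_inv_eq_iff_eq_mul.mp
          (isPPart_unique Nat.prime_two h1 (isPPart_mul hP.free hw hw1 (inv_mem hxK))))
      have htC : t ∈ Subgroup.centralizer ({w} : Set G) := by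
        have e : t = s⁻¹ * (w * x) := by rw [← hst']; group
        rw [e]
        exact mul_mem (inv_mem hsC) (mul_mem (hP.free.le_centralizer hw hw) (K_le w hxK))
      obtain ⟨u, hu, hu1, k, hk, hku, hs'⟩ := exists_invol_decomp hP hw hw1 hsC hs2 hs1
      obtain ⟨v, hv, hv1, l, hl, hlv, ht'⟩ := exists_invol_decomp hP hw hw1 htC ht2 ht1
      have hlu : u * l * u ∈ K w := by
        have h1 := K_conj_mem hP.free hw hw1 (hP.free.le_centralizer hw hu) hl
        rwa [inv_eq_of_mul_eq_one_right (hP.elem u hu)] at h1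
      have h3 : k * (u * l * u) * (u * v) = x * w := by
        rw [← hwx, ← hst', ← hs', ← ht']
        calc k * (u * l * u) * (u * v) = k * u * l * (u * u) * v := by group
          _ = _ := by rw [hP.elem u hu]; group
      have h4 := (centralizer_bijective hP.free hw hw1).1
        (a₁ := (⟨k * (u * l * u), mul_mem hk hlu⟩, ⟨u * v, mul_mem hu hv⟩))
        (a₂ := (⟨x, hxK⟩, ⟨w, hw⟩)) (Subtype.ext h3)
      simp only [Prod.mk.injEq, Subtype.mk.injEq] at h4
      have hvw : v = u * w := by rw [← h4.2, ← mul_assoc, hP.elem u hu, one_mul]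
      subst hvw
      have huw : u ≠ w := fun e => hv1 (by rw [e, hww])
      have hmem : u ∈ pairSet P a b w := Finset.mem_filter.mpr ⟨Finset.mem_univ _, hu, hu1, huw,
        hs.trans ((conj_mul_self hP hw hw1 hu hk hku).trans (by rw [hs'])).symm,
        ht.trans ((conj_mul_self hP hw hw1 hv hl hlv).trans (by rw [ht'])).symm⟩
      refine ⟨⟨⟨u, hmem⟩, ⟨k, hk, hku⟩, ⟨l, hl, hlv⟩⟩, ?_⟩
      refine Sigma.subtype_ext (Subtype.ext ?_) (Prod.ext hs' ht')
      show k * l⁻¹ = x
      rw [← h4.1]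
      exact congrArg (k * ·) (hL ⟨u, hmem⟩ ⟨l, hl, hlv⟩).symm
  have h := Nat.card_eq_of_bijective f hf
  simp only [T, S, Nat.card_sigma, Nat.card_prod] at h
  rw [← Finset.sum_coe_sort (pairSet P a b w), ← Finset.sum_coe_sort (Finset.univ.filter (· ∈ K w)), h]
  exact Finset.sum_congr rfl fun x _ => rfl

theorem card_class_mul {a : G} (ha : a ∈ (P : Subgroup G)) (ha1 : a ≠ 1) :
    Nat.card {x : G // IsConj a x} * Nat.card (K a) * Nat.card P = Nat.card G := by
  rw [mul_assoc, ← card_centralizer hP.free ha ha1, card_isConj, Subgroup.index_mul_card]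

variable {M : Ideal AlgInt} (hM : IsPModular 2 M)
include hM

/-- **The pair identity.** -/
theorem pair_identity [Fintype (IrrCharacter G)] {a b w : G} (ha : a ∈ (P : Subgroup G)) (ha1 : a ≠ 1)
    (hb : b ∈ (P : Subgroup G)) (hb1 : b ≠ 1) (hw : w ∈ (P : Subgroup G)) (hw1 : w ≠ 1) :
    ((H P).index : ℂ) * ((cen P).relIndex (nor P) : ℂ) *
        ∑ χ ∈ Finset.univ.filter (· ∈ principalBlock M G),
          (χ : G → ℂ) a * (χ : G → ℂ) b * (χ : G → ℂ) w / (χ : G → ℂ) 1 =
      (Nat.card P : ℂ) * (pairSet P a b w).card := by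
  set Sm := ∑ χ ∈ Finset.univ.filter (· ∈ principalBlock M G),
    (χ : G → ℂ) a * (χ : G → ℂ) b * (χ : G → ℂ) w / (χ : G → ℂ) 1 with hSm
  set A := Nat.card {x : G // IsConj a x} with hA
  set B := Nat.card {x : G // IsConj b x} with hB
  have h1 : (∑ x ∈ Finset.univ.filter (· ∈ K w), classConst a b (w * x) : ℕ) *
      ((Nat.card (K a) : ℂ) * (Nat.card (K b) : ℂ)) =
      (pairSet P a b w).card * ((Nat.card (W P) : ℂ) * (Nat.card (K w) : ℂ)) := by
    rw [sum_classConst hP ha ha1 hb hb1 hw hw1]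
    norm_cast
    rw [Finset.sum_mul, Finset.sum_congr rfl fun u hu => ?_, Finset.sum_const, smul_eq_mul]
    obtain ⟨-, hu, hu1, huw, hau, hbu⟩ := Finset.mem_filter.mp hu
    rw [← card_K_conj hP.free ha ha1 hu hau, ← card_K_conj hP.free hb hb1 (mul_mem hu hw) hbu]
    exact card_term hP hu hu1 hw hw1 huw
  have h2 : ((∑ x ∈ Finset.univ.filter (· ∈ K w), classConst a b (w * x) : ℕ) : ℂ) =
      (A : ℂ) * (B : ℂ) / (Nat.card G : ℂ) * ((Nat.card (K w) : ℂ) * Sm) := by
    rw [Nat.cast_sum]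
    simp only [classConst_formula, finsum_eq_sum_of_fintype]
    rw [← Finset.mul_sum, Finset.sum_comm]
    congr 1
    rw [hSm, Finset.mul_sum, Finset.sum_filter]
    refine Finset.sum_congr rfl fun χ _ => ?_
    rw [← Finset.sum_div, ← Finset.mul_sum, ← map_sum]
    split_ifs with hχ
    · rw [Finset.sum_congr rfl fun x hx => value_section hP.free hM hχ hw hw1
          (isPPart_mul hP.free hw hw1 (Finset.mem_filter.mp hx).2) (IsConj.refl w),
        Finset.sum_const, ← Fintype.card_subtype, ← Nat.card_eq_fintype_card, nsmul_eq_mul, map_mul,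
        map_natCast, conj_val (hP.elem w hw)]
      ring
    · rw [secSum_eq_zero hP.free hM hw hw1 hχ, map_zero, mul_zero, zero_div]
  have hAG : (A : ℂ) * (Nat.card (K a) : ℂ) * (Nat.card P : ℂ) = (Nat.card G : ℂ) := by
    exact_mod_cast card_class_mul hP ha ha1
  have hBG : (B : ℂ) * (Nat.card (K b) : ℂ) * (Nat.card P : ℂ) = (Nat.card G : ℂ) := by
    exact_mod_cast card_class_mul hP hb hb1
  have hG : ((H P).index : ℂ) * ((Nat.card (W P) : ℂ) * (Nat.card P : ℂ) *
      ((cen P).relIndex (nor P) : ℂ)) = (Nat.card G : ℂ) := by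
    have := Subgroup.index_mul_card (H P)
    rw [card_H hP] at this
    exact_mod_cast this
  rw [h2] at h1
  have hG0 : (Nat.card G : ℂ) ≠ 0 := by exact_mod_cast Nat.card_pos.ne'
  have hW0 : (Nat.card (W P) : ℂ) ≠ 0 := by exact_mod_cast Nat.card_pos.ne'
  have hK0 : (Nat.card (K w) : ℂ) ≠ 0 := by exact_mod_cast Nat.card_pos.ne'
  have hq0 : (Nat.card P : ℂ) ≠ 0 := by exact_mod_cast Nat.card_pos.ne'
  have h3 : (Nat.card G : ℂ) * Sm =
      (Nat.card P : ℂ) ^ 2 * ((pairSet P a b w).card * (Nat.card (W P) : ℂ)) := by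
    refine mul_left_cancel₀ hK0 ?_
    calc (Nat.card (K w) : ℂ) * ((Nat.card G : ℂ) * Sm)
        = ((A : ℂ) * (Nat.card (K a) : ℂ) * (Nat.card P : ℂ)) *
            ((B : ℂ) * (Nat.card (K b) : ℂ) * (Nat.card P : ℂ)) / (Nat.card G : ℂ) *
              ((Nat.card (K w) : ℂ) * Sm) := by
          rw [hAG, hBG]; field_simp
      _ = (Nat.card P : ℂ) ^ 2 * ((A : ℂ) * (B : ℂ) / (Nat.card G : ℂ) *
            ((Nat.card (K w) : ℂ) * Sm) * ((Nat.card (K a) : ℂ) * (Nat.card (K b) : ℂ))) := by ring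
      _ = _ := by rw [h1]; ring
  refine mul_left_cancel₀ (mul_ne_zero hW0 hq0) ?_
  linear_combination h3 + Sm * hG

end CfsgLib.Block.FreeElementary
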