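import Cfsg.Agent.S4571
import Cfsg.Agent.S4639
import Cfsg.Agent.S0205
import Cfsg.Agent.Lib.Block.FirstMain
import Cfsg.Agent.Lib.Block.PrincipalPairs
import Cfsg.Agent.Lib.Block.FreeElementary.Indicator
import Cfsg.Agent.Lib.Block.FreeElementary.NonElementary
import Cfsg.Agent.Lib.Block.FreeElementary.Main

/-!
# An abelian Sylow 2-subgroup with automizer of prime order

The principal 2-block has `e` Brauer characters, and `|P|` characters unless the group is solvable.
-/

set_option autoImplicit false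
set_option linter.unusedSectionVars false

namespace CfsgLib.Block.FreeElementary

open scoped IsMulCommutative
open Cfsg CfsgLib.Block CfsgLib.Block.AbelianFree

universe u

open scoped Classical

/-- The automizer of the image of a subgroup. -/
theorem relIndex_map_eq {G Q : Type u} [Group G] [Group Q] (π : G →* Q) (P : Subgroup G)
    (P' : Subgroup Q) (hmap : P.map π = P')
    (hnor : Subgroup.normalizer (P' : Set Q) ≤ (Subgroup.normalizer (P : Set G)).map π)
    (hcomm : ∀ n ∈ Subgroup.normalizer (P : Set G), ∀ u ∈ P, π n * π u = π u * π n → n * u = u * n) :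
    (Subgroup.centralizer (P' : Set Q)).relIndex (Subgroup.normalizer (P' : Set Q)) =
      (Subgroup.centralizer (P : Set G)).relIndex (Subgroup.normalizer (P : Set G)) := by
  subst hmap
  set N' := Subgroup.normalizer ((P.map π : Subgroup Q) : Set Q)
  have hle : ∀ n : Subgroup.normalizer (P : Set G), π n ∈ N' := fun n => by
    refine Subgroup.le_normalizer_map π ?_
    exact Subgroup.mem_map_of_mem π n.2
  let φ : Subgroup.normalizer (P : Set G) →* N' :=
    (π.comp (Subgroup.normalizer (P : Set G)).subtype).codRestrict N' hle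
  have hφ : Function.Surjective φ := fun y => by
    obtain ⟨n, hn, e⟩ := hnor y.2
    exact ⟨⟨n, hn⟩, Subtype.ext e⟩
  rw [Subgroup.relIndex, Subgroup.relIndex, ← Subgroup.index_comap_of_surjective _ hφ]
  congr 1
  ext n
  simp only [Subgroup.mem_comap, Subgroup.mem_subgroupOf, Subgroup.mem_centralizer_iff]
  show (∀ h ∈ ((P.map π : Subgroup Q) : Set Q), h * π n = π n * h) ↔ _
  constructor
  · intro h u hu
    exact (hcomm n n.2 u hu (h _ ⟨u, hu, rfl⟩).symm).symm
  · rintro h _ ⟨u, hu, rfl⟩
    rw [← map_mul, ← map_mul, h u hu]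

/-- The regular rank is unchanged by inflation over a normal subgroup of order prime to `p`. -/
theorem blockRank_inflate {p : ℕ} [Fact p.Prime] {M : Ideal AlgInt} {G : Type u} [Group G] [Fintype G]
    (hM : IsPModular p M) (N : Subgroup G) [N.Normal] (hN : ¬ p ∣ Nat.card N) :
    blockRank p (principalBlock M G) = blockRank p (principalBlock M (G ⧸ N)) := by
  haveI := hM.2.1
  haveI := Fintype.ofFinite N
  haveI := Fintype.ofFinite (G ⧸ N)
  have himg : principalBlock M G = Cyclic.inflQ '' principalBlock M (G ⧸ N) := by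
    ext χ
    constructor
    · intro h
      obtain ⟨θ, hθ, e⟩ := PrincipalCore.exists_inflQ_eq hM hN h
      exact ⟨θ, hθ, e⟩
    · rintro ⟨θ, hθ, rfl⟩
      exact (PrincipalCore.inflQ_mem_iff hM hN θ).mpr hθ
  let L : (G ⧸ N → ℂ) →ₗ[ℂ] (G → ℂ) := LinearMap.funLeft ℂ ℂ (fun g : G => (g : G ⧸ N))
  have hL : Function.Injective L :=
    LinearMap.funLeft_injective_of_surjective ℂ ℂ _ QuotientGroup.mk_surjective
  have h : Submodule.span ℂ ((fun χ : IrrCharacter G => pRegularPart p (χ : G → ℂ)) '' principalBlock M G) =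
      (Submodule.span ℂ ((fun χ : IrrCharacter (G ⧸ N) => pRegularPart p (χ : G ⧸ N → ℂ)) ''
        principalBlock M (G ⧸ N))).map L := by
    rw [himg, Submodule.map_span, ← Set.image_comp, ← Set.image_comp]
    congr 1
    refine Set.image_congr fun χ _ => funext fun x => ?_
    have hx := PrincipalCore.orderOf_mk_iff hN x
    by_cases h2 : p ∣ orderOf x <;>
      simp [L, LinearMap.funLeft_apply, pRegularPart, IsPRegular, hx, h2, Cyclic.inflQ_apply]
  rw [blockRank, blockRank, h]
  exact (Submodule.equivMapOfInjective L hL _).finrank_eq.symm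

variable {G : Type u} [Group G] [Fintype G] {P : Sylow 2 G}

/-- The invariants without fixed elements. -/
theorem invariants_noFixed [IsMulCommutative (P : Subgroup G)]
    (hO : ∀ N : Subgroup G, N.Normal → Odd (Nat.card N) → N = ⊥) (hF : fixedPart P = ⊥)
    (hp : ((cen P).relIndex (nor P)).Prime) {M : Ideal AlgInt} (hM : IsPModular 2 M) :
    blockRank 2 (principalBlock M G) = (cen P).relIndex (nor P) ∧
      (Group.IsSolvable G ∨ Nat.card (principalBlock M G) = Nat.card P) := by
  haveI := Fact.mk Nat.prime_two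
  haveI := hM.2.1
  haveI := Fintype.ofFinite (IrrCharacter G)
  have hp' : (Nat.card (auto P)).Prime := by rwa [← relIndex_eq_card]
  have hstab := stabilizer_of_prime hF hp'
  have h : Free P := free_of_stabilizer hstab
  set e := (cen P).relIndex (nor P) with hedef
  set q := Nat.card P with hqdef
  have heq : e ∣ q - 1 := by rw [hedef, relIndex_eq_card]; exact card_dvd_sub_one hstab
  have heodd : Odd e := by rw [hedef, relIndex_eq_card]; exact odd_auto
  have he3 : 3 ≤ e := by obtain ⟨k, hk⟩ := heodd; have := hp.two_le; omega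
  have hq1 : q ≠ 1 := fun e1 => hp.ne_one (Subgroup.relIndex_eq_one.mpr fun n _ =>
    Subgroup.mem_centralizer_iff.mpr fun u hu => by
      rw [Subgroup.card_eq_one.mp e1] at hu
      rw [show u = 1 from hu, one_mul, mul_one])
  have hq4 : 4 ≤ q := by
    have := Nat.le_of_dvd (by have : 0 < q := Nat.card_pos; omega) heq
    omega
  -- the frame
  have hP1 : (P : Subgroup G) ≠ ⊥ := fun e1 => hq1 (Subgroup.eq_bot_iff_card _ |>.mp e1)
  have hPC : (P : Subgroup G) ≤ Subgroup.centralizer ((P : Subgroup G) : Set G) := h.le_cen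
  have hframe := Cfsg.Agent.S4639.result 2 M hM (principalBlock M G) isPBlock_principalBlock
    (P : Subgroup G) ((isDefectGroup_principal_iff hM _).mpr ⟨P, rfl⟩) hP1
    (fun a ha b hb => (h.commute ha hb).eq) (principalBlock M (cen P))
    ((isBrauerPairOf_iff_induced hM isPBlock_principalBlock P.2 hPC).mp (isBrauerPairOf_principal hM P.2))
    (nor P) (fun g => ⟨fun hg => ⟨hg, stabilizesBlock_principal hM P.2 hg⟩, And.left⟩) e rfl
    (fun g hg k hk => by
      have hker : ∀ n : nor P, (P : Subgroup G).normalizerMonoidHom n = 1 → (n : G) ∈ cen P := fun n hn => by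
        have : n ∈ ((P : Subgroup G).normalizerMonoidHom).ker := hn
        rwa [Subgroup.normalizerMonoidHom_ker, Subgroup.mem_subgroupOf] at this
      refine hker (⟨g, hg⟩ * ⟨k, hk⟩ * ⟨g, hg⟩⁻¹ * ⟨k, hk⟩⁻¹) ?_
      haveI : Fact (Nat.card (auto P)).Prime := ⟨hp'⟩
      haveI : IsCyclic (auto P) := isCyclic_of_prime_card rfl
      letI := IsCyclic.commGroup (α := auto P)
      have hc : (P : Subgroup G).normalizerMonoidHom ⟨g, hg⟩ * (P : Subgroup G).normalizerMonoidHom ⟨k, hk⟩ =
          (P : Subgroup G).normalizerMonoidHom ⟨k, hk⟩ * (P : Subgroup G).normalizerMonoidHom ⟨g, hg⟩ :=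
        congrArg Subtype.val (mul_comm (⟨_, ⟨_, rfl⟩⟩ : auto P) ⟨_, ⟨_, rfl⟩⟩)
      rw [map_mul, map_mul, map_mul, map_inv, map_inv, hc, mul_inv_cancel_right, mul_inv_cancel])
    (fun g hg x hx hx1 hgx => by
      rw [← show _ = Subgroup.centralizer ((P : Subgroup G) : Set G) from h.frob x hx hx1]
      exact Subgroup.mem_inf.mpr
        ⟨Subgroup.mem_centralizer_singleton_iff.mpr (mul_inv_eq_iff_eq_mul.mp hgx), hg⟩)
  obtain ⟨-, -, hiff, hsmall⟩ := hframe
  rw [← hqdef] at hiff hsmall
  have hdiv : ∀ k : ℕ, k * e + 1 = e * e + q → k = e + (q - 1) / e := by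
    intro k hk
    obtain ⟨c, hc⟩ := heq
    rw [hc, Nat.mul_div_cancel_left _ (by omega)]
    refine Nat.eq_of_mul_eq_mul_right (show 0 < e by omega) ?_
    rw [add_mul, mul_comm c e]
    omega
  -- the normal case
  have hnormal : (P : Subgroup G).Normal ∧ Subgroup.centralizer ((P : Subgroup G) : Set G) = P →
      blockRank 2 (principalBlock M G) = e ∧
        (Group.IsSolvable G ∨ Nat.card (principalBlock M G) = q) := by
    rintro ⟨hn, hc⟩
    haveI := hn
    have hidx : (P : Subgroup G).index = e := (relIndex_eq_index hc).symm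
    have hcq : ∀ x y : G ⧸ (P : Subgroup G), x * y = y * x := fun x y => by
      haveI : Fact (Nat.card (G ⧸ (P : Subgroup G))).Prime := ⟨by rw [← Subgroup.index, hidx]; exact hp⟩
      haveI : IsCyclic (G ⧸ (P : Subgroup G)) := isCyclic_of_prime_card rfl
      letI := IsCyclic.commGroup (α := G ⧸ (P : Subgroup G))
      exact mul_comm x y
    have hk := card_block_normal h hc (fun a b => by
      rw [← QuotientGroup.eq_one_iff]
      simp only [QuotientGroup.mk_mul, QuotientGroup.mk_inv]
      rw [hcq (a : G ⧸ (P : Subgroup G)) b, mul_inv_cancel_right, mul_inv_cancel]) hM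
    rw [hidx] at hk
    refine ⟨hiff.mp (hdiv _ hk), Or.inl ?_⟩
    haveI : Group.IsSolvable (P : Subgroup G) := Group.isSolvable_of_comm fun a b => mul_comm a b
    haveI : Group.IsSolvable (G ⧸ (P : Subgroup G)) := Group.isSolvable_of_comm hcq
    refine Group.isSolvable_of_ker_le_range (P : Subgroup G).subtype (QuotientGroup.mk' (P : Subgroup G)) ?_
    rw [QuotientGroup.ker_mk', Subgroup.range_subtype]
  by_cases hel : ∀ v ∈ (P : Subgroup G), v * v = 1
  swap
  · push Not at hel
    obtain ⟨y₀, hy₀, hy2⟩ := hel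
    exact hnormal (normal_of_not_elementary h hO hp hM hy₀ hy2)
  rcases lt_or_ge q 8 with hq8 | hq8
  · have hq : q = 4 := by
      obtain ⟨j, hj⟩ := P.2.exists_card_eq
      rw [← hqdef] at hj
      have : j < 3 := by
        by_contra hc
        have := Nat.pow_le_pow_right (show 1 ≤ 2 by norm_num) (show 3 ≤ j by omega)
        omega
      interval_cases j <;> omega
    have he : e = 3 := by
      have := Nat.le_of_dvd (by omega) heq
      omega
    obtain ⟨hk, hl⟩ := hsmall (by omega)
    exact ⟨hl, Or.inr (by rw [hk, he, hq])⟩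
  have hP : Hyp P := ⟨h, hel, hq8⟩
  by_cases h1 : (H P).index = 1
  · exact hnormal (normal_of_index_one hP hO h1)
  have ht : (nz P).card + 1 = q := card_nz
  have htr : (cen P).relIndex (nor P) = (nz P).card := by
    have hle := Nat.le_of_dvd (by omega) heq
    by_contra hne
    exact h1 (index_eq_one hP hM (by omega))
  have hk := card_block hP hM htr (W_eq_bot_of_transitive hP htr hM hO h1) hO h1
  refine ⟨hiff.mp (hdiv _ ?_), Or.inr hk⟩
  rw [hk, ← hqdef, show q = e + 1 by omega]
  ring

/-- The invariants with trivial odd core. -/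
theorem invariants_reduced (P : Sylow 2 G) [IsMulCommutative (P : Subgroup G)]
    (hO : ∀ N : Subgroup G, N.Normal → Odd (Nat.card N) → N = ⊥)
    (hp : ((cen P).relIndex (nor P)).Prime) {M : Ideal AlgInt} (hM : IsPModular 2 M) :
    blockRank 2 (principalBlock M G) = (cen P).relIndex (nor P) ∧
      (Group.IsSolvable G ∨ Nat.card (principalBlock M G) = Nat.card P) := by
  haveI := Fact.mk Nat.prime_two
  haveI := hM.2.1
  set Z := fixedPart P with hZdef
  have hZc : Z ≤ Subgroup.center G := fixedPart_le_center hO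
  haveI hZn : Z.Normal := ⟨fun a ha g => by
    rw [Subgroup.mem_center_iff.mp (hZc ha) g, mul_inv_cancel_right]; exact ha⟩
  have hZP : Z ≤ (P : Subgroup G) := inf_le_left
  have hZp : IsPGroup 2 Z := P.2.of_injective (Subgroup.inclusion hZP) (Subgroup.inclusion_injective _)
  obtain ⟨π, hπ⟩ := exists_retraction (P := P) hO
  have hk := card_block_of_retraction hM hZp hZc π hπ
  have hfixcomm : ∀ a b : G, a * b * a⁻¹ * b⁻¹ ∈ Z → a * b = b * a := fun a b h => by
    have hπcomm : π (a * b * a⁻¹ * b⁻¹) = 1 := by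
      simp only [map_mul, map_inv]
      have h1 : π a * π b = π b * π a :=
        Subtype.ext (Subgroup.mem_center_iff.mp (hZc (π b).2) (π a : G))
      rw [h1, mul_inv_cancel_right, mul_inv_cancel]
    have h2 : π (a * b * a⁻¹ * b⁻¹) = ⟨_, h⟩ := hπ ⟨_, h⟩
    rw [hπcomm] at h2
    have h3 : a * b * a⁻¹ * b⁻¹ = 1 := (congrArg Subtype.val h2).symm
    rwa [mul_inv_eq_one, mul_inv_eq_iff_eq_mul] at h3
  set Pq : Sylow 2 (G ⧸ Z) := P.mapSurjective (QuotientGroup.mk'_surjective Z) with hPq
  have hmemq : ∀ g : G, (g : G ⧸ Z) ∈ (Pq : Subgroup (G ⧸ Z)) ↔ g ∈ (P : Subgroup G) := fun g => by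
    rw [hPq, Sylow.coe_mapSurjective]
    refine ⟨fun h => ?_, fun h => ⟨g, h, rfl⟩⟩
    obtain ⟨u, hu, e⟩ := h
    have := mul_mem hu (hZP (QuotientGroup.eq.mp e))
    rwa [mul_inv_cancel_left] at this
  haveI : IsMulCommutative (Pq : Subgroup (G ⧸ Z)) := ⟨⟨fun a b => Subtype.ext (by
    obtain ⟨a', ha'⟩ := QuotientGroup.mk_surjective (a : G ⧸ Z)
    obtain ⟨b', hb'⟩ := QuotientGroup.mk_surjective (b : G ⧸ Z)
    have ha : a' ∈ (P : Subgroup G) := (hmemq a').mp (by rw [ha']; exact a.2)
    have hb : b' ∈ (P : Subgroup G) := (hmemq b').mp (by rw [hb']; exact b.2)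
    show (a : G ⧸ Z) * b = b * a
    rw [← ha', ← hb', ← QuotientGroup.mk_mul, ← QuotientGroup.mk_mul]
    exact congrArg (fun g : G => (g : G ⧸ Z))
      (congrArg Subtype.val (mul_comm (⟨a', ha⟩ : (P : Subgroup G)) ⟨b', hb⟩)))⟩⟩
  haveI := Fintype.ofFinite (G ⧸ Z)
  have hcardq : Nat.card Z * Nat.card Pq = Nat.card P := by
    let f : (P : Subgroup G) →* (Pq : Subgroup (G ⧸ Z)) :=
      ((QuotientGroup.mk' Z).comp (P : Subgroup G).subtype).codRestrict _ fun u => (hmemq u).mpr u.2
    have hf : Function.Surjective f := by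
      intro q
      obtain ⟨g, hg⟩ := QuotientGroup.mk_surjective (q : G ⧸ Z)
      exact ⟨⟨g, (hmemq g).mp (by rw [hg]; exact q.2)⟩, Subtype.ext hg⟩
    have hker : Nat.card f.ker = Nat.card Z := by
      rw [show f.ker = Z.subgroupOf (P : Subgroup G) by
        ext u
        rw [MonoidHom.mem_ker, Subgroup.mem_subgroupOf, Subtype.ext_iff]
        exact QuotientGroup.eq_one_iff (u : G)]
      exact Nat.card_congr (Subgroup.subgroupOfEquivOfLe hZP).toEquiv
    rw [← hker, ← Nat.card_congr (QuotientGroup.quotientKerEquivOfSurjective f hf).toEquiv, mul_comm,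
      ← Subgroup.card_eq_card_quotient_mul_card_subgroup]
  have hrel : (cen Pq).relIndex (nor Pq) = (cen P).relIndex (nor P) := by
    refine relIndex_map_eq (QuotientGroup.mk' Z) (P : Subgroup G) (Pq : Subgroup (G ⧸ Z))
      (Sylow.coe_mapSurjective _ P).symm (fun y hy => ?_) fun n _ u _ e => hfixcomm n u ?_
    · obtain ⟨n, rfl⟩ := QuotientGroup.mk_surjective y
      refine ⟨n, Subgroup.mem_normalizer_iff.mpr fun a => ?_, rfl⟩
      have h1 := Subgroup.mem_normalizer_iff.mp hy (a : G ⧸ Z)
      rwa [← QuotientGroup.mk_inv, ← QuotientGroup.mk_mul, ← QuotientGroup.mk_mul, hmemq, hmemq] at h1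
    · rw [← QuotientGroup.eq_one_iff]
      simp only [QuotientGroup.mk'_apply] at e
      simp only [QuotientGroup.mk_mul, QuotientGroup.mk_inv]
      rw [e, mul_inv_cancel_right, mul_inv_cancel]
  have hFq : fixedPart Pq = ⊥ := by
    rw [Subgroup.eq_bot_iff_forall]
    intro q hq
    obtain ⟨u, rfl⟩ := QuotientGroup.mk_surjective q
    have hu : u ∈ (P : Subgroup G) := (hmemq u).mp hq.1
    refine (QuotientGroup.eq_one_iff u).mpr ⟨hu, Subgroup.mem_centralizer_iff.mpr fun n hn => ?_⟩
    refine hfixcomm n u ?_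
    have hnq : (n : G ⧸ Z) ∈ nor Pq := by
      refine Subgroup.mem_normalizer_iff.mpr fun a => ?_
      obtain ⟨a, rfl⟩ := QuotientGroup.mk_surjective a
      rw [← QuotientGroup.mk_inv, ← QuotientGroup.mk_mul, ← QuotientGroup.mk_mul, hmemq, hmemq]
      exact Subgroup.mem_normalizer_iff.mp hn a
    rw [← QuotientGroup.eq_one_iff]
    have h1 := Subgroup.mem_centralizer_iff.mp hq.2 _ hnq
    simp only [QuotientGroup.mk_mul, QuotientGroup.mk_inv]
    rw [h1, mul_inv_cancel_right, mul_inv_cancel]
  obtain ⟨hl, hs⟩ := invariants_noFixed (quotient_core hO hZP hZc) hFq (hrel.symm ▸ hp) hM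
  refine ⟨?_, ?_⟩
  · rw [← hrel, ← hl]
    refine Cfsg.Agent.S4571.result 2 M hM Z hZp ?_
    rw [eq_top_iff]
    refine le_trans (fun g _ => ?_) le_sup_right
    exact Subgroup.mem_centralizer_iff.mpr fun z hz => (Subgroup.mem_center_iff.mp (hZc hz) g).symm
  · rcases hs with hs | hs
    · left
      haveI := hs
      haveI : Group.IsSolvable Z := Group.isSolvable_of_comm fun a b =>
        Subtype.ext (Subgroup.mem_center_iff.mp (hZc b.2) a)
      refine Group.isSolvable_of_ker_le_range Z.subtype (QuotientGroup.mk' Z) ?_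
      rw [QuotientGroup.ker_mk', Subgroup.range_subtype]
    · right
      rw [hk, hs, hcardq]

/-- The invariants of the principal block. -/
theorem invariants_prime (P : Sylow 2 G) (hab : IsMulCommutative P)
    (hp : ((cen P).relIndex (nor P)).Prime) {M : Ideal AlgInt} (hM : IsPModular 2 M) :
    blockRank 2 (principalBlock M G) = (cen P).relIndex (nor P) ∧
      (¬ Group.IsSolvable G → Nat.card (principalBlock M G) = Nat.card P) := by
  haveI := Fact.mk Nat.prime_two
  haveI := hM.2.1
  haveI : IsMulCommutative (P : Subgroup G) := hab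
  set N := Cfsg.pPrimeCore 2 G with hNdef
  haveI hNn : N.Normal := by
    rw [hNdef, Coprime.pPrimeCore_eq_piCore Nat.prime_two]; infer_instance
  have hN2 : ¬ 2 ∣ Nat.card N :=
    Nat.prime_two.coprime_iff_not_dvd.mp (Coprime.pPrimeCore_coprime Nat.prime_two).symm
  haveI := Fintype.ofFinite (G ⧸ N)
  haveI := Fintype.ofFinite N
  set Pq : Sylow 2 (G ⧸ N) := P.mapSurjective (QuotientGroup.mk'_surjective N) with hPq
  let f : (P : Subgroup G) →* (Pq : Subgroup (G ⧸ N)) :=
    ((QuotientGroup.mk' N).comp (P : Subgroup G).subtype).codRestrict _ fun u => by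
      rw [hPq, Sylow.coe_mapSurjective]; exact ⟨u, u.2, rfl⟩
  have hone : ∀ u ∈ (P : Subgroup G), u ∈ N → u = 1 := fun u hu hu' => by
    obtain ⟨j, hj⟩ := IsPGroup.iff_orderOf.mp P.2 ⟨u, hu⟩
    rw [Subgroup.orderOf_mk] at hj
    exact orderOf_eq_one_iff.mp (Nat.eq_one_of_dvd_coprimes
      (Nat.Coprime.pow_left j (Nat.prime_two.coprime_iff_not_dvd.mpr hN2)) (dvd_of_eq hj)
      (Subgroup.orderOf_dvd_natCard N hu'))
  have hf : Function.Bijective f := by
    refine ⟨(injective_iff_map_eq_one f).mpr fun u hu => Subtype.ext (hone u u.2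
      ((QuotientGroup.eq_one_iff (u : G)).mp (congrArg Subtype.val hu))), fun q => ?_⟩
    have hq := q.2
    simp only [hPq, Sylow.coe_mapSurjective] at hq
    obtain ⟨u, hu, e⟩ := hq
    exact ⟨⟨u, hu⟩, Subtype.ext e⟩
  haveI : IsMulCommutative (Pq : Subgroup (G ⧸ N)) := ⟨⟨fun a b => by
    obtain ⟨a, rfl⟩ := hf.2 a
    obtain ⟨b, rfl⟩ := hf.2 b
    rw [← map_mul, ← map_mul, mul_comm a b]⟩⟩
  have hcard : Nat.card Pq = Nat.card P := (Nat.card_eq_of_bijective f hf).symm
  have hOq : ∀ L : Subgroup (G ⧸ N), L.Normal → Odd (Nat.card L) → L = ⊥ := by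
    intro L hL hodd
    haveI := hL.comap (QuotientGroup.mk' N)
    have hle : L.comap (QuotientGroup.mk' N) ≤ N := by
      refine Coprime.le_pPrimeCore_of_not_dvd Nat.prime_two fun h2 => ?_
      obtain ⟨t, ht⟩ := exists_prime_orderOf_dvd_card' (G := L.comap (QuotientGroup.mk' N)) 2 h2
      rw [← Subgroup.orderOf_coe] at ht
      have h1 : ((t : G) : G ⧸ N) = 1 := by
        rw [← orderOf_eq_one_iff]
        refine Nat.eq_one_of_dvd_coprimes (Nat.coprime_two_left.mpr hodd) ?_
          (Subgroup.orderOf_dvd_natCard L t.2)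
        rw [← ht]
        exact orderOf_map_dvd (QuotientGroup.mk' N) (t : G)
      refine hN2 ?_
      rw [← ht]
      exact Subgroup.orderOf_dvd_natCard N ((QuotientGroup.eq_one_iff _).mp h1)
    rw [Subgroup.eq_bot_iff_forall]
    intro q hq
    obtain ⟨g, rfl⟩ := QuotientGroup.mk_surjective q
    exact (QuotientGroup.eq_one_iff g).mpr (hle hq)
  have hrel : (cen Pq).relIndex (nor Pq) = (cen P).relIndex (nor P) := by
    refine relIndex_map_eq (QuotientGroup.mk' N) (P : Subgroup G) (Pq : Subgroup (G ⧸ N))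
      (Sylow.coe_mapSurjective _ P).symm ?_ fun n hn u hu e => ?_
    · rw [hPq, Sylow.coe_mapSurjective]
      exact CfsgLib.Fusion.normalizer_map_le N hN2 P.2
    · have h1 : n * u * n⁻¹ * u⁻¹ = 1 := by
        refine hone _ (mul_mem ((Subgroup.mem_normalizer_iff.mp hn u).mp hu) (inv_mem hu)) ?_
        rw [← QuotientGroup.eq_one_iff]
        simp only [QuotientGroup.mk'_apply] at e
        simp only [QuotientGroup.mk_mul, QuotientGroup.mk_inv]
        rw [e, mul_inv_cancel_right, mul_inv_cancel]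
      rwa [mul_inv_eq_one, mul_inv_eq_iff_eq_mul] at h1
  obtain ⟨hl, hs⟩ := invariants_reduced Pq hOq (hrel.symm ▸ hp) hM
  refine ⟨(blockRank_inflate hM N hN2).trans (hl.trans hrel), fun hns => ?_⟩
  have hk : Nat.card (principalBlock M G) = Nat.card (principalBlock M (G ⧸ N)) := by
    refine (Nat.card_eq_of_bijective (fun θ : principalBlock M (G ⧸ N) =>
      (⟨Cyclic.inflQ θ.1, (PrincipalCore.inflQ_mem_iff hM hN2 θ.1).mpr θ.2⟩ : principalBlock M G))
      ⟨fun a b e => ?_, fun χ => ?_⟩).symm
    · refine Subtype.ext (Subtype.ext (funext fun q => ?_))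
      obtain ⟨g, rfl⟩ := QuotientGroup.mk_surjective q
      exact congrFun (congrArg (fun z : principalBlock M G => ((z : IrrCharacter G) : G → ℂ)) e) g
    · obtain ⟨θ, hθ, e⟩ := PrincipalCore.exists_inflQ_eq hM hN2 χ.2
      exact ⟨⟨θ, hθ⟩, Subtype.ext e⟩
  rw [hk, ← hcard]
  refine hs.resolve_left fun hsol => hns ?_
  haveI := hsol
  haveI : Group.IsSolvable N := Cfsg.Agent.S0205.result
    (Nat.not_even_iff_odd.mp fun h2 => hN2 (even_iff_two_dvd.mp h2))
  refine Group.isSolvable_of_ker_le_range N.subtype (QuotientGroup.mk' N) ?_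
  rw [QuotientGroup.ker_mk', Subgroup.range_subtype]

end CfsgLib.Block.FreeElementary
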