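import Cfsg.Agent.Lib.Block.FreeElementary.Kernel

/-!
# The completion is trivial when the automizer is transitive

With `n = [G : H] > 1` the bound of the third moment leaves `n - 1 ≤ 2 q`; then every orbit of `W P` on
the other cosets has `q` points, `W` fixes all cosets and so is trivial.
-/

set_option autoImplicit false
set_option linter.unusedSectionVars false

namespace CfsgLib.Block.FreeElementary

open scoped ComplexConjugate
open Cfsg CfsgLib.Char CfsgLib.Block CfsgLib.Block.AbelianFree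

universe u

open scoped Classical

variable {G : Type u} [Group G] [Fintype G] {P : Sylow 2 G}

theorem dvd_deg_add_D (hP : Hyp P) (χ : IrrCharacter G) :
    ∃ m : ℕ, (charDegree (χ : G → ℂ) : ℤ) + D P χ = (Nat.card P : ℤ) * m := by
  obtain ⟨m, hm⟩ := exists_sum_subgroup χ (P : Subgroup G)
  refine ⟨m, Int.cast_injective (α := ℂ) ?_⟩
  push_cast
  rw [← hm, ← Finset.add_sum_erase _ _ (Finset.mem_univ (1 : (P : Subgroup G))), ← (charDegree_eq χ).1,
    D, Int.cast_sum]
  simp only [OneMemClass.coe_one]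
  congr 1
  symm
  refine Finset.sum_bij (fun u _ => (u : G)) (fun u hu => mem_nz.mpr ⟨u.2, fun e =>
    (Finset.mem_erase.mp hu).1 (Subtype.ext e)⟩) (fun _ _ _ _ e => Subtype.ext e)
    (fun v hv => ⟨⟨v, (mem_nz.mp hv).1⟩, Finset.mem_erase.mpr ⟨fun e =>
      (mem_nz.mp hv).2 (congrArg Subtype.val e), Finset.mem_univ _⟩, rfl⟩) fun u _ => ?_
  exact val_spec χ (hP.elem u u.2)

/-- The common value on `P - {1}`. -/
theorem val_eq (hP : Hyp P) (htr : (cen P).relIndex (nor P) = (nz P).card) (χ : IrrCharacter G) {u v : G}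
    (hu : u ∈ nz P) (hv : v ∈ nz P) : val χ u = val χ v := by
  rw [val, val, classFun_isConj (isClassFunction_irr χ) (isConj_of_trans htr hP hu hv)]

theorem D_eq_mul (hP : Hyp P) (htr : (cen P).relIndex (nor P) = (nz P).card) (χ : IrrCharacter G) {v : G}
    (hv : v ∈ nz P) : D P χ = ((nz P).card : ℤ) * val χ v := by
  rw [D, Finset.sum_congr rfl fun u hu => val_eq hP htr χ hu hv, Finset.sum_const, nsmul_eq_mul]

variable (hP : Hyp P) {M : Ideal AlgInt} (hM : IsPModular 2 M)
  (htr : (cen P).relIndex (nor P) = (nz P).card)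
include hP hM htr

theorem card_two : Nat.card P = 8 ∨ Nat.card P = 16 ∨ 32 ≤ Nat.card P := by
  haveI := Fact.mk Nat.prime_two
  obtain ⟨k, hk⟩ := P.2.exists_card_eq
  have := hP.card
  rcases le_or_gt k 4 with hk4 | hk4
  · rw [hk] at this ⊢
    interval_cases k
    all_goals first | omega | simp at this ⊢
  · right; right
    rw [hk]
    exact le_trans (by norm_num) (Nat.pow_le_pow_right (by norm_num : 1 ≤ 2) hk4)

theorem sum_val_sq [Fintype (IrrCharacter G)] {v : G} (hv : v ∈ nz P) :
    ∑ χ ∈ Finset.univ.filter (· ∈ principalBlock M G), val χ v ^ 2 = (Nat.card P : ℤ) := by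
  have h := sum_D_sq hP hM
  rw [Finset.sum_congr rfl (g := fun χ : IrrCharacter G => ((nz P).card : ℤ) ^ 2 * val χ v ^ 2)
    fun χ _ => by rw [D_eq_mul hP htr χ hv, mul_pow], ← Finset.mul_sum, htr] at h
  have h0 : ((nz P).card : ℤ) ^ 2 ≠ 0 := by
    have := Finset.card_pos.mpr ⟨v, hv⟩
    positivity
  refine mul_left_cancel₀ h0 ?_
  rw [h]; ring

/-- The third moment with the common value. -/
theorem sum_val_cube [Fintype (IrrCharacter G)] {v : G} (hv : v ∈ nz P) :
    ((H P).index : ℝ) * ((nz P).card : ℝ) * ∑ χ ∈ Finset.univ.filter (· ∈ principalBlock M G),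
        (val χ v : ℝ) ^ 3 / (charDegree (χ : G → ℂ) : ℝ) =
      (Nat.card P : ℝ) * (((nz P).card : ℝ) - 1) := by
  have h := sum_D_cube hP hM
  have ht : 1 ≤ (nz P).card := Finset.card_pos.mpr ⟨v, hv⟩
  rw [Finset.sum_congr rfl (g := fun χ : IrrCharacter G =>
      ((nz P).card : ℝ) ^ 3 * ((val χ v : ℝ) ^ 3 / (charDegree (χ : G → ℂ) : ℝ)))
    fun χ _ => by rw [D_eq_mul hP htr χ hv]; push_cast; ring, ← Finset.mul_sum, htr, Nat.cast_sub ht,
    Nat.cast_one] at h
  have h0 : ((nz P).card : ℝ) ^ 2 ≠ 0 := by positivity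
  refine mul_left_cancel₀ h0 ?_
  linear_combination h

omit hM in
/-- An odd part bound: an arithmetical consequence. -/
theorem frac_bound {d c Q : ℝ} {deg : ℝ} (hdeg : (Q : ℝ) + ((nz P).card : ℝ) * |d| ≤ deg) (hQ : 0 < Q)
    (hd : d ≤ 0) (hc : |d| ≤ c * (Q + ((nz P).card : ℝ) * |d|)) : -(c * d ^ 2) ≤ d ^ 3 / deg := by
  have h0 : (0 : ℝ) < Q + ((nz P).card : ℝ) * |d| := by positivity
  have hdpos : 0 < deg := h0.trans_le hdeg
  rw [le_div_iff₀ hdpos]
  rw [abs_of_nonpos hd] at *
  rcases eq_or_lt_of_le hd with e | e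
  · subst e; simp
  have hcn : 0 ≤ c := by
    by_contra hcc
    nlinarith
  nlinarith [mul_le_mul_of_nonneg_left hdeg (mul_nonneg hcn (sq_nonneg d)),
    mul_le_mul_of_nonneg_left hc (sq_nonneg d)]

/-- The bound on the number of cosets. -/
theorem index_le (hO : ∀ N : Subgroup G, N.Normal → Odd (Nat.card N) → N = ⊥) (hcard : Nat.card P ≤ 16)
    (hn : (H P).index ≠ 1) (hW : W P ≠ ⊥) : (H P).index ≤ 1 + 2 * Nat.card P := by
  haveI := Fintype.ofFinite (IrrCharacter G)
  haveI := hM.2.1
  obtain ⟨v, hvP, hv1⟩ := exists_ne_one hP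
  have hv : v ∈ nz P := mem_nz.mpr ⟨hvP, hv1⟩
  set B := Finset.univ.filter (fun χ : IrrCharacter G => χ ∈ principalBlock M G) with hB
  set t := (nz P).card with ht
  have hqt : Nat.card P = t + 1 := card_nz.symm
  have h1B : oneChar G ∈ B := Finset.mem_filter.mpr ⟨Finset.mem_univ _, one_mem_principalBlock⟩
  have hdeg : ∀ χ ∈ B.erase (oneChar G),
      (Nat.card P : ℝ) - (t : ℝ) * (val χ v : ℝ) ≤ (charDegree (χ : G → ℂ) : ℝ) := by
    intro χ hχ
    obtain ⟨hne, hχB⟩ := Finset.mem_erase.mp hχ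
    have hχB' := (Finset.mem_filter.mp hχB).2
    obtain ⟨n₀, h1, h2, h3, h4⟩ := exists_fixed hP hM hχB'
    obtain ⟨m, hm⟩ := dvd_deg_add_D hP χ
    have hlt : n₀ < charDegree (χ : G → ℂ) := lt_of_le_of_ne h1 fun e => hW (by
      rw [Subgroup.eq_bot_iff_forall]
      exact fun w hw => eq_one_of_value_eq hP hO hM htr hn hχB' hne (h4 e w hw))
    have h5 : (Nat.card P : ℤ) ∣ (charDegree (χ : G → ℂ) : ℤ) - n₀ := by
      have := dvd_sub (⟨m, hm⟩ : (Nat.card P : ℤ) ∣ (charDegree (χ : G → ℂ) : ℤ) + D P χ) h3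
      rwa [add_sub_add_right_eq_sub] at this
    have h6 := Int.le_of_dvd (by omega) h5
    rw [D_eq_mul hP htr χ hv, ← ht] at h2
    have : (Nat.card P : ℤ) - (t : ℤ) * val χ v ≤ (charDegree (χ : G → ℂ) : ℤ) := by omega
    exact_mod_cast this
  have hsum : ∑ χ ∈ B.erase (oneChar G), val χ v ^ 2 = (t : ℤ) := by
    have h := sum_val_sq hP hM htr hv
    rw [← hB, ← Finset.add_sum_erase _ _ h1B, val_one, hqt] at h
    push_cast at h
    linarith
  have hsumR : ∑ χ ∈ B.erase (oneChar G), (val χ v : ℝ) ^ 2 = (t : ℝ) := by exact_mod_cast hsum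
  have hsmall : ∀ χ ∈ B.erase (oneChar G), val χ v ^ 2 ≤ (t : ℤ) := fun χ hχ =>
    hsum ▸ Finset.single_le_sum (fun θ _ => sq_nonneg (val θ v)) hχ
  have hterm : ∀ χ ∈ B.erase (oneChar G), ∀ c : ℝ, 0 ≤ c →
      (|(val χ v : ℝ)| ≤ c * ((Nat.card P : ℝ) + (t : ℝ) * |(val χ v : ℝ)|)) →
      -(c * (val χ v : ℝ) ^ 2) ≤ (val χ v : ℝ) ^ 3 / (charDegree (χ : G → ℂ) : ℝ) := by
    intro χ hχ c hc hle
    rcases le_or_gt (val χ v : ℝ) 0 with hd | hd
    · refine frac_bound hP htr ?_ (by exact_mod_cast Nat.card_pos) hd hle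
      rw [← ht, abs_of_nonpos hd]
      linarith [hdeg χ hχ]
    · have h1 : 0 ≤ c * (val χ v : ℝ) ^ 2 := mul_nonneg hc (sq_nonneg _)
      have h2 : 0 ≤ (val χ v : ℝ) ^ 3 / (charDegree (χ : G → ℂ) : ℝ) := by positivity
      linarith
  have hS : ∀ σ : ℝ, -σ ≤ ∑ χ ∈ B.erase (oneChar G), (val χ v : ℝ) ^ 3 / (charDegree (χ : G → ℂ) : ℝ) →
      ((H P).index : ℝ) * t * (1 - σ) ≤ (Nat.card P : ℝ) * ((t : ℝ) - 1) := by
    intro σ hσ
    rw [← sum_val_cube hP hM htr hv, ← hB, ← Finset.add_sum_erase _ _ h1B, val_one,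
      show charDegree ((oneChar G : IrrCharacter G) : G → ℂ) = 1 by simp [charDegree, oneChar]]
    refine mul_le_mul_of_nonneg_left ?_ (by positivity)
    push_cast
    linarith
  have habs : ∀ χ ∈ B.erase (oneChar G), ∀ k : ℤ, (t : ℤ) < (k + 1) ^ 2 → 0 ≤ k → |val χ v| ≤ k := by
    intro χ hχ k hk hk0
    by_contra hc
    push Not at hc
    have := pow_le_pow_left₀ (by omega) (show k + 1 ≤ |val χ v| by omega) 2
    rw [sq_abs] at this
    linarith [hsmall χ hχ]
  obtain ⟨m, hm⟩ := index_mod hP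
  suffices m ≤ 2 by rw [hm]; nlinarith
  rcases card_two hP hM htr with hq | hq | hq
  · have htv : t = 7 := by omega
    have h1 : -((7 : ℝ) / 11) ≤
        ∑ χ ∈ B.erase (oneChar G), (val χ v : ℝ) ^ 3 / (charDegree (χ : G → ℂ) : ℝ) := by
      refine le_trans ?_ (Finset.sum_le_sum fun χ hχ => hterm χ hχ (1 / 11) (by norm_num) ?_)
      · rw [Finset.sum_neg_distrib, ← Finset.mul_sum, hsumR, htv]; norm_num
      · have : |(val χ v : ℝ)| ≤ 2 := by exact_mod_cast habs χ hχ 2 (by rw [htv]; norm_num) (by norm_num)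
        rw [hq, htv]; push_cast; linarith
    have h2 := hS _ h1
    rw [hm, hq, htv] at h2
    push_cast at h2
    have h4 : (m : ℝ) < 3 := by nlinarith
    exact Nat.lt_succ_iff.mp (by exact_mod_cast h4)
  · have htv : t = 15 := by omega
    have hb3 : ∀ χ ∈ B.erase (oneChar G), |(val χ v : ℝ)| ≤ 3 := fun χ hχ => by
      exact_mod_cast habs χ hχ 3 (by rw [htv]; norm_num) (by norm_num)
    have h1 : -((683 : ℝ) / 1000) ≤
        ∑ χ ∈ B.erase (oneChar G), (val χ v : ℝ) ^ 3 / (charDegree (χ : G → ℂ) : ℝ) := by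
      by_cases hex : ∃ χ ∈ B.erase (oneChar G), 9 ≤ val χ v ^ 2
      · obtain ⟨χ₀, hχ₀, h9⟩ := hex
        set R := (B.erase (oneChar G)).erase χ₀ with hR
        have hR6 : ∑ χ ∈ R, val χ v ^ 2 ≤ 6 := by
          rw [← Finset.add_sum_erase _ _ hχ₀, htv] at hsum
          push_cast at hsum
          linarith
        have ht0 : -((3 : ℝ) / 61 * 9) ≤ (val χ₀ v : ℝ) ^ 3 / (charDegree (χ₀ : G → ℂ) : ℝ) := by
          refine le_trans ?_ (hterm χ₀ hχ₀ (3 / 61) (by norm_num) ?_)
          · have : (val χ₀ v : ℝ) ^ 2 ≤ 9 := by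
              rw [← sq_abs]; nlinarith [hb3 χ₀ hχ₀, abs_nonneg (val χ₀ v : ℝ)]
            nlinarith
          · rw [hq, htv]; push_cast; linarith [hb3 χ₀ hχ₀]
        rw [← Finset.add_sum_erase _ _ hχ₀]
        by_cases hex2 : ∃ χ ∈ R, 4 ≤ val χ v ^ 2
        · obtain ⟨χ₁, hχ₁, h4⟩ := hex2
          have hle6 : val χ₁ v ^ 2 ≤ 6 :=
            (Finset.single_le_sum (f := fun θ => val θ v ^ 2) (fun θ _ => sq_nonneg _) hχ₁).trans hR6
          have ha2 : |val χ₁ v| ≤ 2 := by
            by_contra hc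
            push Not at hc
            have := pow_le_pow_left₀ (by norm_num) (show (3 : ℤ) ≤ |val χ₁ v| by omega) 2
            rw [sq_abs] at this
            linarith
          have ha2' : |(val χ₁ v : ℝ)| ≤ 2 := by exact_mod_cast ha2
          have hR2 : ∑ χ ∈ R.erase χ₁, (val χ v : ℝ) ^ 2 ≤ 2 := by
            rw [← Finset.add_sum_erase _ _ hχ₁] at hR6
            have : ∑ χ ∈ R.erase χ₁, val χ v ^ 2 ≤ 2 := by linarith
            exact_mod_cast this
          have ht1 : -((1 : ℝ) / 23 * 4) ≤ (val χ₁ v : ℝ) ^ 3 / (charDegree (χ₁ : G → ℂ) : ℝ) := by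
            refine le_trans ?_ (hterm χ₁ (Finset.mem_erase.mp hχ₁).2 (1 / 23) (by norm_num) ?_)
            · have : (val χ₁ v : ℝ) ^ 2 ≤ 4 := by
                rw [← sq_abs]; nlinarith [abs_nonneg (val χ₁ v : ℝ)]
              nlinarith
            · rw [hq, htv]; push_cast; linarith
          have ht2 : -((1 : ℝ) / 31 * 2) ≤
              ∑ χ ∈ R.erase χ₁, (val χ v : ℝ) ^ 3 / (charDegree (χ : G → ℂ) : ℝ) := by
            refine le_trans ?_ (Finset.sum_le_sum fun χ hχ => hterm χ
              (Finset.mem_erase.mp (Finset.mem_erase.mp hχ).2).2 (1 / 31) (by norm_num) ?_)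
            · rw [Finset.sum_neg_distrib, ← Finset.mul_sum]; nlinarith
            · have h1 : (val χ v : ℝ) ^ 2 ≤ 2 :=
                (Finset.single_le_sum (f := fun θ => (val θ v : ℝ) ^ 2) (fun θ _ => sq_nonneg _) hχ).trans hR2
              have h1' : val χ v ^ 2 ≤ 2 := by exact_mod_cast h1
              have ha : |val χ v| ≤ 1 := by
                by_contra hc
                push Not at hc
                have := pow_le_pow_left₀ (by norm_num) (show (2 : ℤ) ≤ |val χ v| by omega) 2
                rw [sq_abs] at this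
                linarith
              have ha' : |(val χ v : ℝ)| ≤ 1 := by exact_mod_cast ha
              rw [hq, htv]; push_cast; linarith
          rw [← Finset.add_sum_erase _ _ hχ₁]
          linarith
        · push Not at hex2
          have hR6' : ∑ χ ∈ R, (val χ v : ℝ) ^ 2 ≤ 6 := by exact_mod_cast hR6
          have ht2 : -((1 : ℝ) / 31 * 6) ≤ ∑ χ ∈ R, (val χ v : ℝ) ^ 3 / (charDegree (χ : G → ℂ) : ℝ) := by
            refine le_trans ?_ (Finset.sum_le_sum fun χ hχ => hterm χ
              (Finset.mem_erase.mp hχ).2 (1 / 31) (by norm_num) ?_)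
            · rw [Finset.sum_neg_distrib, ← Finset.mul_sum]; nlinarith
            · have ha : |val χ v| ≤ 1 := by
                by_contra hc
                push Not at hc
                have := pow_le_pow_left₀ (by norm_num) (show (2 : ℤ) ≤ |val χ v| by omega) 2
                rw [sq_abs] at this
                linarith [hex2 χ hχ]
              have ha' : |(val χ v : ℝ)| ≤ 1 := by exact_mod_cast ha
              rw [hq, htv]; push_cast; linarith
          linarith
      · push Not at hex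
        refine le_trans ?_ (Finset.sum_le_sum fun χ hχ => hterm χ hχ (1 / 23) (by norm_num) ?_)
        · rw [Finset.sum_neg_distrib, ← Finset.mul_sum, hsumR, htv]; norm_num
        · have ha : |val χ v| ≤ 2 := by
            by_contra hc
            push Not at hc
            have := pow_le_pow_left₀ (by norm_num) (show (3 : ℤ) ≤ |val χ v| by omega) 2
            rw [sq_abs] at this
            linarith [hex χ hχ]
          have ha' : |(val χ v : ℝ)| ≤ 2 := by exact_mod_cast ha
          rw [hq, htv]; push_cast; linarith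
    have h2 := hS _ h1
    rw [hm, hq, htv] at h2
    push_cast at h2
    have h4 : (m : ℝ) < 3 := by nlinarith
    exact Nat.lt_succ_iff.mp (by exact_mod_cast h4)
  · omega

omit hM in
/-- Small index: `W` fixes every coset. -/
theorem W_eq_bot_of_le (hO : ∀ N : Subgroup G, N.Normal → Odd (Nat.card N) → N = ⊥)
    (hn : (H P).index ≠ 1) (hle : (H P).index ≤ 1 + 2 * Nat.card P) : W P = ⊥ := by
  haveI := Fact.mk Nat.prime_two
  set X := W P ⊔ (P : Subgroup G) with hX
  have hnorm : (P : Subgroup G) ≤ Subgroup.normalizer (W P : Set G) := le_nor.trans (nor_le_normalizer hP)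
  have hdec : ∀ x ∈ X, ∃ w ∈ W P, ∃ u ∈ (P : Subgroup G), w * u = x := fun x hx => by
    rw [hX, ← SetLike.mem_coe, Subgroup.coe_mul_of_right_le_normalizer_left _ _ hnorm] at hx
    exact Set.mem_mul.mp hx
  have hXc : Nat.card X ≤ Nat.card (W P) * Nat.card P ∧ Nat.card (W P) * Nat.card P ∣ Nat.card X := by
    refine ⟨?_, ?_⟩
    · rw [← Nat.card_prod]
      refine Nat.card_le_card_of_surjective (fun r : W P × (P : Subgroup G) =>
        (⟨(r.1 : G) * r.2, Subgroup.mul_mem_sup r.1.2 r.2.2⟩ : X)) fun x => ?_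
      obtain ⟨w, hw, u, hu, e⟩ := hdec x x.2
      exact ⟨⟨⟨w, hw⟩, ⟨u, hu⟩⟩, Subtype.ext e⟩
    · refine Nat.Coprime.mul_dvd_of_dvd_of_dvd ?_ (Subgroup.card_dvd_of_le le_sup_left)
        (Subgroup.card_dvd_of_le le_sup_right)
      obtain ⟨k, hk⟩ := P.2.exists_card_eq
      rw [hk]
      exact Nat.Coprime.pow_right k (Nat.coprime_two_right.mpr (odd_W hP))
  have hXeq : Nat.card X = Nat.card (W P) * Nat.card P :=
    le_antisymm hXc.1 (Nat.le_of_dvd Nat.card_pos hXc.2)
  have hfix : ∀ g : G, g ∉ H P → ∀ w ∈ W P, g⁻¹ * w * g ∈ H P := by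
    intro g hg
    set x : G ⧸ H P := QuotientGroup.mk g
    set St := MulAction.stabilizer X x
    have hstab : ∀ s : X, s ∈ St → (s : G) ∈ W P := by
      intro s hs
      have hs' : g⁻¹ * (s : G) * g ∈ H P := by
        have e : (QuotientGroup.mk ((s : G) * g) : G ⧸ H P) = QuotientGroup.mk g := hs
        rw [mul_assoc]
        exact QuotientGroup.eq.mp e.symm
      obtain ⟨w, hw, u, hu, e⟩ := hdec s s.2
      by_contra hsW
      have hu1 : u ≠ 1 := fun h => hsW (by rw [← e, h, mul_one]; exact hw)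
      obtain ⟨τ, hτ, hconj⟩ := exists_isPPart_coset hP hw hu hu1
      rw [e] at hτ
      obtain ⟨m, hm⟩ := exists_isPPart_coset.isPPart_pow' hτ
      have hτX : τ ∈ X := hm ▸ pow_mem s.2 m
      have hτH : g⁻¹ * τ * g ∈ H P := by
        rw [hm, show g⁻¹ * (s : G) ^ m * g = (g⁻¹ * (s : G) * g) ^ m by
          have := conj_pow (i := m) (a := g⁻¹) (b := (s : G))
          rw [inv_inv] at this
          exact this.symm]
        exact pow_mem hs' m
      obtain ⟨a, ha, b, hb, eab⟩ := hdec τ hτX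
      obtain ⟨c, hc⟩ := isConj_iff.mp hconj
      have hτ2 : τ * τ = 1 := by
        rw [← hc, show c * u * c⁻¹ * (c * u * c⁻¹) = c * (u * u) * c⁻¹ by group, hP.elem u hu]; group
      have hτ1 : τ ≠ 1 := fun e1 => hu1 (conj_eq_one_iff.mp (hc.trans e1))
      have hb2 := hP.elem b hb
      have hinv : b * a * b = a⁻¹ := eq_inv_of_mul_eq_one_right (by
        rw [← eab] at hτ2; rw [← hτ2]; group)
      have hb1 : b ≠ 1 := fun hb1 => hτ1 (by
        rw [hb1, one_mul, mul_one] at hinv
        have ha2 : a * a = 1 := by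
          calc a * a = a * a⁻¹ := by rw [← hinv]
            _ = 1 := mul_inv_cancel a
        rw [← eab, hb1, mul_one]
        refine CfsgLib.Char.FourBound.sq_cancel ((odd_W hP).of_dvd_nat ?_) ha2
        exact Subgroup.orderOf_dvd_natCard _ ha)
      obtain ⟨n, hn'⟩ := exists_root (odd_W hP) ha
      have hi : b * a ^ n * b = (a ^ n)⁻¹ := by
        rw [CfsgLib.Char.FourBound.conj_pow' hb2, hinv, inv_pow]
      have hτb : τ = a ^ n * b * (a ^ n)⁻¹ := by
        calc τ = a ^ n * (a ^ n) * b := by rw [hn', eab]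
          _ = a ^ n * (b * b) * a ^ n * b := by rw [hb2]; group
          _ = a ^ n * b * (b * a ^ n * b) := by group
          _ = _ := by rw [hi]
      have h2 : (a ^ n)⁻¹ * g ∈ H P := mem_H_of_conj hP hb hb1 (by
        rw [mul_inv_rev, inv_inv]
        rw [show g⁻¹ * a ^ n * b * ((a ^ n)⁻¹ * g) = g⁻¹ * (a ^ n * b * (a ^ n)⁻¹) * g by group, ← hτb]
        exact hτH)
      refine hg ?_
      have := mul_mem (W_le_H (pow_mem ha n)) h2
      rwa [mul_inv_cancel_left] at this
    have hxbase : x ≠ QuotientGroup.mk 1 := fun e => hg (by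
      have := QuotientGroup.eq.mp e
      simpa using this)
    have horb : Nat.card (MulAction.orbit X x) + 1 ≤ (H P).index := by
      rw [← Finite.card_option, Subgroup.index]
      refine Nat.card_le_card_of_injective (fun o : Option (MulAction.orbit X x) =>
        o.elim (QuotientGroup.mk 1) fun y => (y : G ⧸ H P)) ?_
      have hne : ∀ y : MulAction.orbit X x, (y : G ⧸ H P) ≠ QuotientGroup.mk 1 := by
        rintro ⟨_, s, rfl⟩ e
        refine hxbase ?_
        have e' : ((s : G) • x : G ⧸ H P) = QuotientGroup.mk 1 := e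
        rw [← inv_smul_smul (s : G) x, e']
        have hsH : (s : G) ∈ H P := sup_le W_le_H (le_nor.trans nor_le_H) s.2
        exact QuotientGroup.eq.mpr (by simpa using hsH)
      intro a b e
      cases a with
      | none =>
        cases b with
        | none => rfl
        | some z => exact absurd e.symm (hne z)
      | some y =>
        cases b with
        | none => exact absurd e (hne y)
        | some z => exact congrArg some (Subtype.ext e)
    have hmul := MulAction.card_orbit_mul_card_stabilizer_eq_card_group X x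
    simp only [← Nat.card_eq_fintype_card] at hmul
    rw [hXeq] at hmul
    let f : St → W P := fun s => ⟨((s : X) : G), hstab s s.2⟩
    have hfinj : Function.Injective f := fun a b e => Subtype.ext (Subtype.ext (congrArg (fun z : W P => (z : G)) e))
    have hSdvd : Nat.card St ∣ Nat.card (W P) := by
      let φ : St →* W P := MonoidHom.mk' f fun a b => rfl
      exact Subgroup.card_dvd_of_injective φ hfinj
    obtain ⟨r, hr⟩ := hSdvd
    have hS0 : 0 < Nat.card St := Nat.card_pos
    have ho : Nat.card (MulAction.orbit X x) = r * Nat.card P := by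
      refine Nat.eq_of_mul_eq_mul_right hS0 (hmul.trans ?_)
      rw [hr]; ring
    have hrodd : Odd r := by
      have h := odd_W hP
      rw [hr, Nat.odd_mul] at h
      exact h.2
    have hr1 : r = 1 := by
      obtain ⟨r', rfl⟩ := hrodd
      have := hP.card
      rcases Nat.eq_zero_or_pos r' with h0 | h0
      · omega
      · exfalso
        rw [ho] at horb
        nlinarith
    rw [hr1, mul_one] at hr
    have hfsurj : Function.Surjective f :=
      ((Nat.bijective_iff_injective_and_card f).mpr ⟨hfinj, hr.symm⟩).2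
    intro w hw
    obtain ⟨s, hs⟩ := hfsurj ⟨w, hw⟩
    have e : ((s : X) : G) = w := congrArg Subtype.val hs
    have hs' : (s : X) • x = x := s.2
    rw [mul_assoc, ← e]
    exact QuotientGroup.eq.mp hs'.symm
  have hWcore : W P ≤ (H P).normalCore := by
    intro w hw g
    by_cases hg : g⁻¹ ∈ H P
    · have hg' : g ∈ H P := by simpa using inv_mem hg
      exact mul_mem (mul_mem hg' (W_le_H hw)) hg
    · have := hfix g⁻¹ hg w hw
      rwa [inv_inv] at this
  have hcore : Odd (Nat.card (H P).normalCore) := by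
    rw [← Nat.not_even_iff_odd, even_iff_two_dvd]
    intro h2
    obtain ⟨i, hi⟩ := exists_prime_orderOf_dvd_card' (G := (H P).normalCore) 2 h2
    rw [← Subgroup.orderOf_coe] at hi
    obtain ⟨S, hS⟩ := (IsPGroup.of_card (n := 1) (by rw [Nat.card_zpowers, hi, pow_one]) :
      IsPGroup 2 (Subgroup.zpowers (i : G))).exists_le_sylow
    obtain ⟨k, rfl⟩ := MulAction.exists_smul_eq G P S
    obtain ⟨v, hv, e⟩ := hS (Subgroup.mem_zpowers (i : G))
    have e' : k * v * k⁻¹ = (i : G) := e
    have hv1 : v ≠ 1 := fun hv1 => by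
      rw [← e', hv1, mul_one, mul_inv_cancel, orderOf_one] at hi
      omega
    refine hn (Subgroup.index_eq_one.mpr (eq_top_iff.mpr fun g _ => mem_H_of_conj hP hv hv1 ?_))
    have := (Subgroup.normalCore_normal (H P)).conj_mem (i : G) i.2 (g⁻¹ * k⁻¹)
    refine Subgroup.normalCore_le _ ?_
    rwa [← e', show g⁻¹ * k⁻¹ * (k * v * k⁻¹) * (g⁻¹ * k⁻¹)⁻¹ = g⁻¹ * v * g by group] at this
  exact le_bot_iff.mp (hWcore.trans (hO _ (Subgroup.normalCore_normal _) hcore).le)

theorem W_eq_bot (hO : ∀ N : Subgroup G, N.Normal → Odd (Nat.card N) → N = ⊥) (hcard : Nat.card P ≤ 16)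
    (hn : (H P).index ≠ 1) : W P = ⊥ := by
  by_contra hW
  exact hW (W_eq_bot_of_le hP htr hO hn (index_le hP hM htr hO hcard hn hW))

end CfsgLib.Block.FreeElementary
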