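import Cfsg.Agent.Lib.Block.AbelianFree
import Cfsg.Agent.Lib.Block.SubsectionCount
import Cfsg.Agent.Lib.Block.KleinFour

/-!
# Sections of an elementary abelian Sylow 2-subgroup with free automizer

`K v` is the odd part of the centralizer of `v`.  Characters of the principal block are constant on the
section of `v`; the sums over the section of all other irreducible characters vanish.
-/

set_option autoImplicit false
set_option linter.unusedSectionVars false

namespace CfsgLib.Block.FreeElementary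

open scoped ComplexConjugate
open Cfsg CfsgLib.Char CfsgLib.Block CfsgLib.Block.AbelianFree

universe u

open scoped Classical

variable {G : Type u} [Group G] [Fintype G]

/-- The odd part of the centralizer of `v`. -/
def K (v : G) : Subgroup G :=
  (Cfsg.pResidual 2 ↥(Subgroup.centralizer ({v} : Set G))).map (Subgroup.centralizer ({v} : Set G)).subtype

theorem K_le (v : G) : K v ≤ Subgroup.centralizer ({v} : Set G) := Subgroup.map_subtype_le _

theorem commute_of_mem_K {v x : G} (hx : x ∈ K v) : Commute v x :=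
  (Subgroup.mem_centralizer_singleton_iff.mp (K_le v hx)).symm

theorem card_centralizer_conj (v a : G) :
    Nat.card (Subgroup.centralizer ({a * v * a⁻¹} : Set G)) =
      Nat.card (Subgroup.centralizer ({v} : Set G)) := by
  refine (Nat.card_congr
    { toFun := fun c : Subgroup.centralizer ({v} : Set G) =>
        (⟨a * c * a⁻¹, ?_⟩ : Subgroup.centralizer ({a * v * a⁻¹} : Set G))
      invFun := fun c : Subgroup.centralizer ({a * v * a⁻¹} : Set G) =>
        (⟨a⁻¹ * c * a, ?_⟩ : Subgroup.centralizer ({v} : Set G))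
      left_inv := fun c => Subtype.ext (by simp [mul_assoc])
      right_inv := fun c => Subtype.ext (by simp [mul_assoc]) }).symm
  · have h := Subgroup.mem_centralizer_singleton_iff.mp c.2
    refine Subgroup.mem_centralizer_singleton_iff.mpr ?_
    calc a * c * a⁻¹ * (a * v * a⁻¹) = a * (c * v) * a⁻¹ := by group
      _ = a * (v * c) * a⁻¹ := by rw [h]
      _ = a * v * a⁻¹ * (a * c * a⁻¹) := by group
  · have h := Subgroup.mem_centralizer_singleton_iff.mp c.2
    refine Subgroup.mem_centralizer_singleton_iff.mpr ?_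
    calc a⁻¹ * c * a * v = a⁻¹ * (c * (a * v * a⁻¹)) * a := by group
      _ = a⁻¹ * (a * v * a⁻¹ * c) * a := by rw [h]
      _ = v * (a⁻¹ * c * a) := by group

/-- An element with 2-part conjugate to `v`. -/
theorem exists_section {g v w : G} (hw : IsPPart 2 g w) (hvw : IsConj v w) :
    ∃ z, IsPPart 2 z v ∧ IsConj z g := by
  obtain ⟨c, hc⟩ := isConj_iff.mp hvw
  refine ⟨c⁻¹ * g * c, ?_, isConj_iff.mpr ⟨c, by group⟩⟩
  have h := CfsgLib.Block.isPPart_conj hw c⁻¹
  rw [inv_inv] at h
  rwa [show c⁻¹ * w * c = v by rw [← hc]; group] at h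

variable {P : Sylow 2 G} (h : Free P)
include h

theorem sq_eq_one_of_elem (hel : ∀ v ∈ (P : Subgroup G), v * v = 1) {v : G} (hv : v ∈ (P : Subgroup G))
    (hv1 : v ≠ 1) : orderOf v = 2 :=
  haveI := Fact.mk Nat.prime_two
  orderOf_eq_prime (by rw [pow_two, hel v hv]) hv1

theorem mem_K {v : G} (hv : v ∈ (P : Subgroup G)) (hv1 : v ≠ 1) {x : G} :
    x ∈ K v ↔ Commute v x ∧ ¬ 2 ∣ orderOf x := by
  haveI := Fact.mk Nat.prime_two
  haveI := Fintype.ofFinite (IrrCharacter ↥(Subgroup.centralizer ({v} : Set G)))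
  have hnc := h.hasNormalPComplement hv hv1
  constructor
  · intro hx
    refine ⟨commute_of_mem_K hx, ?_⟩
    obtain ⟨c, hc, rfl⟩ := hx
    rw [Subgroup.coe_subtype, Subgroup.orderOf_coe]
    exact (mem_pResidual_iff_regular hnc).mp hc
  · rintro ⟨hc, ho⟩
    exact ⟨⟨x, Subgroup.mem_centralizer_singleton_iff.mpr hc.eq.symm⟩,
      (mem_pResidual_iff_regular hnc).mpr (by rwa [← Subgroup.orderOf_coe]), rfl⟩

theorem isPPart_mul {v : G} (hv : v ∈ (P : Subgroup G)) (hv1 : v ≠ 1) {x : G} (hx : x ∈ K v) :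
    IsPPart 2 (v * x) v :=
  haveI := Fact.mk Nat.prime_two
  ⟨x, rfl, ((mem_K h hv hv1).mp hx).1, h.orderOf_mem hv, ((mem_K h hv hv1).mp hx).2⟩

theorem odd_K {v : G} (hv : v ∈ (P : Subgroup G)) (hv1 : v ≠ 1) : Odd (Nat.card (K v)) := by
  haveI := Fact.mk Nat.prime_two
  rw [← Nat.not_even_iff_odd, even_iff_two_dvd]
  intro h2
  obtain ⟨g, hg⟩ := exists_prime_orderOf_dvd_card' (G := K v) 2 h2
  rw [← Subgroup.orderOf_coe] at hg
  exact ((mem_K h hv hv1).mp g.2).2 (by rw [hg])

theorem K_conj_mem {v : G} (hv : v ∈ (P : Subgroup G)) (hv1 : v ≠ 1) {c x : G}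
    (hc : c ∈ Subgroup.centralizer ({v} : Set G)) (hx : x ∈ K v) : c * x * c⁻¹ ∈ K v := by
  have h1 := (mem_K h hv hv1).mp hx
  refine (mem_K h hv hv1).mpr ⟨?_, by rw [orderOf_conj_eq]; exact h1.2⟩
  have hc' : Commute v c := (Subgroup.mem_centralizer_singleton_iff.mp hc).symm
  exact (hc'.mul_right h1.1).mul_right hc'.inv_right

/-- The centralizer of `v` is `K v` times `P`. -/
theorem centralizer_bijective {v : G} (hv : v ∈ (P : Subgroup G)) (hv1 : v ≠ 1) :
    Function.Bijective (fun q : K v × (P : Subgroup G) =>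
      (⟨(q.1 : G) * q.2, mul_mem (K_le v q.1.2) (h.le_centralizer hv q.2.2)⟩ :
        Subgroup.centralizer ({v} : Set G))) := by
  haveI := Fact.mk Nat.prime_two
  have hc := CfsgLib.Fusion.hasNormalPComplement_iff_forall_sylow.mp (h.hasNormalPComplement hv hv1)
    (P.subtype (h.le_centralizer hv))
  constructor
  · rintro ⟨a, u⟩ ⟨a', u'⟩ e
    have e1 : (a : G) * u = a' * u' := congrArg Subtype.val e
    have e2 : (a' : G)⁻¹ * a = (u' : G) * (u : G)⁻¹ := by
      rw [eq_mul_inv_iff_mul_eq, mul_assoc, e1]; group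
    have hodd := ((mem_K h hv hv1).mp (mul_mem (inv_mem a'.2) a.2)).2
    obtain ⟨k, hk⟩ := h.orderOf_mem (mul_mem u'.2 (inv_mem u.2))
    rw [e2, hk] at hodd
    have hk0 : k = 0 := by
      by_contra hk0
      exact hodd (dvd_pow_self 2 hk0)
    rw [hk0, pow_zero, orderOf_eq_one_iff] at hk
    have h1 : (u' : G) = u := mul_inv_eq_one.mp hk
    rw [h1] at e1
    exact Prod.ext (Subtype.ext (mul_right_cancel e1)) (Subtype.ext h1.symm)
  · intro c
    obtain ⟨⟨⟨a, ha⟩, ⟨u, hu⟩⟩, e⟩ := hc.2 c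
    rw [SetLike.mem_coe, Sylow.coe_subtype, Subgroup.mem_subgroupOf] at hu
    exact ⟨⟨⟨a, Subgroup.mem_map_of_mem _ ha⟩, ⟨u, hu⟩⟩, Subtype.ext (congrArg Subtype.val e)⟩

theorem card_centralizer {v : G} (hv : v ∈ (P : Subgroup G)) (hv1 : v ≠ 1) :
    Nat.card (Subgroup.centralizer ({v} : Set G)) = Nat.card (K v) * Nat.card P := by
  rw [← Nat.card_eq_of_bijective _ (centralizer_bijective h hv hv1), Nat.card_prod]

theorem card_K_conj {v v' : G} (hv : v ∈ (P : Subgroup G)) (hv1 : v ≠ 1) (hv' : v' ∈ (P : Subgroup G))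
    (hc : IsConj v v') : Nat.card (K v') = Nat.card (K v) := by
  obtain ⟨a, rfl⟩ := isConj_iff.mp hc
  have h1 : a * v * a⁻¹ ≠ 1 := fun e => hv1 (conj_eq_one_iff.mp e)
  refine Nat.eq_of_mul_eq_mul_right (Nat.card_pos (α := P)) ?_
  rw [← card_centralizer h hv' h1, ← card_centralizer h hv hv1, card_centralizer_conj]

variable {M : Ideal AlgInt} (hM : IsPModular 2 M)
include hM

/-- A character of the principal block sees only the 2-part. -/
theorem value_section {χ : IrrCharacter G} (hχ : χ ∈ principalBlock M G) {v g w : G}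
    (hv : v ∈ (P : Subgroup G)) (hv1 : v ≠ 1) (hw : IsPPart 2 g w) (hvw : IsConj v w) :
    (χ : G → ℂ) g = (χ : G → ℂ) v := by
  haveI := Fact.mk Nat.prime_two
  obtain ⟨z, hz, hzg⟩ := exists_section hw hvw
  rw [← classFun_isConj (isClassFunction_irr χ) hzg]
  exact h.value_eq hM hχ hz hv hv1

theorem col_self [Fintype (IrrCharacter G)] [DecidablePred (· ∈ principalBlock M G)] {v : G}
    (hv : v ∈ (P : Subgroup G)) (hv1 : v ≠ 1) :
    ∑ χ ∈ Finset.univ.filter (· ∈ principalBlock M G), (χ : G → ℂ) v * conj ((χ : G → ℂ) v) =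
      (Nat.card P : ℂ) := by
  classical
  haveI := Fact.mk Nat.prime_two
  haveI := hM.2.1
  set C := Subgroup.centralizer ({v} : Set G)
  have := Fintype.ofFinite C
  have := Fintype.ofFinite (IrrCharacter C)
  have e := sum_principal_secFun (G := G) hM (h.orderOf_mem hv)
    (fun t => Subgroup.mem_centralizer_singleton_iff) (y := (1 : C)) (z := 1) (by simp) (by simp)
  simp only [OneMemClass.coe_one, mul_one, finsum_mem_eq_toFinset_sum] at e
  rw [Finset.sum_congr (s₂ := (principalBlock M G).toFinset) (by ext; simp) (fun _ _ => rfl), e,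
    ← h.sum_sq_centralizer hM hv hv1, finsum_mem_eq_toFinset_sum, Nat.cast_sum]
  refine Finset.sum_congr rfl fun η _ => ?_
  rw [conj_irr_one, Nat.cast_pow, ← (charDegree_eq η).1, sq]

theorem col_ne [Fintype (IrrCharacter G)] [DecidablePred (· ∈ principalBlock M G)] {u v : G}
    (hu : u ∈ (P : Subgroup G)) (hv : v ∈ (P : Subgroup G)) (hne : ¬ IsConj u v) :
    ∑ χ ∈ Finset.univ.filter (· ∈ principalBlock M G), (χ : G → ℂ) u * conj ((χ : G → ℂ) v) = 0 := by
  classical
  haveI := Fact.mk Nat.prime_two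
  haveI := hM.2.1
  have hp : ∀ w ∈ (P : Subgroup G), IsPPart 2 w w := fun w hw =>
    isPPart_one_mul (h.orderOf_mem hw) (by norm_num)
  have e := blockUnion_orthogonal hM (.of_isPBlock (isPBlock_principalBlock (M := M) (G := G)))
    (hp u hu) (hp v hv) hne
  rw [finsum_mem_eq_toFinset_sum] at e
  rw [← e]
  exact Finset.sum_congr (by ext; simp) fun χ _ => by rw [irr_inv]

theorem sum_isConj_section [Fintype (IrrCharacter G)] {v : G} (hv : v ∈ (P : Subgroup G)) (hv1 : v ≠ 1)
    [DecidablePred (· ∈ K v)] :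
    ∑ χ : IrrCharacter G, (∑ x ∈ Finset.univ.filter (· ∈ K v), (χ : G → ℂ) (v * x)) *
        conj (∑ x ∈ Finset.univ.filter (· ∈ K v), (χ : G → ℂ) (v * x)) =
      (Nat.card (K v) : ℂ) ^ 2 * (Nat.card P : ℂ) := by
  classical
  set S := Finset.univ.filter (· ∈ K v) with hS
  set C := Subgroup.centralizer ({v} : Set G) with hC
  have hScard : S.card = Nat.card (K v) := by
    rw [hS, ← Fintype.card_subtype, Nat.card_eq_fintype_card]
  simp only [map_sum, Finset.sum_mul_sum]
  rw [Finset.sum_comm]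
  refine (Finset.sum_congr rfl fun x hx => ?_).trans (b := ∑ x ∈ S, (Nat.card C : ℂ)) ?_
  swap
  · rw [Finset.sum_const, nsmul_eq_mul, hScard, card_centralizer h hv hv1]; push_cast; ring
  rw [Finset.sum_comm, Finset.sum_congr rfl fun x' _ => sum_irr_mul_conj (v * x) (v * x'),
    Finset.sum_ite, Finset.sum_const_zero, add_zero, Finset.sum_const, nsmul_eq_mul, ← Nat.cast_mul]
  congr 1
  have hxK : x ∈ K v := (Finset.mem_filter.mp hx).2
  let xC : C := ⟨x, K_le v hxK⟩
  have hfix : ∀ (g : G) {x' : G}, x' ∈ K v → g * (v * x) * g⁻¹ = v * x' → g ∈ C := by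
    intro g x' hx' e
    have h1 := CfsgLib.Block.isPPart_conj (isPPart_mul h hv hv1 hxK) g
    rw [e] at h1
    exact Subgroup.mem_centralizer_singleton_iff.mpr
      (mul_inv_eq_iff_eq_mul.mp (isPPart_unique Nat.prime_two h1 (isPPart_mul h hv hv1 hx')))
  have hcomm : ∀ g : C, (g : G) * v = v * (g : G) := fun g => Subgroup.mem_centralizer_singleton_iff.mp g.2
  have hexp : ∀ g : C, (g : G) * (v * x) * (g : G)⁻¹ = v * ((g : G) * x * (g : G)⁻¹) := fun g => by
    rw [← mul_assoc, hcomm g]; group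
  have hclass : (S.filter fun x' => IsConj (v * x) (v * x')).card = Nat.card {y : C // IsConj xC y} := by
    rw [← Fintype.card_coe, ← Nat.card_eq_fintype_card]
    refine Nat.card_congr
      { toFun := fun y => ⟨⟨y.1, K_le v (Finset.mem_filter.mp (Finset.mem_filter.mp y.2).1).2⟩, ?_⟩
        invFun := fun y => ⟨(y.1 : G), ?_⟩
        left_inv := fun y => rfl
        right_inv := fun y => rfl }
    · obtain ⟨g, hg⟩ := isConj_iff.mp (Finset.mem_filter.mp y.2).2
      have hgC := hfix g (Finset.mem_filter.mp (Finset.mem_filter.mp y.2).1).2 hg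
      refine isConj_iff.mpr ⟨⟨g, hgC⟩, Subtype.ext (mul_left_cancel (a := v) ?_)⟩
      exact (hexp ⟨g, hgC⟩).symm.trans hg
    · obtain ⟨g, hg⟩ := isConj_iff.mp y.2
      have e : (g : G) * x * (g : G)⁻¹ = (y.1 : G) := congrArg Subtype.val hg
      refine Finset.mem_filter.mpr ⟨Finset.mem_filter.mpr ⟨Finset.mem_univ _, ?_⟩,
        isConj_iff.mpr ⟨(g : G), by rw [hexp, e]⟩⟩
      rw [← e]; exact K_conj_mem h hv hv1 g.2 hxK
  have hcen : Nat.card (Subgroup.centralizer ({v * x} : Set G)) =
      Nat.card (Subgroup.centralizer ({xC} : Set C)) := by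
    refine Nat.card_congr
      { toFun := fun g => ⟨⟨g, hfix g hxK (mul_inv_eq_iff_eq_mul.mpr
          (Subgroup.mem_centralizer_singleton_iff.mp g.2))⟩, ?_⟩
        invFun := fun g => ⟨((g : C) : G), ?_⟩
        left_inv := fun g => rfl
        right_inv := fun g => rfl }
    · refine Subgroup.mem_centralizer_singleton_iff.mpr (Subtype.ext ?_)
      have e : (g : G) * (v * x) * (g : G)⁻¹ = v * x :=
        mul_inv_eq_iff_eq_mul.mpr (Subgroup.mem_centralizer_singleton_iff.mp g.2)
      have hgC := hfix g hxK e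
      have e2 : (g : G) * x * (g : G)⁻¹ = x :=
        mul_left_cancel (a := v) ((hexp ⟨g, hgC⟩).symm.trans e)
      exact mul_inv_eq_iff_eq_mul.mp e2
    · have e : ((g : C) : G) * x = x * ((g : C) : G) :=
        congrArg Subtype.val (Subgroup.mem_centralizer_singleton_iff.mp g.2)
      refine Subgroup.mem_centralizer_singleton_iff.mpr (mul_inv_eq_iff_eq_mul.mp ?_)
      rw [hexp, e, mul_inv_cancel_right]
  rw [hclass, hcen, card_isConj, Subgroup.index_mul_card]

/-- Outside the principal block the sums over a section vanish. -/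
theorem secSum_eq_zero [Fintype (IrrCharacter G)] {v : G} (hv : v ∈ (P : Subgroup G)) (hv1 : v ≠ 1)
    [DecidablePred (· ∈ K v)] {χ : IrrCharacter G} (hχ : χ ∉ principalBlock M G) :
    ∑ x ∈ Finset.univ.filter (· ∈ K v), (χ : G → ℂ) (v * x) = 0 := by
  classical
  set c : IrrCharacter G → ℂ := fun θ => ∑ x ∈ Finset.univ.filter (· ∈ K v), (θ : G → ℂ) (v * x) with hc
  have h1 := sum_isConj_section h hM hv hv1
  rw [← Finset.sum_filter_add_sum_filter_not Finset.univ (· ∈ principalBlock M G),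
    Finset.sum_congr rfl (g := fun θ : IrrCharacter G =>
      (Nat.card (K v) : ℂ) ^ 2 * ((θ : G → ℂ) v * conj ((θ : G → ℂ) v))) fun θ hθ => ?_,
    ← Finset.mul_sum, col_self h hM hv hv1, add_eq_left] at h1
  swap
  · rw [Finset.sum_congr rfl fun x hx => value_section h hM (Finset.mem_filter.mp hθ).2 hv hv1
        (isPPart_mul h hv hv1 (Finset.mem_filter.mp hx).2) (IsConj.refl v),
      Finset.sum_const, ← Fintype.card_subtype, ← Nat.card_eq_fintype_card, nsmul_eq_mul, map_mul,
      map_natCast]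
    ring
  have h2 : ∑ θ ∈ Finset.univ.filter (fun θ => ¬ θ ∈ principalBlock M G), Complex.normSq (c θ) = 0 := by
    have h3 := h1
    simp only [Complex.mul_conj] at h3
    exact_mod_cast h3
  have h4 := (Finset.sum_eq_zero_iff_of_nonneg fun θ _ => Complex.normSq_nonneg _).mp h2 χ
    (Finset.mem_filter.mpr ⟨Finset.mem_univ _, hχ⟩)
  exact Complex.normSq_eq_zero.mp h4

end CfsgLib.Block.FreeElementary
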