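import Cfsg.Agent.Lib.Block.FreeElementary.Automizer
import Cfsg.Agent.Lib.Block.FreeElementary.Elementary
import Cfsg.Agent.Lib.Block.KleinFour
import Cfsg.Agent.Lib.Block.HomocyclicTwo
import Cfsg.Agent.Lib.Char.InertiaNine.Main

/-!
# Abelian Sylow 2-subgroups without fixed elements
-/

set_option autoImplicit false
set_option linter.unusedSectionVars false

namespace CfsgLib.Block.FreeElementary

open Cfsg CfsgLib.Block CfsgLib.Block.AbelianFree
open scoped IsMulCommutative

universe u

variable {G : Type u} [Group G] [Fintype G] {P : Sylow 2 G} [IsMulCommutative (P : Subgroup G)]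

open scoped Classical in
/-- `k(B₀)` when no nontrivial element of `P` is fixed by the normalizer. -/
theorem card_noFixed (hO : ∀ N : Subgroup G, N.Normal → Odd (Nat.card N) → N = ⊥)
    (hF : fixedPart P = ⊥) {x : G} (hx : x ∈ (P : Subgroup G)) (hx2 : orderOf x = 2)
    (hC : Cfsg.HasNormalPComplement 2 ↥(Subgroup.centralizer ({x} : Set G)))
    {M : Ideal AlgInt} (hM : IsPModular 2 M) :
    Nat.card P ≠ 2 ∧ (Nat.card P = 4 → Nat.card (principalBlock M G) = 4) ∧
      (Nat.card P = 8 → Nat.card (principalBlock M G) = 8) ∧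
      (Nat.card P = 16 → Nat.card (principalBlock M G) = 8 ∨ Nat.card (principalBlock M G) = 16) := by
  haveI := Fact.mk Nat.prime_two
  haveI := hM.2.1
  have hx1 : x ≠ 1 := fun e => by rw [e, orderOf_one] at hx2; omega
  obtain ⟨r, hr, hrq, hr4, hel⟩ := card_invol_cases (P := P)
  set e := Nat.card (auto P) with hedef
  set I := Nat.card {u : (P : Subgroup G) // u ≠ 1 ∧ u ^ 2 = 1}
  have hle : e ≤ I := card_auto_le hx hx2 hC
  have hodd : Odd e := odd_auto
  have hne1 : e ≠ 1 := auto_ne_one hF hx hx1
  have he3 : 3 ≤ e := by obtain ⟨k, hk⟩ := hodd; omega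
  have hq : 2 ^ r ≤ Nat.card P := Nat.le_of_dvd Nat.card_pos hrq
  have hrel : (cen P).relIndex (nor P) = e := relIndex_eq_card
  have hfreep : e.Prime → Free P ∧ e ∣ Nat.card P - 1 ∧ e ∣ I := fun hp =>
    ⟨free_of_stabilizer (stabilizer_of_prime hF hp), card_dvd_sub_one (stabilizer_of_prime hF hp),
      card_dvd_invol (stabilizer_of_prime hF hp)⟩
  have hr4' : r ≤ 4 ∨ 16 < Nat.card P := by
    by_contra hc
    push Not at hc
    have := Nat.pow_le_pow_right (show 1 ≤ 2 by norm_num) (show 5 ≤ r by omega)
    omega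
  refine ⟨fun h2 => by omega, fun h4 => ?_, fun h8 => ?_, fun h16 => ?_⟩
  · have hIe : I = 3 ∧ e = 3 := by
      rcases hr4' with h | h
      · interval_cases r <;> omega
      · omega
    have hexp : ∀ v ∈ (P : Subgroup G), v * v = 1 := hel (by omega)
    have hone : ∀ a b : G, orderOf a = 2 → orderOf b = 2 → IsConj a b := by
      have key : ∀ a : G, orderOf a = 2 → IsConj x a := by
        intro a ha
        obtain ⟨S, hS⟩ := (IsPGroup.of_card (n := 1) (by rw [Nat.card_zpowers, ha, pow_one]) :
          IsPGroup 2 (Subgroup.zpowers a)).exists_le_sylow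
        obtain ⟨k, rfl⟩ := MulAction.exists_smul_eq G P S
        obtain ⟨u, hu, eu⟩ := hS (Subgroup.mem_zpowers a)
        have e' : k * u * k⁻¹ = a := eu
        have hu1 : (⟨u, hu⟩ : (P : Subgroup G)) ≠ 1 := fun h => by
          rw [← e', show u = 1 from congrArg Subtype.val h, mul_one, mul_inv_cancel, orderOf_one] at ha
          omega
        obtain ⟨⟨_, ⟨n, hn⟩, rfl⟩, ha'⟩ := (stabilizer_of_transitive hx hx1 hC (by omega) ⟨u, hu⟩ hu1).2
        have e2 : n * x * n⁻¹ = u := congrArg Subtype.val ha'
        exact (isConj_iff.mpr ⟨n, e2⟩).trans (isConj_iff.mpr ⟨k, e'⟩)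
      exact fun a b ha hb => (key a ha).symm.trans (key b hb)
    haveI := Fintype.ofFinite (IrrCharacter G)
    obtain ⟨u, -, s, hs⟩ := exists_kleinData hM P h4 hexp hone
    exact hs.card
  · have hIe : I = 7 ∧ e = 7 := by
      rcases hr4' with h | h
      · interval_cases r <;> try omega
        all_goals
          obtain ⟨k, hk⟩ := hodd
          have : k ≤ 3 := by omega
          interval_cases k <;> first | omega | (
            obtain ⟨-, hd, hdI⟩ := hfreep (by rw [hk]; norm_num)
            rw [hk, h8] at hd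
            norm_num at hd)
      · omega
    have hP : Hyp P := ⟨(hfreep (by rw [hIe.2]; norm_num)).1, hel (by omega), by omega⟩
    rcases card_elementary hP hO hM (Or.inl ⟨hrel.trans hIe.2, h8⟩) with h | h
    · exact h
    · omega
  · have hcase : (e = 3 ∧ I = 3) ∨ (I = 15 ∧ (e = 3 ∨ e = 5 ∨ e = 9 ∨ e = 15)) := by
      obtain ⟨k, hk⟩ := hodd
      have hk7 : k ≤ 7 := by omega
      have hI : I = 0 ∨ I = 1 ∨ I = 3 ∨ I = 7 ∨ I = 15 := by
        rcases hr4' with h | h
        · interval_cases r <;> omega
        · omega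
      interval_cases k <;> first | omega | (
        obtain ⟨-, hd, hdI⟩ := hfreep (by rw [hk]; norm_num)
        rw [hk, h16] at hd
        rw [hk] at hdI
        first | omega | (rcases hI with h | h | h | h | h <;> rw [h] at hdI <;> omega))
    rcases hcase with ⟨he, hI⟩ | ⟨hI, hecases⟩
    · obtain ⟨hn, hc, hidx⟩ := HomocyclicTwo.normal_of_fourTorsion G P
        (fun a ha b hb => congrArg Subtype.val (mul_comm (⟨a, ha⟩ : (P : Subgroup G)) ⟨b, hb⟩))
        (by rw [hr4]; omega) (by omega) hO
      haveI := hn
      have h3 : (P : Subgroup G).index = 3 := (relIndex_eq_index hc).symm.trans (hrel.trans he)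
      have hfree : Free P := (hfreep (by rw [he]; norm_num)).1
      have hk := card_of_normal hfree hc (Or.inl h3) hM
      rw [h3, h16] at hk
      omega
    · have hexp := hel (by omega)
      rcases hecases with he | he | he | he
      · rcases card_elementary ⟨(hfreep (by rw [he]; norm_num)).1, hexp, by omega⟩ hO hM
          (Or.inr (Or.inl ⟨hrel.trans he, h16⟩)) with h | h <;> omega
      · rcases card_elementary ⟨(hfreep (by rw [he]; norm_num)).1, hexp, by omega⟩ hO hM
          (Or.inr (Or.inr (Or.inl ⟨hrel.trans he, h16⟩))) with h | h <;> omega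
      · haveI := Fintype.ofFinite (IrrCharacter G)
        exact Or.inr (CfsgLib.Char.InertiaNine.card_and_rank hM P h16
          (fun v => Subtype.ext (by rw [SubmonoidClass.coe_pow, pow_two, hexp v v.2]; rfl))
          (hrel.trans he)).1
      · have hfree : Free P := free_of_stabilizer fun u hu =>
          (stabilizer_of_transitive hx hx1 hC (by omega) u hu).1
        rcases card_elementary ⟨hfree, hexp, by omega⟩ hO hM
          (Or.inr (Or.inr (Or.inr ⟨hrel.trans he, h16⟩))) with h | h <;> omega

end CfsgLib.Block.FreeElementary
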