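import Cfsg.Agent.Lib.Block.FreeElementary.Sections
import Cfsg.Agent.Lib.Block.FreeElementary.FourOrder
import Cfsg.Agent.S0205
import Cfsg.Agent.S0217
import Mathlib.GroupTheory.GroupAction.Quotient

/-!
# The completion of the odd parts of the centralizers

For an elementary abelian Sylow 2-subgroup `P` of order at least eight with free automizer, the odd parts
`K v` form a balanced signalizer functor; `W` is its completion and `H = W N(P)` contains every
centralizer of a nontrivial element of `P`, so `P` acts semiregularly on the other cosets of `H`.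
-/

set_option autoImplicit false
set_option linter.unusedSectionVars false

namespace CfsgLib.Block.FreeElementary

open Cfsg CfsgLib.Block.AbelianFree

universe u

open scoped Classical

variable {G : Type u} [Group G] [Fintype G] {P : Sylow 2 G}

/-- An elementary abelian Sylow 2-subgroup of order at least eight with free automizer. -/
structure Hyp (P : Sylow 2 G) : Prop where
  free : Free P
  elem : ∀ v ∈ (P : Subgroup G), v * v = 1
  card : 8 ≤ Nat.card P

/-- The completion of the signalizer functor. -/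
def W (P : Sylow 2 G) : Subgroup G := ⨆ a : {a : G // a ∈ (P : Subgroup G) ∧ a ≠ 1}, K (a : G)

/-- The product of the completion and the normalizer. -/
def H (P : Sylow 2 G) : Subgroup G := W P ⊔ nor P

theorem K_le_W {v : G} (hv : v ∈ (P : Subgroup G)) (hv1 : v ≠ 1) : K v ≤ W P :=
  le_iSup (fun b : {a : G // a ∈ (P : Subgroup G) ∧ a ≠ 1} => K (b : G)) ⟨v, hv, hv1⟩

theorem le_nor : (P : Subgroup G) ≤ nor P := Subgroup.le_normalizer

theorem nor_le_H : nor P ≤ H P := le_sup_right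

theorem W_le_H : W P ≤ H P := le_sup_left

theorem conj_mem_P {n v : G} (hn : n ∈ nor P) (hv : v ∈ (P : Subgroup G)) :
    n * v * n⁻¹ ∈ (P : Subgroup G) := (Subgroup.mem_normalizer_iff.mp hn v).mp hv

variable (hP : Hyp P)
include hP

theorem signalizer :
    Odd (Nat.card (W P)) ∧ ∀ v ∈ (P : Subgroup G), v ≠ 1 →
      W P ⊓ Subgroup.centralizer ({v} : Set G) = K v := by
  haveI := Fact.mk Nat.prime_two
  have hodd : ∀ a ∈ (P : Subgroup G), a ≠ 1 → ¬ 2 ∣ Nat.card (K a) := fun a ha ha1 h2 =>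
    Nat.not_even_iff_odd.mpr (odd_K hP.free ha ha1) (even_iff_two_dvd.mpr h2)
  obtain ⟨h1, h2⟩ := Cfsg.Agent.S0217.result (p := 2) (P : Subgroup G)
    (fun a ha b hb => (hP.free.commute ha hb).eq) (fun a ha => by rw [pow_two, hP.elem a ha])
    (by simpa using hP.card) K (fun a _ _ => K_le a) hodd
    (fun a ha ha1 b hb x hx => K_conj_mem hP.free ha ha1 (hP.free.le_centralizer ha hb) hx)
    (fun a ha ha1 => Cfsg.Agent.S0205.result (odd_K hP.free ha ha1))
    (fun a ha ha1 b hb hb1 x hx => (mem_K hP.free hb hb1).mpr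
      ⟨(Subgroup.mem_centralizer_singleton_iff.mp hx.2).symm, ((mem_K hP.free ha ha1).mp hx.1).2⟩)
  refine ⟨?_, h2⟩
  rw [← Nat.not_even_iff_odd, even_iff_two_dvd]
  exact h1

theorem odd_W : Odd (Nat.card (W P)) := (signalizer hP).1

theorem W_inf {v : G} (hv : v ∈ (P : Subgroup G)) (hv1 : v ≠ 1) :
    W P ⊓ Subgroup.centralizer ({v} : Set G) = K v := (signalizer hP).2 v hv hv1

theorem nor_le_normalizer : nor P ≤ Subgroup.normalizer (W P : Set G) := by
  have key : ∀ n ∈ nor P, ∀ x ∈ W P, n * x * n⁻¹ ∈ W P := by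
    intro n hn
    have hle : W P ≤ (W P).comap (MulAut.conj n).toMonoidHom := by
      refine iSup_le fun a => fun x hx => ?_
      rw [Subgroup.mem_comap]
      show n * x * n⁻¹ ∈ W P
      have hna : n * (a : G) * n⁻¹ ≠ 1 := fun e => a.2.2 (conj_eq_one_iff.mp e)
      refine K_le_W (conj_mem_P hn a.2.1) hna ?_
      have h1 := (mem_K hP.free a.2.1 a.2.2).mp hx
      refine (mem_K hP.free (conj_mem_P hn a.2.1) hna).mpr ⟨?_, by rw [orderOf_conj_eq]; exact h1.2⟩
      show _ = _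
      calc n * (a : G) * n⁻¹ * (n * x * n⁻¹) = n * ((a : G) * x) * n⁻¹ := by group
        _ = n * (x * (a : G)) * n⁻¹ := by rw [h1.1.eq]
        _ = n * x * n⁻¹ * (n * (a : G) * n⁻¹) := by group
    exact fun x hx => hle hx
  intro n hn
  refine Subgroup.mem_normalizer_iff.mpr fun x => ⟨key n hn x, fun hx => ?_⟩
  have := key n⁻¹ (inv_mem hn) _ hx
  simpa [mul_assoc] using this

theorem mem_H {x : G} : x ∈ H P ↔ ∃ w ∈ W P, ∃ n ∈ nor P, w * n = x := by
  rw [H, ← SetLike.mem_coe, Subgroup.coe_mul_of_right_le_normalizer_left _ _ (nor_le_normalizer hP)]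
  exact Set.mem_mul

theorem centralizer_le_H {v : G} (hv : v ∈ (P : Subgroup G)) (hv1 : v ≠ 1) :
    Subgroup.centralizer ({v} : Set G) ≤ H P := fun c hc => by
  obtain ⟨⟨a, u⟩, e⟩ := (centralizer_bijective hP.free hv hv1).2 ⟨c, hc⟩
  rw [show c = (a : G) * u from (congrArg Subtype.val e).symm]
  exact mul_mem (W_le_H (K_le_W hv hv1 a.2)) (nor_le_H (le_nor u.2))

theorem exists_ne_one : ∃ v ∈ (P : Subgroup G), v ≠ 1 := by
  by_contra hne
  push Not at hne
  have : Nat.card P = 1 := Subgroup.eq_bot_iff_card _ |>.mp ((Subgroup.eq_bot_iff_forall _).mpr hne)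
  have := hP.card
  omega

theorem inf_nor_eq : W P ⊓ nor P = W P ⊓ cen P := by
  refine le_antisymm (fun x hx => ⟨hx.1, Subgroup.mem_centralizer_iff.mpr fun u hu => ?_⟩)
    (inf_le_inf_left _ cen_le_nor)
  haveI := Fact.mk Nat.prime_two
  have h1 : x * u * x⁻¹ * u⁻¹ ∈ (P : Subgroup G) := mul_mem (conj_mem_P hx.2 hu) (inv_mem hu)
  have h2 : x * u * x⁻¹ * u⁻¹ ∈ W P := by
    have := (Subgroup.mem_normalizer_iff.mp (nor_le_normalizer hP (le_nor hu)) x⁻¹).mp (inv_mem hx.1)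
    rw [show x * u * x⁻¹ * u⁻¹ = x * (u * x⁻¹ * u⁻¹) by group]
    exact mul_mem hx.1 this
  obtain ⟨k, hk⟩ := hP.free.orderOf_mem h1
  have hk0 : k = 0 := by
    by_contra hk0
    refine Nat.not_even_iff_odd.mpr (odd_W hP) (even_iff_two_dvd.mpr ?_)
    exact ((dvd_pow_self 2 hk0).trans (dvd_of_eq hk.symm)).trans (Subgroup.orderOf_dvd_natCard _ h2)
  rw [hk0, pow_zero, orderOf_eq_one_iff, mul_inv_eq_one, mul_inv_eq_iff_eq_mul] at hk
  exact hk.symm

theorem card_cen : Nat.card (cen P) = Nat.card ↥(W P ⊓ cen P) * Nat.card P := by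
  obtain ⟨v, hv, hv1⟩ := exists_ne_one hP
  rw [← Nat.card_prod]
  refine (Nat.card_eq_of_bijective (fun q : ↥(W P ⊓ cen P) × (P : Subgroup G) =>
    (⟨(q.1 : G) * q.2, mul_mem q.1.2.2 (hP.free.le_cen q.2.2)⟩ : cen P)) ⟨?_, ?_⟩).symm
  · rintro ⟨a, u⟩ ⟨a', u'⟩ e
    have hK : ∀ b : ↥(W P ⊓ cen P), (b : G) ∈ K v := fun b => by
      rw [← W_inf hP hv hv1]
      exact ⟨b.2.1, Subgroup.mem_centralizer_singleton_iff.mpr
        (Subgroup.mem_centralizer_iff.mp b.2.2 v hv).symm⟩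
    have h0 : (a : G) * u = a' * u' := congrArg Subtype.val e
    have h1 := (centralizer_bijective hP.free hv hv1).1 (a₁ := (⟨a, hK a⟩, u)) (a₂ := (⟨a', hK a'⟩, u'))
      (Subtype.ext h0)
    simp only [Prod.mk.injEq, Subtype.mk.injEq] at h1
    exact Prod.ext (Subtype.ext h1.1) h1.2
  · intro c
    have hcv : (c : G) ∈ Subgroup.centralizer ({v} : Set G) :=
      Subgroup.mem_centralizer_singleton_iff.mpr (Subgroup.mem_centralizer_iff.mp c.2 v hv).symm
    obtain ⟨⟨a, u⟩, e⟩ := (centralizer_bijective hP.free hv hv1).2 ⟨c, hcv⟩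
    have e' : (a : G) * u = c := congrArg Subtype.val e
    have ha : (a : G) ∈ cen P := by
      rw [eq_mul_inv_of_mul_eq e']
      exact mul_mem c.2 (inv_mem (hP.free.le_cen u.2))
    exact ⟨⟨⟨a, K_le_W hv hv1 a.2, ha⟩, u⟩, Subtype.ext e'⟩

theorem card_H : Nat.card (H P) = Nat.card (W P) * Nat.card P * (cen P).relIndex (nor P) := by
  have hmap : ∀ x : H P, ∃ q : W P × nor P, (q.1 : G) * q.2 = x := fun x => by
    obtain ⟨w, hw, n, hn, e⟩ := (mem_H hP).mp x.2
    exact ⟨⟨⟨w, hw⟩, ⟨n, hn⟩⟩, e⟩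
  choose s hs using hmap
  have hbij : Nat.card ↥(W P ⊓ nor P) * Nat.card (H P) = Nat.card (W P) * Nat.card (nor P) := by
    rw [← Nat.card_prod, ← Nat.card_prod]
    refine Nat.card_eq_of_bijective (fun q : ↥(W P ⊓ nor P) × H P =>
      ((⟨((s q.2).1 : G) * q.1, mul_mem (s q.2).1.2 q.1.2.1⟩ : W P),
        (⟨(q.1 : G)⁻¹ * (s q.2).2, mul_mem (inv_mem q.1.2.2) (s q.2).2.2⟩ : nor P))) ⟨?_, ?_⟩
    · rintro ⟨d, x⟩ ⟨d', x'⟩ e
      simp only [Prod.mk.injEq, Subtype.mk.injEq] at e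
      have hx : x = x' := Subtype.ext (by
        rw [← hs x, ← hs x']
        calc ((s x).1 : G) * (s x).2 = ((s x).1 : G) * d * ((d : G)⁻¹ * (s x).2) := by group
          _ = ((s x').1 : G) * d' * ((d' : G)⁻¹ * (s x').2) := by rw [e.1, e.2]
          _ = _ := by group)
      subst hx
      exact Prod.ext (Subtype.ext (mul_left_cancel e.1)) rfl
    · rintro ⟨w, n⟩
      set x : H P := ⟨(w : G) * n, mul_mem (W_le_H w.2) (nor_le_H n.2)⟩ with hx
      have e : ((s x).1 : G) * (s x).2 = w * n := hs x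
      have hd : ((s x).1 : G)⁻¹ * w = (s x).2 * (n : G)⁻¹ := by
        rw [eq_mul_inv_iff_mul_eq, mul_assoc, ← e]; group
      refine ⟨⟨⟨((s x).1 : G)⁻¹ * w, (W P).mul_mem ((W P).inv_mem (s x).1.2) w.2,
        hd ▸ (nor P).mul_mem (s x).2.2 ((nor P).inv_mem n.2)⟩, x⟩, Prod.ext (Subtype.ext ?_) (Subtype.ext ?_)⟩
      · show ((s x).1 : G) * (((s x).1 : G)⁻¹ * w) = w
        group
      · show (((s x).1 : G)⁻¹ * w)⁻¹ * (s x).2 = n
        rw [hd]; group
  rw [inf_nor_eq hP] at hbij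
  have hN : Nat.card (nor P) = (cen P).relIndex (nor P) * Nat.card (cen P) := by
    rw [← Nat.card_congr (Subgroup.subgroupOfEquivOfLe (cen_le_nor (P := P))).toEquiv, Subgroup.relIndex,
      Subgroup.index_mul_card]
  rw [hN, card_cen hP] at hbij
  exact Nat.eq_of_mul_eq_mul_left (Nat.card_pos (α := ↥(W P ⊓ cen P))) (hbij.trans (by ring))

/-- A nontrivial element of `P` fixes only the coset `H`. -/
theorem mem_H_of_conj {v g : G} (hv : v ∈ (P : Subgroup G)) (hv1 : v ≠ 1) (hg : g⁻¹ * v * g ∈ H P) :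
    g ∈ H P := by
  haveI := Fact.mk Nat.prime_two
  have hPH : (P : Subgroup G) ≤ H P := le_nor.trans nor_le_H
  set y : H P := ⟨g⁻¹ * v * g, hg⟩ with hy
  have hy2 : y * y = 1 := Subtype.ext (by
    show g⁻¹ * v * g * (g⁻¹ * v * g) = 1
    calc g⁻¹ * v * g * (g⁻¹ * v * g) = g⁻¹ * (v * v) * g := by group
      _ = 1 := by rw [hP.elem v hv]; group)
  have hpg : IsPGroup 2 (Subgroup.zpowers y) := by
    obtain ⟨k, -, hk⟩ := (Nat.dvd_prime_pow Nat.prime_two).mp
      (orderOf_dvd_of_pow_eq_one (show y ^ 2 ^ 1 = 1 by rw [pow_one, pow_two, hy2]))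
    exact IsPGroup.of_card (n := k) (by rw [Nat.card_zpowers, hk])
  obtain ⟨Q, hQ⟩ := hpg.exists_le_sylow
  obtain ⟨c, rfl⟩ := MulAction.exists_smul_eq (H P) (P.subtype hPH) Q
  obtain ⟨u, hu, hue⟩ := hQ (Subgroup.mem_zpowers y)
  have hu' : (u : G) ∈ (P : Subgroup G) := by
    rwa [SetLike.mem_coe, Sylow.coe_subtype, Subgroup.mem_subgroupOf] at hu
  have he : (c : G) * u * (c : G)⁻¹ = g⁻¹ * v * g := congrArg Subtype.val hue
  have hu2 : (u : G) = ((c : G)⁻¹ * g⁻¹) * v * ((c : G)⁻¹ * g⁻¹)⁻¹ := by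
    calc (u : G) = (c : G)⁻¹ * ((c : G) * u * (c : G)⁻¹) * c := by group
      _ = _ := by rw [he]; group
  obtain ⟨n, hn, e⟩ := hP.free.fusion hv (g := (c : G)⁻¹ * g⁻¹) (hu2 ▸ hu')
  have hm : n⁻¹ * ((c : G)⁻¹ * g⁻¹) ∈ Subgroup.centralizer ({v} : Set G) := by
    refine Subgroup.mem_centralizer_singleton_iff.mpr (mul_inv_eq_iff_eq_mul.mp ?_)
    calc n⁻¹ * ((c : G)⁻¹ * g⁻¹) * v * (n⁻¹ * ((c : G)⁻¹ * g⁻¹))⁻¹
        = n⁻¹ * (((c : G)⁻¹ * g⁻¹) * v * ((c : G)⁻¹ * g⁻¹)⁻¹) * n := by group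
      _ = v := by rw [← e]; group
  have h1 := inv_mem (mul_mem c.2 (mul_mem (nor_le_H hn) (centralizer_le_H hP hv hv1 hm)))
  rw [show (c : G) * (n * (n⁻¹ * ((c : G)⁻¹ * g⁻¹))) = g⁻¹ by group, inv_inv] at h1
  exact h1

/-- The index of `H` is one modulo the order of `P`. -/
theorem index_mod : ∃ m : ℕ, (H P).index = 1 + m * Nat.card P := by
  let X := {x : G ⧸ H P // x ≠ QuotientGroup.mk 1}
  have hfix : ∀ (u : (P : Subgroup G)) (x : G ⧸ H P), x ≠ QuotientGroup.mk 1 → (u : G) • x = x → u = 1 := by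
    intro u x hx e
    by_contra hu
    obtain ⟨g, rfl⟩ := QuotientGroup.mk_surjective x
    refine hx (QuotientGroup.eq.mpr ?_)
    rw [mul_one]
    refine inv_mem (mem_H_of_conj hP u.2 (fun e' => hu (Subtype.ext e')) ?_)
    have e1 : (QuotientGroup.mk g : G ⧸ H P) = QuotientGroup.mk ((u : G) * g) := e.symm
    rw [mul_assoc]
    exact QuotientGroup.eq.mp e1
  have hPH : (P : Subgroup G) ≤ H P := le_nor.trans nor_le_H
  letI : MulAction (P : Subgroup G) X :=
    { smul := fun u x => ⟨(u : G) • x.1, fun e => x.2 (by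
        rw [← inv_smul_smul (u : G) x.1, e]
        exact QuotientGroup.eq.mpr (by simpa using hPH u.2))⟩
      one_smul := fun x => Subtype.ext (one_smul G x.1)
      mul_smul := fun a b x => Subtype.ext (mul_smul (a : G) (b : G) x.1) }
  have hstab : ∀ x : X, MulAction.stabilizer (P : Subgroup G) x = ⊥ := fun x =>
    (Subgroup.eq_bot_iff_forall _).mpr fun u hu => hfix u x.1 x.2 (congrArg Subtype.val hu)
  refine ⟨Nat.card (Quotient (MulAction.orbitRel (P : Subgroup G) X)), ?_⟩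
  rw [← Nat.card_prod, ← Nat.card_congr (MulAction.selfEquivOrbitsQuotientProd hstab),
    Subgroup.index, ← Nat.card_congr (Equiv.optionSubtypeNe (QuotientGroup.mk 1 : G ⧸ H P)),
    Finite.card_option, add_comm]

end CfsgLib.Block.FreeElementary
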