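import Cfsg.Agent.Lib.Block.FreeElementary.Moments

/-!
# A free automizer which is not transitive forces a normal Sylow subgroup
-/

set_option autoImplicit false
set_option linter.unusedSectionVars false

namespace CfsgLib.Block.FreeElementary

open scoped ComplexConjugate
open Cfsg CfsgLib.Char CfsgLib.Block CfsgLib.Block.AbelianFree

universe u

open scoped Classical

variable {G : Type u} [Group G] [Fintype G] {P : Sylow 2 G} (hP : Hyp P)
include hP

theorem odd_card_nz : Odd (nz P).card := by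
  haveI := Fact.mk Nat.prime_two
  obtain ⟨k, hk⟩ := P.2.exists_card_eq
  have := card_nz (P := P)
  have := hP.card
  rw [Nat.odd_iff]
  have h2 : 2 ∣ Nat.card P := by
    rw [hk]
    exact dvd_pow_self 2 fun e => by rw [e] at hk; omega
  omega

/-- `H` has index one when the automizer is not transitive. -/
theorem index_eq_one {M : Ideal AlgInt} (hM : IsPModular 2 M)
    (he : (cen P).relIndex (nor P) < (nz P).card) : (H P).index = 1 := by
  haveI := Fintype.ofFinite (IrrCharacter G)
  haveI := hM.2.1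
  set B := Finset.univ.filter (fun χ : IrrCharacter G => χ ∈ principalBlock M G) with hB
  set e := (cen P).relIndex (nor P) with hedef
  set n := (H P).index with hndef
  set t := (nz P).card with htdef
  have h1B : oneChar G ∈ B := Finset.mem_filter.mpr ⟨Finset.mem_univ _, one_mem_principalBlock⟩
  have hq : (Nat.card P : ℝ) = t + 1 := by rw [← card_nz (P := P)]; push_cast; rfl
  have hterm : ∀ χ ∈ B, -((D P χ : ℝ) ^ 2) ≤ (D P χ : ℝ) ^ 3 / (charDegree (χ : G → ℂ) : ℝ) := by
    intro χ hχ
    obtain ⟨n₀, h1, h2, -, -⟩ := exists_fixed hP hM (Finset.mem_filter.mp hχ).2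
    have hd : 0 < (charDegree (χ : G → ℂ) : ℝ) := Nat.cast_pos.mpr (Nat.pos_of_ne_zero (charDegree_eq χ).2)
    have hge : (0 : ℝ) ≤ (charDegree (χ : G → ℂ) : ℝ) + D P χ := by
      have : (0 : ℤ) ≤ (charDegree (χ : G → ℂ) : ℤ) + D P χ := by omega
      exact_mod_cast this
    rw [le_div_iff₀ hd]
    nlinarith [sq_nonneg (D P χ : ℝ), mul_nonneg (sq_nonneg (D P χ : ℝ)) hge]
  have hsq : ∑ χ ∈ B, (D P χ : ℝ) ^ 2 = ((t : ℝ) + 1) * t * e := by
    rw [← hq]
    exact_mod_cast sum_D_sq hP hM
  have hS : (t : ℝ) ^ 3 - (((t : ℝ) + 1) * t * e - (t : ℝ) ^ 2) ≤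
      ∑ χ ∈ B, (D P χ : ℝ) ^ 3 / (charDegree (χ : G → ℂ) : ℝ) := by
    have h0 : (D P (oneChar G) : ℝ) = t := by
      rw [D_one, Int.cast_sub, Int.cast_natCast, hq]; push_cast; ring
    have h1 : (charDegree ((oneChar G : IrrCharacter G) : G → ℂ) : ℝ) = 1 := by simp [charDegree, oneChar]
    rw [← Finset.add_sum_erase _ _ h1B] at hsq ⊢
    rw [h0] at hsq ⊢
    rw [h1, div_one]
    have := Finset.sum_le_sum (s := B.erase (oneChar G)) fun χ hχ => hterm χ (Finset.mem_erase.mp hχ).2
    rw [Finset.sum_neg_distrib] at this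
    linarith
  have hcube := sum_D_cube hP hM
  rw [hq] at hcube
  obtain ⟨m, hm⟩ := index_mod hP
  rw [← hndef] at hm
  rcases Nat.eq_zero_or_pos m with h0 | h0
  · rw [hm, h0, zero_mul, add_zero]
  exfalso
  have hn : (t : ℝ) + 2 ≤ n := by
    have : t + 2 ≤ n := by
      rw [hm, ← card_nz (P := P)]
      nlinarith [Nat.zero_le (nz P).card]
    exact_mod_cast this
  have ht : 7 ≤ t := by
    have := hP.card
    have := card_nz (P := P)
    omega
  have h3e : 3 * e ≤ t := by
    obtain ⟨c, hc⟩ := relIndex_dvd hP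
    rw [← hedef, ← htdef] at hc
    have hodd := odd_card_nz hP
    rw [← htdef, hc, Nat.odd_mul] at hodd
    obtain ⟨c', rfl⟩ := hodd.2
    have : c' ≠ 0 := fun h => by rw [h] at hc; omega
    rw [hc]
    nlinarith [Nat.pos_of_ne_zero this]
  have he0 : 0 < e := Nat.pos_of_ne_zero Subgroup.index_ne_zero_of_finite
  rw [Nat.cast_sub (show 1 ≤ t by omega), Nat.cast_one] at hcube
  have h3e' : 3 * (e : ℝ) ≤ t := by exact_mod_cast h3e
  have he0' : (0 : ℝ) < e := by exact_mod_cast he0
  have ht' : (7 : ℝ) ≤ t := by exact_mod_cast ht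
  have h4 := mul_le_mul_of_nonneg_left hS (by linarith : (0 : ℝ) ≤ n)
  rw [hcube] at h4
  have h5 : (n : ℝ) * ((t : ℝ) - e) ≤ e * ((t : ℝ) - 1) := by
    refine le_of_mul_le_mul_left ?_ (by positivity : (0 : ℝ) < ((t : ℝ) + 1) * t)
    linarith
  nlinarith [mul_le_mul hn (show 2 * (e : ℝ) ≤ (t : ℝ) - e by linarith) (by linarith) (by linarith)]

/-- With trivial odd core and `H` the whole group, `P` is normal and self-centralizing. -/
theorem normal_of_index_one (hO : ∀ N : Subgroup G, N.Normal → Odd (Nat.card N) → N = ⊥)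
    (h1 : (H P).index = 1) :
    (P : Subgroup G).Normal ∧ Subgroup.centralizer ((P : Subgroup G) : Set G) = P := by
  have htop : H P = ⊤ := Subgroup.index_eq_one.mp h1
  have hWn : (W P).Normal := by
    rw [← Subgroup.normalizer_eq_top_iff, eq_top_iff, ← htop]
    exact sup_le Subgroup.le_normalizer (nor_le_normalizer hP)
  have hW : W P = ⊥ := hO _ hWn (odd_W hP)
  have hN : nor P = ⊤ := by rw [← htop, H, hW, bot_sup_eq]
  refine ⟨Subgroup.normalizer_eq_top_iff.mp hN, ?_⟩
  refine (Subgroup.eq_of_le_of_card_ge hP.free.le_cen ?_).symm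
  have h := card_cen hP
  rw [hW, bot_inf_eq, Subgroup.card_bot, one_mul] at h
  exact h.le

end CfsgLib.Block.FreeElementary
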